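import Cfsg.Agent.Lib.DihedralDefect.Orbit
import Cfsg.Agent.Lib.DihedralDefect.RankThree.Quotient
import Cfsg.Agent.Lib.Watanabe.Main
import Cfsg.Agent.Lib.Blocks.ContributionCongr
import Cfsg.Agent.S4698
import Cfsg.Agent.S4733

/-!
# No five characters with one Brauer character and abelian defect group of order eight

Every contribution `m(χ₁, χ₁)` of the character of height one is `1/2`, so there are two classes of
subsections, and the block at the nontrivial one would have four Brauer characters.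
-/

set_option autoImplicit false
set_option linter.unusedSectionVars false
set_option linter.style.haveILetI false

namespace Cfsg.Agent.Blocks.FiveChars

open Cfsg Blocks
open Cfsg.Agent.BrauerPairs (blk blkG IsMax stabOf hasBlocks isBlockIdem_blkG)
open Cfsg.Agent.Blocks.NilRank
open scoped Classical ComplexConjugate

/-- A fourth root of unity is a Gaussian integer. -/
theorem gauss_of_pow_four {z : ℂ} (h : z ^ 4 = 1) :
    ∃ a b : ℤ, z = a + b * Complex.I := by
  have h' : (z - 1) * (z + 1) * ((z - Complex.I) * (z + Complex.I)) = 0 := by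
    have := Complex.I_sq
    linear_combination h - (z ^ 2 - 1) * this
  simp only [mul_eq_zero, sub_eq_zero, add_eq_zero_iff_eq_neg] at h'
  rcases h' with (rfl | rfl) | (rfl | rfl)
  · exact ⟨1, 0, by simp⟩
  · exact ⟨-1, 0, by simp⟩
  · exact ⟨0, 1, by simp⟩
  · exact ⟨0, -1, by simp⟩

theorem gauss_sum {ι : Type*} (s : Finset ι) (n : ι → ℤ) (μ : ι → ℂ) (hμ : ∀ i, μ i ^ 4 = 1) :
    ∃ a b : ℤ, ∑ i ∈ s, (n i : ℂ) * μ i = a + b * Complex.I := by
  choose f g h using fun i => gauss_of_pow_four (hμ i)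
  refine ⟨∑ i ∈ s, n i * f i, ∑ i ∈ s, n i * g i, ?_⟩
  rw [Int.cast_sum, Int.cast_sum, Finset.sum_mul, ← Finset.sum_add_distrib]
  refine Finset.sum_congr rfl fun i _ => ?_
  rw [h i]
  push_cast
  ring

theorem conj_gauss (a b : ℤ) :
    conj ((a : ℂ) + b * Complex.I) = a - b * Complex.I := by
  simp [Complex.ext_iff]

theorem gauss_mul_conj (a b : ℤ) :
    ((a : ℂ) + b * Complex.I) * conj ((a : ℂ) + b * Complex.I) = ((a ^ 2 + b ^ 2 : ℤ) : ℂ) := by
  rw [conj_gauss]
  have := Complex.I_sq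
  push_cast
  linear_combination (-(b : ℂ) ^ 2) * this

universe u

variable {G : Type u} [Group G] [Fintype G] {M : Ideal AlgInt} [M.IsMaximal]
  [hp : Fact (Nat.Prime 2)]

/-- A Gaussian integer that is twice a unit at `M` has norm at least four. -/
theorem four_le_norm (hpM : ((2 : ℕ) : AlgInt) ∈ M) {a b : ℤ} {w : ℂ}
    (hw : MemLocalRing M w) (hw' : ¬ MemLocalIdeal M w)
    (he : (a : ℂ) + b * Complex.I = 2 * w) : 4 ≤ a ^ 2 + b ^ 2 := by
  by_contra hlt
  have h2 : MemLocalIdeal M (2 : ℂ) := by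
    exact_mod_cast (memLocalIdeal_natCast_iff hpM 2).2 dvd_rfl
  have hI : MemLocalRing M Complex.I := memLocalRing_of_isIntegral
    (IsIntegral.of_pow (n := 4) (by norm_num) (by rw [Complex.I_pow_four]; exact isIntegral_one))
  have hc : MemLocalIdeal M (conj ((a : ℂ) + b * Complex.I)) := by
    rw [conj_gauss, show (a : ℂ) - b * Complex.I = 2 * (w - b * Complex.I) by
      linear_combination he]
    exact MemLocalIdeal.mul_right h2 (MemLocalRing.sub hw
      (MemLocalRing.mul (memLocalRing_intCast b) hI))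
  have hn : MemLocalIdeal M (w * conj ((a : ℂ) + b * Complex.I)) := MemLocalIdeal.mul_left hw hc
  obtain ⟨n, hn'⟩ : ∃ n : ℕ, a ^ 2 + b ^ 2 = n := ⟨_, (Int.toNat_of_nonneg (by positivity)).symm⟩
  have e : 2 * (w * conj ((a : ℂ) + b * Complex.I)) = (n : ℂ) := by
    rw [← mul_assoc, ← he, gauss_mul_conj, hn']
    norm_cast
  have hn4 : n < 4 := by omega
  rcases (by omega : n = 0 ∨ n = 2 ∨ n % 2 = 1) with h | h | h
  · refine hw' ?_
    have h0 : a ^ 2 + b ^ 2 = 0 := by rw [hn', h]; rfl
    have ha : a = 0 := by nlinarith [sq_nonneg a, sq_nonneg b]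
    have hb : b = 0 := by nlinarith [sq_nonneg a, sq_nonneg b]
    rw [ha, hb] at he
    simp at he
    rw [he]
    exact memLocalIdeal_zero
  · rw [h] at e
    have h1 : w * conj ((a : ℂ) + b * Complex.I) = 1 := by
      push_cast at e
      linear_combination e / 2
    rw [h1] at hn
    exact absurd ((memLocalIdeal_natCast_iff hpM 1).1 (by simpa using hn)) (by norm_num)
  · have := MemLocalIdeal.mul_left (memLocalRing_natCast (M := M) 2) hn
    push_cast at this
    rw [e, memLocalIdeal_natCast_iff hpM] at this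
    omega

/-- An element of the defect group of order dividing four: the contribution at the character of
height one is one half. -/
theorem contribution_eq_half (hpM : ((2 : ℕ) : AlgInt) ∈ M) {B : Set (IrrCharacter G)} {x : G}
    {k : ℕ} (hx : orderOf x = 2 ^ k) (hk : k ≤ 2)
    {b : Set (IrrCharacter (Subgroup.centralizer ({x} : Set G)))}
    (hb : IsInducedBlock M (Subgroup.centralizer ({x} : Set G)) b B)
    (hd : blockDefect 2 b = 3) (hdB : blockDefect 2 B = 3) (hcard : Nat.card B = 5)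
    {χ : IrrCharacter G} (hχ : χ ∈ B) (hh : blockHeight 2 B χ.1 = 1)
    (hzero : ∀ ψ ∈ B, ψ ≠ χ → blockHeight 2 B ψ.1 = 0) :
    contribution 2 b χ.1 χ.1 = 1 / 2 := by
  obtain ⟨μ, Z, hμ, hZ⟩ := exists_roots_combination hpM hx hb.1
  have hμ4 : ∀ i, μ i ^ 4 = 1 := fun i => by
    obtain ⟨j, hj⟩ : ∃ j, 4 = 2 ^ k * j := pow_dvd_pow 2 hk
    rw [hj, pow_mul, hμ, one_pow]
  choose a c hac using fun ψ : IrrCharacter G => gauss_sum Finset.univ (Z (χ, ψ)) μ hμ4
  have hz : ∀ ψ : IrrCharacter G,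
      8 * contribution 2 b χ.1 ψ.1 = (a ψ : ℂ) + c ψ * Complex.I := fun ψ => by
    rw [← hac ψ, hZ, hd]
    norm_num
  have hfour : ∀ ψ ∈ B, ψ ≠ χ → 4 ≤ a ψ ^ 2 + c ψ ^ 2 := by
    intro ψ hψ hne
    obtain ⟨h1, h2, -⟩ := contribution_height hpM hx hb (hd.trans hdB.symm) hχ hψ (hzero ψ hψ hne)
    rw [hd, hh] at h1 h2
    refine four_le_norm hpM h1 h2 ?_
    rw [← hz]
    norm_num
    ring
  have hreal : c χ = 0 := by
    have h := congrArg conj (hz χ)
    rw [map_mul, conj_contribution hpM hb.1, map_ofNat, hz χ, conj_gauss] at h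
    have := congrArg Complex.im h
    simp at this
    exact_mod_cast (by linarith : (c χ : ℝ) = 0)
  have hsum : ∑ ψ ∈ Finset.univ.filter (· ∈ B), (a ψ ^ 2 + c ψ ^ 2) = 8 * a χ := by
    refine Int.cast_injective (α := ℂ) ?_
    rw [Int.cast_sum]
    calc ∑ ψ ∈ Finset.univ.filter (· ∈ B), ((a ψ ^ 2 + c ψ ^ 2 : ℤ) : ℂ)
        = 64 * ∑ ψ ∈ Finset.univ.filter (· ∈ B),
            contribution 2 b χ.1 ψ.1 * conj (contribution 2 b χ.1 ψ.1) := by
          rw [Finset.mul_sum]
          refine Finset.sum_congr rfl fun ψ _ => ?_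
          rw [← gauss_mul_conj, ← hz, map_mul, map_ofNat]
          ring
      _ = _ := by
          rw [sum_contribution_mul_conj hpM hx hb χ]
          push_cast
          have := hz χ
          rw [hreal, Int.cast_zero, zero_mul, add_zero] at this
          linear_combination 8 * this
  have hχs : χ ∈ Finset.univ.filter (· ∈ B) := Finset.mem_filter.2 ⟨Finset.mem_univ _, hχ⟩
  have hlow : (16 : ℤ) ≤ ∑ ψ ∈ (Finset.univ.filter (· ∈ B)).erase χ, (a ψ ^ 2 + c ψ ^ 2) := by
    have h := Finset.card_nsmul_le_sum ((Finset.univ.filter (· ∈ B)).erase χ)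
      (fun ψ => a ψ ^ 2 + c ψ ^ 2) 4 fun ψ hψ =>
        hfour ψ (Finset.mem_filter.1 (Finset.mem_erase.1 hψ).2).2 (Finset.mem_erase.1 hψ).1
    have h5 : (Finset.univ.filter fun ψ : IrrCharacter G => ψ ∈ B).card = 5 := by
      rw [← hcard, Nat.card_eq_fintype_card, Fintype.card_subtype]
    rw [Finset.card_erase_of_mem hχs, h5] at h
    simpa using h
  rw [← Finset.add_sum_erase _ _ hχs, hreal] at hsum
  have ha : a χ = 4 := by nlinarith [sq_nonneg (a χ - 4)]
  have := hz χ
  rw [hreal, ha] at this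
  push_cast at this
  linear_combination this / 8

variable [CharP (AlgInt ⧸ M) 2] {B : Set (IrrCharacter G)} {P : Subgroup G}
  {e : MonoidAlgebra (AlgInt ⧸ M) G}

/-- The defect of the blocks at the elements of an abelian defect group. -/
theorem blockDefect_eU (hpM : ((2 : ℕ) : AlgInt) ∈ M) (hB : IsPBlock M B)
    (ha : IsMax 2 (blkG M B) (P, e)) (hcomm : P ≤ Subgroup.centralizer (P : Set G)) {x : G}
    (hx : x ∈ P) :
    2 ^ blockDefect 2 (blkSet M (Subgroup.centralizer ({x} : Set G)) (eU 2 P e x)) = Nat.card P ∧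
      IsDefectGroup 2 M (blkSet M (Subgroup.centralizer ({x} : Set G)) (eU 2 P e x))
        (P.subgroupOf (Subgroup.centralizer ({x} : Set G))) ∧
      P ≤ Subgroup.centralizer ({x} : Set G) := by
  obtain ⟨h1, h2⟩ := blkSet_spec (isBlockIdem_eU ha.1.1 hx)
  have hle : P ≤ Subgroup.centralizer ({x} : Set G) := fun y hy =>
    Subgroup.mem_centralizer_singleton_iff.2 (Subgroup.mem_centralizer_iff.1 (hcomm hy) x hx).symm
  have hD := BrauerPairs.defectIn_centralizer_of_comm (fun H => hasBlocks M H) (isBlockIdem_blkG hB)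
    ha hcomm (eU_spec ha.1.1 hx)
  rw [centralizer_zpowers_eq (x := x)] at hD
  have hD' : IsDefectGroup 2 M (blkSet M (Subgroup.centralizer ({x} : Set G)) (eU 2 P e x))
      (P.subgroupOf (Subgroup.centralizer ({x} : Set G))) :=
    (BrauerPairs.isDefectGroup_subgroupOf_iff h1 hle).2 (by rwa [h2])
  refine ⟨?_, hD', hle⟩
  rw [← card_defectGroup hpM h1 hD', Nat.card_congr (Subgroup.subgroupOfEquivOfLe hle).toEquiv]

/-- At a nontrivial element there are at most three Brauer characters. -/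
theorem blockRank_eU_le_three (hM : IsPModular 2 M) (hB : IsPBlock M B)
    (ha : IsMax 2 (blkG M B) (P, e)) (hcomm : P ≤ Subgroup.centralizer (P : Set G))
    (hP : Nat.card P = 8) {x : G} (hx : x ∈ P) (hx1 : x ≠ 1) :
    blockRank 2 (blkSet M (Subgroup.centralizer ({x} : Set G)) (eU 2 P e x)) ≤ 3 := by
  have hpM := hM.2.2
  obtain ⟨-, hD', hle⟩ := blockDefect_eU hpM hB ha hcomm hx
  obtain ⟨h1, -⟩ := blkSet_spec (isBlockIdem_eU ha.1.1 hx)
  set H := Subgroup.centralizer ({x} : Set G)
  set b := blkSet M H (eU 2 P e x)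
  set Z : Subgroup H := Subgroup.zpowers (secElt x)
  have hZ : Z ≤ Subgroup.center H :=
    Subgroup.zpowers_le.2 (Subgroup.mem_center_iff.2 fun g => ((commute_secElt g).eq).symm)
  haveI : Z.Normal := ⟨fun n hn g => by
    rwa [Subgroup.mem_center_iff.1 (hZ hn) g, mul_inv_cancel_right]⟩
  obtain ⟨k, hk⟩ := exists_orderOf_mem ha.1.1.1 hx
  have hord : orderOf (secElt x) = 2 ^ k := by rw [← Subgroup.orderOf_coe]; exact hk
  have hZp : IsPGroup 2 Z := IsPGroup.of_card (n := k) (by rw [Nat.card_zpowers, hord])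
  refine (DihedralDefect.blockRank_le_dominated Z hZ hZp hpM h1).trans ?_
  have hB' : IsPBlock M (CountBound.dominated Z b) :=
    CountBound.isPBlock_dominated Z hZ hZp hpM h1
  have hcard := CountBound.card_map_mul Z hZ hZp hpM h1 hD'
  have hD'' := CountBound.isDefectGroup_dominated Z hZ hZp hpM h1 hD'
  rw [card_defectGroup hpM hB' hD'', Nat.card_zpowers, hord,
    Nat.card_congr (Subgroup.subgroupOfEquivOfLe hle).toEquiv, hP, ← pow_add] at hcard
  have hd : blockDefect 2 (CountBound.dominated Z b) + k = 3 :=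
    Nat.pow_right_injective le_rfl (hcard.trans (by norm_num : (8 : ℕ) = 2 ^ 3))
  have hk0 : k ≠ 0 := by
    rintro rfl
    exact hx1 (orderOf_eq_one_iff.1 (by simpa using hk))
  obtain ⟨hl, -, hd0⟩ := S4733.result 2 M hM (CountBound.dominated Z b) hB'
  have hkB := (S4698.result 2 M hM (CountBound.dominated Z b) hB' _ rfl).1 (by omega)
  have hpow : 2 ^ blockDefect 2 (CountBound.dominated Z b) ≤ 4 :=
    (Nat.pow_le_pow_right (by norm_num) (by omega : _ ≤ 2)).trans (by norm_num)
  rcases eq_or_ne (blockDefect 2 (CountBound.dominated Z b)) 0 with h0 | h0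
  · rw [h0] at hkB
    omega
  · have hne : Nat.card (CountBound.dominated Z b) ≠ blockRank 2 (CountBound.dominated Z b) :=
      fun h => h0 (hd0.2 h)
    omega

/-- A cyclic defect group of order eight carries at least eight characters. -/
theorem not_isCyclic (hpM : ((2 : ℕ) : AlgInt) ∈ M) (hB : IsPBlock M B)
    (ha : IsMax 2 (blkG M B) (P, e)) (hcomm : P ≤ Subgroup.centralizer (P : Set G))
    (hP : Nat.card P = 8) (hk : Nat.card B ≤ 7) : ¬ IsCyclic P := by
  intro hcyc
  obtain ⟨g, hg⟩ := hcyc.exists_generator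
  set T := stabOf P e
  have hindex : ¬ 2 ∣ (Subgroup.centralizer (P : Set G)).relIndex T := by
    have h := Watanabe.not_dvd_relIndex_stabIn hB ha hcomm (R := ⊥) bot_le
    rwa [show Watanabe.stabIn P e ⊥ = T from inf_eq_left.2 fun g _ =>
      Subgroup.mem_centralizer_iff.2 fun x hx => by
        rw [Subgroup.mem_bot.1 hx, one_mul, mul_one]] at h
  haveI : ((Subgroup.centralizer (P : Set G)).subgroupOf T).Normal :=
    Subgroup.normal_subgroupOf_of_le_normalizer
      ((BrauerPairs.stabOf_le P e).trans (BrauerPairs.normalizer_le_normalizer_centralizer P))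
  set r := (Subgroup.centralizer (P : Set G)).relIndex T
  have hord : orderOf (g : G) = 8 := by
    rw [← hP, Subgroup.orderOf_coe, orderOf_eq_card_of_forall_mem_zpowers hg]
  have hfix : ∀ t ∈ T, ∀ x ∈ P, t * x * t⁻¹ = x := by
    intro t ht
    have hpow : ∀ x ∈ P, ∃ j : ℕ, (g : G) ^ j = x := fun x hx => by
      obtain ⟨j, hj⟩ := mem_zpowers_iff_mem_range_orderOf.1 (hg ⟨x, hx⟩) |> Finset.mem_image.1
      exact ⟨j, congrArg Subtype.val hj.2⟩
    obtain ⟨j, hj⟩ := hpow _ ((Subgroup.mem_normalizer_iff.1 ht.1 g).1 g.2)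
    have hiter : ∀ n : ℕ, t ^ n * g * (t ^ n)⁻¹ = (g : G) ^ (j ^ n) := fun n => by
      induction n with
      | zero => simp
      | succ n ih =>
        calc t ^ (n + 1) * g * (t ^ (n + 1))⁻¹
            = t * (t ^ n * g * (t ^ n)⁻¹) * t⁻¹ := by rw [pow_succ']; group
          _ = _ := by rw [ih, ← conj_pow, ← hj, ← pow_mul, pow_succ']
    have hr : t ^ r ∈ Subgroup.centralizer (P : Set G) :=
      ((Subgroup.centralizer (P : Set G)).subgroupOf T).pow_index_mem ⟨t, ht⟩
    have h1 : (g : G) ^ (j ^ r) = (g : G) ^ 1 := by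
      rw [← hiter, pow_one, ← Subgroup.mem_centralizer_iff.1 hr g g.2, mul_inv_cancel_right]
    rw [pow_eq_pow_iff_modEq, hord] at h1
    have hj1 : j % 8 = 1 := by
      have hodd : Odd (j ^ r) := Nat.odd_iff.2 (by
        have := h1.of_dvd (by norm_num : (2 : ℕ) ∣ 8)
        exact this)
      have hjo : Odd j := by
        by_contra he
        exact Nat.not_even_iff_odd.2 hodd ((Nat.even_pow' (by omega)).2 (Nat.not_odd_iff_even.1 he))
      obtain ⟨q, hq⟩ : Odd r := Nat.odd_iff.2 (by omega)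
      have h2 : j ^ 2 % 8 = 1 := by
        obtain ⟨i, rfl⟩ := hjo
        have := Nat.even_mul_succ_self i
        rw [show (2 * i + 1) ^ 2 = 4 * (i * (i + 1)) + 1 by ring]
        obtain ⟨s, hs⟩ := this
        omega
      have h3 : j ^ r % 8 = j % 8 := by
        rw [hq, pow_succ, pow_mul, Nat.mul_mod, Nat.pow_mod, h2]
        simp
      rw [← h3]; exact h1
    have hg1 : t * g * t⁻¹ = (g : G) := by
      rw [← hj]
      conv_rhs => rw [← pow_one (g : G)]
      rw [pow_eq_pow_iff_modEq, hord]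
      exact hj1
    intro x hx
    obtain ⟨i, rfl⟩ := hpow x hx
    rw [← conj_pow, hg1]
  have horb : ∀ x : P, (Watanabe.orb T (x : G)).card = 1 := fun x => Finset.card_eq_one.2
    ⟨x, Finset.eq_singleton_iff_unique_mem.2 ⟨Watanabe.self_mem_orb _ _, fun y hy => by
      obtain ⟨t, ht, rfl⟩ := Watanabe.mem_orb.1 hy
      exact hfix t ht x x.2⟩⟩
  have hsum := Watanabe.sum_wt hpM hB ha hcomm
  simp only [Watanabe.wt, T, horb, Nat.cast_one, div_one] at hsum
  rw [← Nat.cast_sum, Nat.cast_inj] at hsum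
  have hone : ∀ x : P,
      1 ≤ blockRank 2 (blkSet M (Subgroup.centralizer ({(x : G)} : Set G)) (eU 2 P e (x : G))) :=
    fun x => DihedralDefect.one_le_pairRank hpM hB ha.1 x.2
  have := Finset.card_nsmul_le_sum Finset.univ _ 1 fun x _ => hone x
  rw [hsum, Finset.card_univ, ← Nat.card_eq_fintype_card, hP, smul_eq_mul, mul_one] at this
  omega

/-- The defect group is not abelian. -/
theorem false_of_abelian (hM : IsPModular 2 M) (hB : IsPBlock M B)
    (ha : IsMax 2 (blkG M B) (P, e)) (hcomm : P ≤ Subgroup.centralizer (P : Set G))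
    (hP : Nat.card P = 8) (hdB : blockDefect 2 B = 3) (hk : Nat.card B = 5)
    (hl : blockRank 2 B = 1) {χ : IrrCharacter G} (hχ : χ ∈ B) (hh : blockHeight 2 B χ.1 = 1)
    (hzero : ∀ ψ ∈ B, ψ ≠ χ → blockHeight 2 B ψ.1 = 0) : False := by
  have hpM := hM.2.2
  have hcyc := not_isCyclic hpM hB ha hcomm hP (by omega)
  have hhalf : ∀ x : P, Watanabe.ctb 2 P e χ (x : G) = 1 / 2 := by
    intro x
    obtain ⟨k, hk'⟩ := exists_orderOf_mem ha.1.1.1 x.2
    have hk2 : k ≤ 2 := by
      by_contra hgt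
      have hdvd : orderOf x ∣ 8 := hP ▸ orderOf_dvd_natCard x
      rw [← Subgroup.orderOf_coe, hk'] at hdvd
      have : k = 3 := by
        have := (Nat.pow_dvd_pow_iff_le_right (x := 2) one_lt_two).1
          (show 2 ^ k ∣ 2 ^ 3 from hdvd)
        omega
      exact hcyc (isCyclic_of_orderOf_eq_card x (by rw [← Subgroup.orderOf_coe, hk', this, hP]; rfl))
    have hd := (blockDefect_eU hpM hB ha hcomm x.2).1
    rw [hP] at hd
    rw [Watanabe.ctb, sectF_eq_contribution]
    exact contribution_eq_half hpM hk' hk2 (isInducedBlock_eU hpM hB ha.1 x.2)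
      (Nat.pow_right_injective le_rfl (hd.trans (by norm_num : (8 : ℕ) = 2 ^ 3))) hdB hk hχ hh hzero
  set T := stabOf P e
  have h1orb : (Watanabe.orb T ((1 : P) : G)).card = 1 := Finset.card_eq_one.2
    ⟨1, Finset.eq_singleton_iff_unique_mem.2 ⟨Watanabe.self_mem_orb _ _, fun y hy => by
      obtain ⟨t, -, rfl⟩ := Watanabe.mem_orb.1 hy
      simp⟩⟩
  let c : P → ℝ := fun x => ((Watanabe.orb T (x : G)).card : ℝ)
  let l : P → ℝ := fun x =>
    (blockRank 2 (blkSet M (Subgroup.centralizer ({(x : G)} : Set G)) (eU 2 P e (x : G))) : ℝ)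
  have hctb : ∑ x : P, (1 / 2 : ℝ) / c x = 1 := by
    refine Complex.ofReal_injective ?_
    push_cast
    refine Eq.trans ?_ (Watanabe.sum_ctb hpM hB ha hcomm hχ)
    exact Finset.sum_congr rfl fun x _ => by simp [c, hhalf, T]
  have hwt : ∑ x : P, l x / c x = 5 := by
    refine Complex.ofReal_injective ?_
    push_cast
    rw [show (5 : ℂ) = (Nat.card B : ℂ) by rw [hk]; norm_num, ← Watanabe.sum_wt hpM hB ha hcomm]
    exact Finset.sum_congr rfl fun x _ => by simp [c, l, T, Watanabe.wt]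
  have hl1 : l 1 = 1 := by
    have h := DihedralDefect.pairRank_one hB ha.1
    unfold DihedralDefect.pairRank at h
    simp only [l, OneMemClass.coe_one]
    rw [h, hl, Nat.cast_one]
  have hc1 : c 1 = 1 := by simp only [c, h1orb, Nat.cast_one]
  rw [← Finset.add_sum_erase _ _ (Finset.mem_univ (1 : P))] at hctb hwt
  rw [hc1] at hctb hwt
  rw [hl1] at hwt
  have hle : ∑ x ∈ Finset.univ.erase (1 : P), l x / c x ≤
      ∑ x ∈ Finset.univ.erase (1 : P), 6 * ((1 / 2 : ℝ) / c x) := by
    refine Finset.sum_le_sum fun x hx => ?_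
    rw [mul_div_assoc' 6]
    refine div_le_div_of_nonneg_right ?_ (Nat.cast_nonneg _)
    have h3 := blockRank_eU_le_three hM hB ha hcomm hP x.2
      fun h => (Finset.mem_erase.1 hx).1 (Subtype.ext h)
    have h3' : (blockRank 2 (blkSet M (Subgroup.centralizer ({(x : G)} : Set G))
      (eU 2 P e (x : G))) : ℝ) ≤ (3 : ℕ) := Nat.cast_le.2 h3
    push_cast at h3'
    show l x ≤ _
    norm_num
    exact h3'
  rw [← Finset.mul_sum] at hle
  norm_num at hctb hwt hle
  linarith

end Cfsg.Agent.Blocks.FiveChars
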