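import Cfsg.Agent.Lib.Blocks.FiveChars.Local

/-!
# The corner of a block algebra with one simple module and at most five trace functions

`sdim_data`: its dimension is `c n²` with `c ≤ 8`, and it has a projective left ideal of dimension
`n c`.
-/

namespace Cfsg.Agent.Blocks.FiveChars

open LocalRankTwo
open Module (finrank)

set_option linter.style.haveILetI false

variable {k R : Type*} [Field k] [Ring R] [Algebra k R] [FiniteDimensional k R]

/-- A block algebra with one simple module and an `m`-dimensional space of trace functions,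
`m ≤ 5`. -/
theorem sdim_data [IsAlgClosed k] {e0 : R} (he : IsIdempotentElem e0) (hne : e0 ≠ 0)
    (hc : ∀ x, Commute e0 x) (F V : Submodule k (R →ₗ[k] k))
    (hF : ∀ τ, τ ∈ F ↔ (∀ x y, τ (x * y) = τ (y * x)) ∧ ∀ x, τ (x * e0) = τ x)
    (τ₀ : R →ₗ[k] k) (htr : ∀ x y, τ₀ (x * y) = τ₀ (y * x))
    (hnd : ∀ x : R, x ≠ 0 → ∃ y, τ₀ (x * y) ≠ 0)
    {m : ℕ} (hm : m ≤ 5) (hFm : finrank k F = m) (hV : finrank k V ≤ 1)
    (hVtr : ∀ (n : ℕ) (π : R →ₐ[k] Matrix (Fin n) (Fin n) k), π e0 = 1 → trFun π ∈ V) :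
    ∃ n c, c ≤ 8 ∧ finrank k (LinearMap.range (LinearMap.mulRight k e0)) = c * n ^ 2 ∧
      ∃ ε : R, IsIdempotentElem ε ∧
        finrank k (LinearMap.range (LinearMap.mulRight k ε)) = n * c := by
  classical
  obtain ⟨n, π, hn, hπ, hπ0, hker⟩ := exists_simple_quotient he hne hc hV hVtr
  haveI : NeZero n := ⟨hn.ne'⟩
  -- lift the first matrix unit
  obtain ⟨ε, hε, hπε, hε0⟩ : ∃ ε : R, IsIdempotentElem ε ∧ π ε = Matrix.single 0 0 1 ∧
      ε * e0 = ε := by
    let f : R →+* Matrix (Fin n) (Fin n) k × (R ⧸ Ring.jacobson R) :=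
      π.toRingHom.prod (Ideal.Quotient.mk (Ring.jacobson R))
    have hnil : ∀ x ∈ RingHom.ker f, IsNilpotent x := fun x hx =>
      isNilpotent_of_mem k (Ideal.Quotient.eq_zero_iff_mem.1 (congrArg Prod.snd hx))
    obtain ⟨a, ha⟩ := hπ (Matrix.single 0 0 1)
    have hid : IsIdempotentElem (f (a * e0)) := by
      refine Prod.ext ?_ ?_
      · show π (a * e0) * π (a * e0) = π (a * e0)
        rw [map_mul, ha, hπ0, mul_one, Matrix.single_mul_single_same, one_mul]
      · show Ideal.Quotient.mk _ (a * e0) * Ideal.Quotient.mk _ (a * e0) = Ideal.Quotient.mk _ (a * e0)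
        rw [← map_mul, Ideal.Quotient.mk_eq_mk_iff_sub_mem]
        have hx : π ((a * e0) * (a * e0) - a * e0) = 0 := by
          simp [map_mul, ha, hπ0, Matrix.single_mul_single_same]
        have := hker _ hx
        rwa [sub_mul, mul_assoc (a * e0), mul_assoc a e0 e0, he.eq] at this
    obtain ⟨e', he', hfe⟩ := exists_isIdempotentElem_eq_of_ker_isNilpotent f hnil _ ⟨_, rfl⟩ hid
    refine ⟨e' * e0, he'.mul_of_commute (hc e').symm he, ?_, by rw [mul_assoc, he.eq]⟩
    have h1 : π e' = π (a * e0) := congrArg Prod.fst hfe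
    rw [map_mul, hπ0, mul_one, h1, map_mul, hπ0, mul_one, ha]
  -- lifts of the matrix units of the first row and column
  choose U hU using fun j : Fin n => hπ (Matrix.single j 0 1)
  choose W hW using fun j : Fin n => hπ (Matrix.single 0 j 1)
  obtain ⟨v, hv⟩ : ∃ v : Fin n → R, v = fun j => ε * W j := ⟨_, rfl⟩
  set w := ∑ j, U j * ε * v j with hw
  have hπv : ∀ j, π (v j) = Matrix.single 0 j 1 := fun j => by
    rw [hv, map_mul, hπε, hW, Matrix.single_mul_single_same, one_mul]
  have hπw : π w = 1 := by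
    simp only [hw, map_sum, map_mul, hπε, hU, hπv, Matrix.single_mul_single_same, mul_one]
    ext a b
    rw [Matrix.sum_apply, Finset.sum_eq_single a (fun i _ hi => by simp [Matrix.single_apply, hi])
      (fun h => absurd (Finset.mem_univ a) h), Matrix.one_apply]
    simp [Matrix.single_apply]
  have hwe : w * e0 = w := by
    rw [hw, Finset.sum_mul]
    refine Finset.sum_congr rfl fun j _ => ?_
    simp only [hv, mul_assoc]
    rw [← (hc (W j)).eq, ← mul_assoc ε e0, hε0]
  have hunit : IsUnit (w + (1 - e0)) := by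
    have h : w + (1 - e0) = 1 + (w - e0) * e0 := by rw [sub_mul, hwe, he.eq]; abel
    rw [h]
    exact (isNilpotent_of_mem k (hker _ (by rw [map_sub, hπw, hπ0, sub_self]))).isUnit_one_add
  obtain ⟨z, hz⟩ := hunit
  set r : R := ↑z⁻¹
  have hrw : r * w = e0 := by
    have h : r * (w + (1 - e0)) * e0 = e0 := by rw [← hz, Units.inv_mul, one_mul]
    rwa [mul_assoc, add_mul, hwe, sub_mul, one_mul, he.eq, sub_self, add_zero] at h
  have hπr : π r = 1 := by
    have h := congrArg π (Units.inv_mul z)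
    rwa [map_mul, hz, map_add, map_sub, hπw, map_one, hπ0, sub_self, add_zero, mul_one] at h
  obtain ⟨u, hu⟩ : ∃ u : Fin n → R, u = fun j => r * (U j * ε) := ⟨_, rfl⟩
  have hπu : ∀ j, π (u j) = Matrix.single j 0 1 := fun j => by
    rw [hu, map_mul, map_mul, hπr, one_mul, hU, hπε, Matrix.single_mul_single_same, one_mul]
  have huv : ∑ j, u j * v j = e0 := by
    rw [← hrw, hw, Finset.mul_sum]
    exact Finset.sum_congr rfl fun j _ => by simp only [hu, mul_assoc]
  have hue : ∀ j, u j * ε = u j := fun j => by simp only [hu, mul_assoc, hε.eq]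
  have hve : ∀ j, ε * v j = v j := fun j => by simp only [hv, ← mul_assoc, hε.eq]
  have he0u : ∀ j, e0 * u j = u j := fun j => by
    rw [(hc (u j)).eq]; simp only [hu, mul_assoc, hε0]
  set C := LinearMap.range (LinearMap.mulLeftRight k (ε, ε)) with hC
  have hmemC : ∀ x, x ∈ C ↔ ε * x * ε = x := fun x => by
    constructor
    · rintro ⟨y, rfl⟩
      simp only [LinearMap.mulLeftRight_apply, mul_assoc, hε.eq]
      rw [← mul_assoc ε ε, hε.eq]
    · exact fun h => ⟨x, by simp [LinearMap.mulLeftRight_apply, h]⟩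
  have hεC : ε ∈ C := (hmemC ε).2 (by rw [hε.eq, hε.eq])
  have hεl : ∀ x ∈ C, ε * x = x := fun x hx => by
    rw [← (hmemC x).1 hx, ← mul_assoc, ← mul_assoc, hε.eq]
  have hεr : ∀ x ∈ C, x * ε = x := fun x hx => by
    rw [← (hmemC x).1 hx, mul_assoc, hε.eq]
  have hCmul : ∀ {a b}, a ∈ C → b ∈ C → a * b ∈ C := fun {a b} ha hb => (hmemC _).2 (by
    rw [← mul_assoc, hεl a ha, mul_assoc, hεr b hb])
  have hsand : ∀ i x l, v i * x * u l ∈ C := fun i x l => by
    rw [hmemC, ← mul_assoc, ← mul_assoc, hve, mul_assoc, hue]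
  have hτ : ∀ τ ∈ F, ∀ x, τ x = ∑ j, τ (v j * x * u j) := fun τ hτ x => by
    rw [← ((hF τ).1 hτ).2 x, ← huv, Finset.mul_sum, map_sum]
    exact Finset.sum_congr rfl fun j _ => by rw [← mul_assoc, ((hF τ).1 hτ).1, ← mul_assoc]
  -- restriction to the corner
  let res : F →ₗ[k] Module.Dual k C := (LinearMap.lcomp k k C.subtype).comp F.subtype
  have hres : Function.Injective res := by
    rw [injective_iff_map_eq_zero]
    intro τ h
    refine Subtype.ext (LinearMap.ext fun x => ?_)
    rw [hτ τ.1 τ.2]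
    exact Finset.sum_eq_zero fun j _ => LinearMap.congr_fun h ⟨_, hsand j x j⟩
  have hrange : ∀ σ : Module.Dual k C, (∀ (a b : R) (ha : a * b ∈ C) (hb : b * a ∈ C),
      a ∈ C → b ∈ C → σ ⟨a * b, ha⟩ = σ ⟨b * a, hb⟩) → σ ∈ LinearMap.range res := by
    intro σ hσ
    let pC : R →ₗ[k] C := (LinearMap.mulLeftRight k (ε, ε)).rangeRestrict
    have hpC : ∀ x (hx : x ∈ C), pC x = ⟨x, hx⟩ := fun x hx => Subtype.ext ((hmemC x).1 hx)
    have hσ' : ∀ a b, a ∈ C → b ∈ C → σ (pC (a * b)) = σ (pC (b * a)) := fun a b ha hb => by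
      rw [hpC _ (hCmul ha hb), hpC _ (hCmul hb ha)]
      exact hσ a b _ _ ha hb
    let τ : R →ₗ[k] k := ∑ j, σ ∘ₗ pC ∘ₗ LinearMap.mulLeftRight k (v j, u j)
    have hτa : ∀ x, τ x = ∑ j, σ (pC (v j * x * u j)) := fun x => by
      simp [τ, LinearMap.mulLeftRight_apply]
    have htr' : ∀ x y, τ (x * y) = τ (y * x) := by
      have key : ∀ x y, τ (x * y) = ∑ j, ∑ l, σ (pC ((v j * x * u l) * (v l * y * u j))) := by
        intro x y
        rw [hτa]
        refine Finset.sum_congr rfl fun j _ => ?_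
        rw [← map_sum, ← map_sum]
        congr 2
        calc v j * (x * y) * u j = v j * x * e0 * (y * u j) := by
              rw [mul_assoc (v j * x), ← mul_assoc e0, (hc y).eq, mul_assoc y, he0u]
              simp only [mul_assoc]
          _ = _ := by
              rw [← huv, Finset.mul_sum, Finset.sum_mul]
              exact Finset.sum_congr rfl fun l _ => by simp only [mul_assoc]
      intro x y
      rw [key, key, Finset.sum_comm]
      exact Finset.sum_congr rfl fun j _ => Finset.sum_congr rfl fun l _ =>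
        hσ' _ _ (hsand _ _ _) (hsand _ _ _)
    have htF : τ ∈ F := (hF τ).2 ⟨htr', fun x => by
      simp only [hτa]
      exact Finset.sum_congr rfl fun j _ => by rw [← mul_assoc, mul_assoc (v j * x), he0u]⟩
    refine ⟨⟨τ, htF⟩, LinearMap.ext fun c => ?_⟩
    show τ c.1 = σ c
    rw [hτa]
    refine Eq.trans ?_ (congrArg σ ((hpC c.1 c.2).trans (Subtype.coe_eta c c.2)))
    have h1 : ∀ j, σ (pC (v j * c.1 * u j)) = σ (pC (c.1 * u j * v j * ε)) := fun j => by
      have hA : v j * ε ∈ C := by rw [hmemC, ← mul_assoc, hve, mul_assoc, hε.eq]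
      have hB : c.1 * u j ∈ C := by rw [hmemC, ← mul_assoc, hεl _ c.2, mul_assoc, hue]
      rw [show v j * c.1 * u j = (v j * ε) * (c.1 * u j) by
        simp only [mul_assoc]; rw [← mul_assoc ε c.1, hεl _ c.2], hσ' _ _ hA hB, ← mul_assoc]
    simp only [h1]
    rw [← map_sum, ← map_sum]
    congr 2
    rw [← Finset.sum_mul, show ∑ j, c.1 * u j * v j = c.1 * e0 by
      rw [← huv, Finset.mul_sum]; exact Finset.sum_congr rfl fun j _ => mul_assoc _ _ _,
      mul_assoc, (hc ε).eq, hε0, hεr _ c.2]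
  have hdim : ∀ T : Submodule k R, T ≤ C → (∀ a b, a ∈ C → b ∈ C → a * b - b * a ∈ T) →
      finrank k C ≤ finrank k T + m := by
    intro T hTC hT
    set T' : Subspace k C := T.comap C.subtype
    have h1 := Subspace.finrank_add_finrank_dualAnnihilator_eq T'
    have h2 : finrank k T' = finrank k T := (Submodule.comapSubtypeEquivOfLe hTC).finrank_eq
    have h3 : finrank k T'.dualAnnihilator ≤ m := by
      rw [← hFm, ← LinearMap.finrank_range_of_inj hres]
      refine Submodule.finrank_mono fun σ hσ => hrange σ fun a b hab hba ha hb => ?_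
      rw [← sub_eq_zero, ← map_sub]
      exact (Submodule.mem_dualAnnihilator σ).1 hσ _ (hT a b ha hb)
    omega
  -- the radical of the corner
  set N : Submodule k R := C ⊓ LinearMap.ker π.toLinearMap with hN
  have hCe : ∀ x ∈ C, x * e0 = x := fun x hx => by
    rw [← (hmemC x).1 hx, mul_assoc, hε0]
  have hNJ : ∀ x ∈ N, x ∈ Ring.jacobson R := fun x hx => by
    rw [← hCe x hx.1]; exact hker x hx.2
  have hdec : ∀ x ∈ C, ∃ c : k, x - c • ε ∈ N := fun x hx => by
    refine ⟨π x 0 0, sub_mem hx (C.smul_mem _ hεC), ?_⟩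
    show π (x - π x 0 0 • ε) = 0
    have h : π x = Matrix.single 0 0 (π x 0 0) := by
      conv_lhs => rw [← (hmemC x).1 hx, map_mul, map_mul, hπε, Matrix.single_mul_mul_single]
      simp
    rw [map_sub, map_smul, hπε, h, Matrix.single_apply_same, Matrix.smul_single, smul_eq_mul,
      mul_one, sub_self]
  have hεN : ε ∉ N := fun h => by
    have := congrFun (congrFun (hπε.symm.trans h.2) 0) 0
    simp at this
  have hNmul : N * N ≤ N := Submodule.mul_le.2 fun a ha b hb =>
    ⟨hCmul ha.1 hb.1, by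
      show π (a * b) = 0
      rw [map_mul, show π a = 0 from ha.2, zero_mul]⟩
  have hndC : ∀ x ∈ C, x ≠ 0 → ∃ y ∈ C, τ₀ (x * y) ≠ 0 := fun x hx hx0 => by
    obtain ⟨y, hy⟩ := hnd x hx0
    refine ⟨ε * y * ε, (hmemC _).2 ?_, ?_⟩
    · rw [← mul_assoc, ← mul_assoc, hε.eq, mul_assoc, hε.eq]
    · rwa [show x * (ε * y * ε) = x * y * ε by rw [← mul_assoc, ← mul_assoc, hεr x hx], htr,
        ← mul_assoc, hεl x hx]
  have hC8 := finrank_le_eight hεC hεl hεr hdec inf_le_left hεN hNmul hNJ τ₀ htr hndC hm hdim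
  -- the matrix `v a * u i` is the identity modulo the radical
  have hD : ∀ a i, v a * u i - (if a = i then ε else 0) ∈ N := by
    intro a i
    refine ⟨sub_mem ?_ ?_, ?_⟩
    · have h := hsand a 1 i
      rwa [mul_one] at h
    · split_ifs
      · exact hεC
      · exact zero_mem _
    · show π (v a * u i - (if a = i then ε else 0)) = 0
      rw [map_sub, map_mul, hπv, hπu]
      split_ifs with h
      · subst h; rw [Matrix.single_mul_single_same, one_mul, hπε, sub_self]
      · rw [Matrix.single_mul_single_of_ne _ _ _ _ h, map_zero, sub_zero]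
  obtain ⟨M0, hM0⟩ := exists_radPow_eq_bot k R
  have hcol : ∀ c : Fin n → R, (∀ i, c i ∈ radPow k R 0 ∧ ε * c i = c i) → ∑ i, u i * c i = 0 →
      ∀ i, c i = 0 := by
    intro c hc' h0
    have hall : ∀ j, ∀ i, c i ∈ radPow k R j := fun j => by
      induction j with
      | zero => exact fun i => (hc' i).1
      | succ j ih =>
        intro a
        have h1 : ∑ i, (v a * u i) * c i = 0 := by
          rw [← mul_zero (v a), ← h0, Finset.mul_sum]
          exact Finset.sum_congr rfl fun i _ => mul_assoc _ _ _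
        have h2 : c a = -∑ i, (v a * u i - if a = i then ε else 0) * c i := by
          rw [eq_neg_iff_add_eq_zero]
          simp only [sub_mul, Finset.sum_sub_distrib, ite_mul, zero_mul, Finset.sum_ite_eq,
            Finset.mem_univ, if_true, h1, (hc' a).2]
          abel
        rw [h2]
        refine neg_mem (Submodule.sum_mem _ fun i _ => ?_)
        rw [mem_radPow, Ideal.IsTwoSided.pow_succ]
        exact Ideal.mul_mem_mul (hNJ _ (hD a i)) (mem_radPow.1 (ih i))
    intro i
    have := hall M0 i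
    rwa [hM0] at this
  have hrow : ∀ c : Fin n → R, (∀ i, c i ∈ radPow k R 0 ∧ c i * ε = c i) → ∑ i, c i * v i = 0 →
      ∀ i, c i = 0 := by
    intro c hc' h0
    have hall : ∀ j, ∀ i, c i ∈ radPow k R j := fun j => by
      induction j with
      | zero => exact fun i => (hc' i).1
      | succ j ih =>
        intro a
        have h1 : ∑ i, c i * (v i * u a) = 0 := by
          rw [← zero_mul (u a), ← h0, Finset.sum_mul]
          exact Finset.sum_congr rfl fun i _ => (mul_assoc _ _ _).symm
        have h2 : c a = -∑ i, c i * (v i * u a - if i = a then ε else 0) := by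
          rw [eq_neg_iff_add_eq_zero]
          simp only [mul_sub, Finset.sum_sub_distrib, mul_ite, mul_zero, Finset.sum_ite_eq',
            Finset.mem_univ, if_true, h1, (hc' a).2]
          abel
        rw [h2]
        refine neg_mem (Submodule.sum_mem _ fun i _ => ?_)
        rw [mem_radPow, Submodule.pow_succ]
        exact Ideal.mul_mem_mul (mem_radPow.1 (ih i)) (hNJ _ (hD i a))
    intro i
    have := hall M0 i
    rwa [hM0] at this
  have htop : ∀ x : R, x ∈ radPow k R 0 := fun x => by
    rw [mem_radPow, Submodule.pow_zero, Ideal.one_eq_top]; exact Submodule.mem_top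
  refine ⟨n, finrank k C, hC8, ?_, ε, hε, ?_⟩
  · set A := LinearMap.range (LinearMap.mulRight k e0) with hA
    have hmemA : ∀ x, x ∈ A ↔ x * e0 = x := fun x =>
      ⟨fun ⟨y, hy⟩ => by rw [← hy]; simp [mul_assoc, he.eq], fun h => ⟨x, by simpa using h⟩⟩
    let Ψ : (Fin n → Fin n → C) →ₗ[k] R :=
      ∑ i, ∑ l, LinearMap.mulLeftRight k (u i, v l) ∘ₗ C.subtype ∘ₗ LinearMap.proj l ∘ₗ LinearMap.proj i
    have hΨ : ∀ c, Ψ c = ∑ i, ∑ l, u i * (c i l).1 * v l := fun c => by
      simp [Ψ, LinearMap.mulLeftRight_apply]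
    have hΨr : LinearMap.range Ψ = A := by
      refine le_antisymm ?_ fun x hx => ⟨fun i l => ⟨_, hsand i x l⟩, ?_⟩
      · rintro _ ⟨c, rfl⟩
        rw [hmemA, hΨ, Finset.sum_mul]
        refine Finset.sum_congr rfl fun i _ => ?_
        rw [Finset.sum_mul]
        refine Finset.sum_congr rfl fun l _ => ?_
        simp only [hv, mul_assoc]
        rw [← (hc (W l)).eq, ← mul_assoc ε e0, hε0]
      · rw [hΨ]
        have : ∑ i, ∑ l, u i * (v i * x * u l) * v l = (∑ i, u i * v i) * x * ∑ l, u l * v l := by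
          rw [Finset.sum_mul, Finset.sum_mul]
          exact Finset.sum_congr rfl fun i _ => by rw [Finset.mul_sum]; simp only [mul_assoc]
        rw [this, huv, (hc x).eq, mul_assoc, he.eq, (hmemA x).1 hx]
    have hΨi : Function.Injective Ψ := by
      rw [injective_iff_map_eq_zero]
      intro c hc0
      rw [hΨ] at hc0
      have h1 : ∑ i, u i * (∑ l, (c i l).1 * v l) = 0 := by
        rw [← hc0]
        exact Finset.sum_congr rfl fun i _ => by
          rw [Finset.mul_sum]; exact Finset.sum_congr rfl fun l _ => (mul_assoc _ _ _).symm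
      have h2 := hcol _ (fun i => ⟨htop _, by
        rw [Finset.mul_sum]
        exact Finset.sum_congr rfl fun l _ => by rw [← mul_assoc, hεl _ (c i l).2]⟩) h1
      funext a b
      exact Subtype.ext (hrow (fun l => (c a l).1) (fun l => ⟨htop _, hεr _ (c a l).2⟩) (h2 a) b)
    rw [← hΨr, LinearMap.finrank_range_of_inj hΨi, Module.finrank_pi_fintype]
    simp [Module.finrank_pi_fintype]
    ring
  · set A := LinearMap.range (LinearMap.mulRight k ε) with hA
    have hmemA : ∀ x, x ∈ A ↔ x * ε = x := fun x =>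
      ⟨fun ⟨y, hy⟩ => by rw [← hy]; simp [mul_assoc, hε.eq], fun h => ⟨x, by simpa using h⟩⟩
    let Ψ : (Fin n → C) →ₗ[k] R :=
      ∑ i, LinearMap.mulLeft k (u i) ∘ₗ C.subtype ∘ₗ LinearMap.proj i
    have hΨ : ∀ c, Ψ c = ∑ i, u i * (c i).1 := fun c => by simp [Ψ]
    have hΨr : LinearMap.range Ψ = A := by
      refine le_antisymm ?_ fun x hx => ⟨fun i => ⟨v i * x, ?_⟩, ?_⟩
      · rintro _ ⟨c, rfl⟩
        rw [hmemA, hΨ, Finset.sum_mul]
        exact Finset.sum_congr rfl fun i _ => by rw [mul_assoc, hεr _ (c i).2]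
      · rw [hmemC, ← mul_assoc, hve, mul_assoc, (hmemA x).1 hx]
      · rw [hΨ]
        have : ∑ i, u i * (v i * x) = e0 * x := by
          rw [← huv, Finset.sum_mul]; simp only [mul_assoc]
        rw [this, (hc x).eq, ← (hmemA x).1 hx, mul_assoc, hε0]
    have hΨi : Function.Injective Ψ := by
      rw [injective_iff_map_eq_zero]
      intro c hc0
      rw [hΨ] at hc0
      funext i
      exact Subtype.ext (hcol (fun i => (c i).1) (fun i => ⟨htop _, hεl _ (c i).2⟩) hc0 i)
    rw [← hΨr, LinearMap.finrank_range_of_inj hΨi, Module.finrank_pi_fintype]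
    simp

end Cfsg.Agent.Blocks.FiveChars
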