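import Cfsg.Agent.Lib.Blocks.FewChars
import Cfsg.Agent.Lib.Blocks.FiveChars.Corner

/-!
# Blocks of rank one with at most five irreducible characters

* `exists_degree_sum_sq`: `Σ χ(1)² = c n²` with `c ≤ 8` and `|G|_p ∣ n c`.
-/

namespace Cfsg.Agent.Blocks.FiveChars

open scoped ComplexConjugate
open Cfsg Matrix TwoChars

set_option linter.style.haveILetI false

universe u

variable {G : Type u} [Group G] [Fintype G] {M : Ideal AlgInt} [M.IsMaximal]

variable {B : Set (IrrCharacter G)}

open Classical in
/-- A block of rank one with at most five characters: the sum of the squares of the degrees is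
`c n²` with `c ≤ 8`, and the `p`-part of `|G|` divides `n c`. -/
theorem exists_degree_sum_sq {p : ℕ} [Fact p.Prime] (hpM : (p : AlgInt) ∈ M) (hB : IsPBlock M B)
    (hk : Nat.card B ≤ 5) (hl : blockRank p B = 1) :
    ∃ n c : ℕ, c ≤ 8 ∧ ∑ χ : B, (Char.degree χ.1) ^ 2 = c * n ^ 2 ∧
      p ^ (Nat.card G).factorization p ∣ n * c := by
  haveI := isAlgClosed_residue (M := M)
  haveI := charP_residue (p := p) hpM
  have hp : p.Prime := Fact.out
  have hpM' : ∃ p : ℕ, p.Prime ∧ (p : AlgInt) ∈ M := ⟨p, hp, hpM⟩
  set k := AlgInt ⧸ M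
  set R := MonoidAlgebra k G
  haveI : FiniteDimensional k R := moduleFinite
  set e0 : R := redA M (blockIdem B) with he0
  have he : IsIdempotentElem e0 := by
    rw [IsIdempotentElem, he0, ← redA_mul (scoeff_blockIdem hB) (scoeff_blockIdem hB),
      blockIdem_mul_self]
  have hcent : ∀ x, Commute e0 x :=
    IsCentralElt.commute (isCentralElt_redA (isCentralElt_blockIdem B))
  have hne : e0 ≠ 0 := fun h => by
    obtain ⟨g, hg⟩ := exists_defectClass (M := M) hB
    exact hg.2.1 (((redA_eq_zero_iff (scoeff_blockIdem hB)).1 h g) |> fun h' => by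
      simpa [coeff_blockIdem] using h')
  -- ranks
  set E := classMat hB
  have hEC : IsIdempotentElem ((classMat hB).map (localInt M).subtype) := by
    rw [classMat_map_val hpM' hB, IsIdempotentElem, Matrix.mul_assoc, ← Matrix.mul_assoc (coordMat B),
      coordMat_mul_valMat, Matrix.one_mul]
  have hE : IsIdempotentElem E := by
    ext K L : 1
    apply Subtype.val_injective
    have := congrFun (congrFun hEC.eq K) L
    rw [← Matrix.map_mul] at this
    simpa using this
  have hrankE : (E.map (redHom M)).rank = Nat.card B := by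
    rw [rank_map_redHom_of_isIdempotentElem hE]
    have h := rank_eq_trace hEC
    rw [classMat_map_val hpM' hB, Matrix.trace_mul_comm, coordMat_mul_valMat, Matrix.trace_one,
      ← Nat.card_eq_fintype_card] at h
    rw [classMat_map_val hpM' hB]
    exact_mod_cast h
  set P := elemMat hB
  have hrankP : ((P.map (redHom M)).rank : ℂ) = ∑ χ : B, ((Char.degree χ.1 : ℕ) : ℂ) ^ 2 := by
    rw [rank_map_redHom_of_isIdempotentElem (elemMat_idem hB),
      rank_eq_trace (E := P.map (localInt M).subtype)
        ((elemMat_idem hB).map (localInt M).subtype.mapMatrix), Matrix.trace]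
    show ∑ x : G, blockCoeff B (x⁻¹ * x) = _
    simp only [inv_mul_cancel, Finset.sum_const, Finset.card_univ, nsmul_eq_mul,
      ← Nat.card_eq_fintype_card, blockCoeff_eq_sum]
    rw [← mul_assoc, mul_inv_cancel₀ (Nat.cast_ne_zero.2 Nat.card_pos.ne'), one_mul,
      Finset.sum_subtype (p := (· ∈ B)) _ (by simp)]
    refine Finset.sum_congr rfl fun χ _ => ?_
    rw [Char.apply_one_eq_degree, map_natCast, sq]
  -- trace functionals
  let F : Submodule k (R →ₗ[k] k) :=
    { carrier := {τ | (∀ x y, τ (x * y) = τ (y * x)) ∧ ∀ x, τ (x * e0) = τ x}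
      zero_mem' := ⟨fun _ _ => rfl, fun _ => rfl⟩
      add_mem' := fun {a b} ha hb => ⟨fun x y => by simp [ha.1 x y, hb.1 x y], fun x => by
        simp [ha.2 x, hb.2 x]⟩
      smul_mem' := fun c a ha => ⟨fun x y => by simp [ha.1 x y], fun x => by simp [ha.2 x]⟩ }
  let res : (R →ₗ[k] k) →ₗ[k] (ConjClasses G → k) :=
    LinearMap.pi fun K => LinearMap.applyₗ (MonoidAlgebra.single (rep K) 1)
  have hresF : ∀ τ ∈ F, (E.map (redHom M)) *ᵥ res τ = res τ := fun τ hτ => funext fun K => by
    refine (apply_idem_mul_single hB τ hτ.1 K).symm.trans ?_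
    rw [(hcent _).eq, hτ.2]
    rfl
  have hclassF : ∀ τ ∈ F, ∀ g, τ (MonoidAlgebra.single g 1) = res τ (ConjClasses.mk g) :=
    fun τ hτ g => tr_single_conj hτ.1 (ConjClasses.mk_eq_mk_iff_isConj.1 (mk_rep (ConjClasses.mk g)))
  have hresinj : Function.Injective (res.domRestrict F) := fun a b h => Subtype.ext <| lin_ext
    fun g => by rw [hclassF _ a.2, hclassF _ b.2]; exact congrFun h _
  have hF2 : Module.finrank k F = Nat.card B := by
    rw [← LinearMap.finrank_range_of_inj hresinj, ← hrankE, Matrix.rank]
    refine congrArg (fun S : Submodule k (ConjClasses G → k) => Module.finrank k S)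
      (le_antisymm ?_ ?_)
    · rintro _ ⟨τ, rfl⟩
      exact ⟨_, hresF τ.1 τ.2⟩
    rintro _ ⟨f₀, rfl⟩
    set f := (E.map (redHom M)) *ᵥ f₀
    have hf : (E.map (redHom M)) *ᵥ f = f := by
      rw [Matrix.mulVec_mulVec, ← Matrix.map_mul, hE.eq]
    have htr := tr_classFunctional f
    have hres : res (classFunctional f) = f := funext fun K => by
      show classFunctional f (MonoidAlgebra.single (rep K) 1) = _
      rw [classFunctional_single, one_mul, mk_rep]
    refine ⟨⟨classFunctional f, htr, fun x => ?_⟩, hres⟩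
    have : (classFunctional f).comp (LinearMap.mulRight k e0) = classFunctional f := by
      refine lin_ext fun g => ?_
      show classFunctional f (MonoidAlgebra.single g 1 * e0) = _
      obtain ⟨c, hc⟩ := isConj_iff.1
        (ConjClasses.mk_eq_mk_iff_isConj.1 (mk_rep (ConjClasses.mk g)))
      rw [classFunctional_single, one_mul, ← (hcent _).eq,
        show classFunctional f (e0 * MonoidAlgebra.single g 1) =
          classFunctional f (e0 * MonoidAlgebra.single (rep (ConjClasses.mk g)) 1) by
          have h1 : (MonoidAlgebra.single c 1 : R) * (e0 * MonoidAlgebra.single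
              (rep (ConjClasses.mk g)) 1) * MonoidAlgebra.single c⁻¹ 1 =
              e0 * MonoidAlgebra.single g 1 := by
            rw [← mul_assoc, ← (hcent _).eq, mul_assoc, mul_assoc]
            simp [R, ← mul_assoc, hc]
          rw [← h1, htr, ← mul_assoc]
          simp [R, ← MonoidAlgebra.one_def],
        apply_idem_mul_single hB _ htr]
      exact (congrFun ((congrArg ((E.map (redHom M)) *ᵥ ·) hres).trans hf) _)
    exact LinearMap.congr_fun this x
  -- functionals depending on regular parts
  let V : Submodule k (R →ₗ[k] k) :=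
    { carrier := {τ | τ ∈ F ∧ ∀ s u : G, Commute s u → IsPRegular p s → (∃ j, orderOf u = p ^ j) →
        τ (MonoidAlgebra.single (s * u) 1) = τ (MonoidAlgebra.single s 1)}
      zero_mem' := ⟨F.zero_mem, fun _ _ _ _ _ => rfl⟩
      add_mem' := fun {a b} ha hb => ⟨F.add_mem ha.1 hb.1, fun s u h1 h2 h3 => by
        simp [ha.2 s u h1 h2 h3, hb.2 s u h1 h2 h3]⟩
      smul_mem' := fun c a ha => ⟨F.smul_mem c ha.1, fun s u h1 h2 h3 => by
        simp [ha.2 s u h1 h2 h3]⟩ }
  let RC := {K : ConjClasses G // IsPRegular p (rep K)}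
  have hV : Module.finrank k V ≤ 1 := by
    let resR : V →ₗ[k] (RC → k) :=
      (LinearMap.funLeft k k (Subtype.val : RC → ConjClasses G)).comp (res.comp V.subtype)
    have hinj : Function.Injective resR := by
      rw [injective_iff_map_eq_zero]
      intro τ h
      refine Subtype.ext (lin_ext fun g => ?_)
      show τ.1 (MonoidAlgebra.single g 1) = 0
      obtain ⟨x, s, hxs, hcomm, ⟨j, hj⟩, hs⟩ := exists_isPPart (p := p) g
      have hsR : IsPRegular p s := hs
      rw [← hxs, hcomm.eq, τ.2.2 s x hcomm.symm hsR ⟨j, hj⟩, hclassF _ τ.2.1]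
      have hK : IsPRegular p (rep (ConjClasses.mk s)) := by
        obtain ⟨c, hc⟩ := isConj_iff.1
          (ConjClasses.mk_eq_mk_iff_isConj.1 (mk_rep (ConjClasses.mk s)))
        intro hd
        apply hsR
        rwa [← hc, ← MulAut.conj_apply, MulEquiv.orderOf_eq]
      exact congrFun h ⟨_, hK⟩
    set N : Matrix RC (ConjClasses G) (localInt M) := E.submatrix Subtype.val id
    have hN : (N.map (localInt M).subtype).rank ≤ 1 := by
      obtain ⟨χ₀, hχ₀⟩ := block_nonempty hB
      have hsplit : N.map (localInt M).subtype =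
          Matrix.vecMulVec (fun K : RC => χ₀.1 (rep K.1))
            (fun L => ∑ χ : B, χ.1.1 1 / χ₀.1 1 * coordMat B χ L) := by
        ext K L
        have h := congrFun (congrFun (classMat_map_val hpM' hB) K.1) L
        rw [Matrix.map_apply] at h
        rw [Matrix.map_apply]
        refine Eq.trans h ?_
        rw [Matrix.mul_apply, Matrix.vecMulVec_apply, Finset.mul_sum]
        refine Finset.sum_congr rfl fun χ _ => ?_
        have hr := congrFun (BrauerPairs.regFun_eq_smul_of_rank_one hp hl hχ₀ χ.2) (rep K.1)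
        rw [Pi.smul_apply, Char.regFun, Char.regFun, if_neg K.2, if_neg K.2, smul_eq_mul] at hr
        rw [valMat, hr]
        ring
      rw [hsplit]
      exact Matrix.rank_vecMulVec_le _ _
    refine ((LinearMap.finrank_range_of_inj hinj).symm.le.trans (Submodule.finrank_mono ?_)).trans
      ((rank_map_redHom_le N).trans hN)
    rintro _ ⟨τ, rfl⟩
    refine ⟨res τ.1, funext fun K => ?_⟩
    exact congrFun (hresF τ.1 τ.2.1) K.1
  have hVtr : ∀ (n : ℕ) (π : R →ₐ[k] Matrix (Fin n) (Fin n) k),
      π e0 = 1 → LocalRankTwo.trFun π ∈ V := by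
    intro n π hπ
    refine ⟨⟨fun x y => ?_, fun x => ?_⟩, fun s u hsu hs hu => ?_⟩
    · show Matrix.trace (π (x * y)) = Matrix.trace (π (y * x))
      rw [map_mul, map_mul, Matrix.trace_mul_comm]
    · show Matrix.trace (π (x * e0)) = Matrix.trace (π x)
      rw [map_mul, hπ, mul_one]
    · show Matrix.trace (π (MonoidAlgebra.single (s * u) 1)) =
        Matrix.trace (π (MonoidAlgebra.single s 1))
      rcases Nat.eq_zero_or_pos n with rfl | hn
      · simp [Matrix.trace]
      haveI : Nonempty (Fin n) := ⟨⟨0, hn⟩⟩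
      haveI : CharP (Matrix (Fin n) (Fin n) k) p :=
        charP_of_injective_algebraMap (R := k) (fun a b h => by
          simpa [Matrix.algebraMap_matrix_apply] using congrFun (congrFun h ⟨0, hn⟩) ⟨0, hn⟩) p
      set S := π (MonoidAlgebra.single s 1)
      set U := π (MonoidAlgebra.single u 1)
      obtain ⟨j, hj⟩ := hu
      have hSU : Commute S U := by
        refine Commute.map ?_ π
        show _ * _ = _ * _
        simp [R, hsu.eq]
      have hUn : IsNilpotent (U - 1) := ⟨p ^ j, by
        rw [sub_pow_char_pow_of_commute _ _ (Commute.one_right U), one_pow, ← map_pow,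
          MonoidAlgebra.single_pow, one_pow, ← hj, pow_orderOf_eq_one, ← MonoidAlgebra.one_def,
          map_one, sub_self]⟩
      rw [show π (MonoidAlgebra.single (s * u) 1) = S + S * (U - 1) by
        rw [mul_sub, mul_one, add_sub_cancel, ← map_mul]; simp [R], Matrix.trace_add,
        (Matrix.isNilpotent_trace_of_isNilpotent
          ((hSU.sub_right (Commute.one_right S)).isNilpotent_mul_left hUn)).eq_zero, add_zero]
  haveI : FiniteDimensional k V := inferInstance
  -- the symmetrizing form
  let τ₀ : R →ₗ[k] k :=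
    { toFun := fun z => z.coeff 1
      map_add' := fun z w => rfl
      map_smul' := fun c z => rfl }
  have htr : ∀ x y, τ₀ (x * y) = τ₀ (y * x) := fun x y => by
    show (x * y).coeff 1 = (y * x).coeff 1
    rw [coeff_mul_eq_sum, coeff_mul_eq_sum']
    exact Finset.sum_congr rfl fun z _ => by rw [mul_one, one_mul, mul_comm]
  have hnd : ∀ x : R, x ≠ 0 → ∃ y, τ₀ (x * y) ≠ 0 := fun x hx => by
    obtain ⟨g, hg⟩ : ∃ g, x.coeff g ≠ 0 := by
      by_contra h
      push Not at h
      exact hx (alg_ext fun g => by simpa using h g)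
    refine ⟨MonoidAlgebra.single g⁻¹ 1, ?_⟩
    show (x * MonoidAlgebra.single g⁻¹ (1 : k)).coeff 1 ≠ 0
    rwa [coeff_mul_single', inv_inv, one_mul, mul_one]
  obtain ⟨n, c, hc8, hn, ε, hε, hn'⟩ := sdim_data he hne hcent F V (fun τ => Iff.rfl) τ₀ htr
    hnd hk hF2 hV hVtr
  refine ⟨n, c, hc8, ?_, ?_⟩
  swap
  · obtain ⟨S⟩ : Nonempty (Sylow p G) := inferInstance
    rw [← hn', ← S.card_eq_multiplicity]
    exact ProjDim.card_dvd_finrank_range_mulRight S.isPGroup' hε
  rw [← hn]
  set φ : R ≃ₗ[k] (G → k) := coordEquiv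
  have hmap : (LinearMap.range (LinearMap.mulRight k e0)).map φ.toLinearMap =
      LinearMap.range (P.map (redHom M)).mulVecLin := by
    rw [← LinearMap.range_comp]
    have : φ.toLinearMap ∘ₗ LinearMap.mulRight k e0 = (P.map (redHom M)).mulVecLin ∘ₗ φ.toLinearMap := by
      refine LinearMap.ext fun z => funext fun g => ?_
      show (z * e0).coeff g = _
      rw [coeff_mul_eq_sum]
      simp only [LinearMap.comp_apply, Matrix.mulVecLin_apply, Matrix.mulVec, dotProduct,
        Matrix.map_apply, redHom_apply, he0, coeff_redA, coeff_blockIdem]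
      refine Finset.sum_congr rfl fun y _ => ?_
      rw [mul_comm]
      rfl
    rw [this, LinearMap.range_comp, LinearEquiv.range, Submodule.map_top]
  have hfin : Module.finrank k (LinearMap.range (LinearMap.mulRight k e0)) = (P.map (redHom M)).rank := by
    rw [Matrix.rank, ← hmap]
    exact (LinearEquiv.finrank_map_eq φ _).symm
  rw [hfin]
  exact_mod_cast hrankP.symm

end Cfsg.Agent.Blocks.FiveChars
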