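import Cfsg.Agent.Lib.Blocks.FiveChars.Block
import Cfsg.Agent.Lib.BrauerPairs.RankOne

/-!
# The decomposition numbers of a block with one Brauer character and five characters
-/

set_option autoImplicit false
set_option linter.style.haveILetI false

namespace Cfsg.Agent.Blocks.FiveChars

open Cfsg Cfsg.Agent.BrauerPairs
open scoped Cfsg.Agent.Blocks Classical

universe u

/-- Five positive squares with sum at most eight. -/
theorem five_squares {ι : Type*} [Fintype ι] (hι : Fintype.card ι = 5) (d : ι → ℕ)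
    (hd : ∀ i, 1 ≤ d i) (hle : ∑ i, d i ^ 2 ≤ 8) :
    (∑ i, d i ^ 2 = 5) ∨ (∑ i, d i ^ 2 = 8 ∧ ∃ i, d i = 2 ∧ ∀ j ≠ i, d j = 1) := by
  by_cases h : ∀ i, d i = 1
  · left
    simp [h, hι]
  right
  push Not at h
  obtain ⟨i, hi⟩ := h
  have h2 : 2 ≤ d i := by have := hd i; omega
  have hrest : ∀ j ≠ i, d j = 1 := by
    intro j hj
    by_contra hne
    have h2' : 2 ≤ d j := by have := hd j; omega
    have hji : j ∈ Finset.univ.erase i := Finset.mem_erase.2 ⟨hj, Finset.mem_univ _⟩
    rw [← Finset.add_sum_erase _ _ (Finset.mem_univ i), ← Finset.add_sum_erase _ _ hji] at hle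
    have hrest := Finset.card_nsmul_le_sum ((Finset.univ.erase i).erase j) (fun l => d l ^ 2) 1
      fun l _ => Nat.one_le_pow _ _ (hd l)
    rw [Finset.card_erase_of_mem hji, Finset.card_erase_of_mem (Finset.mem_univ i), Finset.card_univ,
      hι, smul_eq_mul] at hrest
    have := Nat.pow_le_pow_left h2 2
    have := Nat.pow_le_pow_left h2' 2
    omega
  rw [← Finset.add_sum_erase _ _ (Finset.mem_univ i), Finset.sum_congr rfl
    (g := fun _ => 1) fun j hj => by rw [hrest j (Finset.mem_erase.1 hj).1, one_pow]] at hle ⊢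
  simp only [Finset.sum_const, smul_eq_mul, mul_one, Finset.card_erase_of_mem (Finset.mem_univ i),
    Finset.card_univ, hι] at hle ⊢
  have h3 : d i ≤ 2 := by
    by_contra hgt
    have := Nat.pow_le_pow_left (show 3 ≤ d i by omega) 2
    omega
  have e : d i = 2 := by omega
  exact ⟨by rw [e]; rfl, i, e, hrest⟩

variable {G : Type u} [Group G] [Fintype G] {p : ℕ} [Fact p.Prime] {M : Ideal AlgInt}
  [M.IsMaximal] [CharP (AlgInt ⧸ M) p]

/-- Either the defect group has order five, or `p = 2`, its order is eight, and exactly one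
character has height one, all others height zero. -/
theorem defect_data (hpM : (p : AlgInt) ∈ M) {B : Set (IrrCharacter G)} (hB : IsPBlock M B)
    (hl : blockRank p B = 1) (hk : Nat.card B = 5) :
    p ^ blockDefect p B = 5 ∨ (p = 2 ∧ blockDefect p B = 3 ∧
      ∃ χ ∈ B, blockHeight p B χ.1 = 1 ∧ ∀ ψ ∈ B, ψ ≠ χ → blockHeight p B ψ.1 = 0) := by
  have hp : p.Prime := Fact.out
  obtain ⟨φ, d, ⟨m, hm⟩, hφ, hS⟩ := rank_one_data hpM hB hl
  obtain ⟨n, c, hc8, hn, hdvd⟩ := exists_degree_sum_sq hpM hB hk.le hl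
  obtain ⟨χ, hχ, h0⟩ := Blocks.exists_height_zero hpM hB
  set a := (Nat.card G).factorization p with ha
  set s := sInf ((fun χ : IrrCharacter G => (charDegree (χ : G → ℂ)).factorization p) '' B) with hs
  have hdef : blockDefect p B = a - s := rfl
  have hsle : s ≤ a := by
    rw [hs, ← Char.factorization_degree_of_height_zero hχ h0]
    exact (Nat.factorization_le_iff_dvd (Char.degree_pos χ).ne' Nat.card_pos.ne').2
      (Char.degree_dvd_natCard χ) p
  have h1 : IsPRegular p (1 : G) := by simp [IsPRegular, hp.ne_one]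
  have hφ1 := hm 1 h1
  simp only [Char.apply_one_eq_degree] at hφ1
  rw [finsum_mem_eq_toFinset_sum, Finset.sum_subtype (p := (· ∈ B)) B.toFinset
    (fun _ => Set.mem_toFinset)] at hφ1 hS
  set g0 : ℤ := ∑ ν : B, m ν.1 * (Char.degree ν.1 : ℤ) with hg0
  have hg : φ 1 = (g0 : ℂ) := by rw [hφ1, hg0]; push_cast; rfl
  have hdeg : ∀ ν : B, Char.degree ν.1 = d ν.1 * g0.natAbs := fun ν => by
    have h := hφ ν.1 ν.2 1 h1
    rw [Char.apply_one_eq_degree, hg] at h
    have h' : (Char.degree ν.1 : ℤ) = (d ν.1 : ℤ) * g0 := by exact_mod_cast h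
    have := congrArg Int.natAbs h'
    rwa [Int.natAbs_natCast, Int.natAbs_mul, Int.natAbs_natCast] at this
  set g := g0.natAbs with hgdef
  have hgpos : g ≠ 0 := fun h => by
    have := hdeg ⟨χ, hχ⟩
    rw [h, mul_zero] at this
    exact (Char.degree_pos χ).ne' this
  have hdpos : ∀ ν : B, 1 ≤ d ν.1 := fun ν => Nat.one_le_iff_ne_zero.2 fun h => by
    have := hdeg ν
    rw [h, zero_mul] at this
    exact (Char.degree_pos ν.1).ne' this
  have hgs : g.factorization p = s := by
    refine le_antisymm ?_ ?_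
    · rw [hs, ← Char.factorization_degree_of_height_zero hχ h0]
      exact (Nat.factorization_le_iff_dvd hgpos (Char.degree_pos χ).ne').2
        ⟨d χ, by rw [hdeg ⟨χ, hχ⟩, mul_comm]⟩ p
    · refine (hp.pow_dvd_iff_le_factorization hgpos).1 (Int.natCast_dvd.1 ?_)
      rw [hg0]
      refine Finset.dvd_sum fun ν _ => dvd_mul_of_dvd_right ?_ _
      refine Int.natCast_dvd_natCast.2 ?_
      refine (hp.pow_dvd_iff_le_factorization (Char.degree_pos ν.1).ne').2 ?_
      rw [← Blocks.charDegree_eq]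
      exact Nat.sInf_le ⟨ν.1, ν.2, rfl⟩
  have hsum : g ^ 2 * p ^ (a - s) = c * n ^ 2 := by
    rw [← hn, ← hdef, ← hS, Finset.mul_sum]
    exact Finset.sum_congr rfl fun ν _ => by rw [hdeg ν]; ring
  have h0' : c * n ^ 2 ≠ 0 :=
    hsum ▸ mul_ne_zero (pow_ne_zero _ hgpos) (pow_ne_zero _ hp.ne_zero)
  have hc0 : c ≠ 0 := left_ne_zero_of_mul h0'
  have hn0 : n ≠ 0 := fun h => h0' (by rw [h, zero_pow two_ne_zero, mul_zero])
  have hv := congrArg (fun x => x.factorization p) hsum
  simp only [Nat.factorization_mul (pow_ne_zero 2 hgpos) (pow_ne_zero _ hp.ne_zero),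
    Nat.factorization_mul hc0 (pow_ne_zero 2 hn0), Nat.factorization_pow, Finsupp.add_apply,
    Finsupp.smul_apply, smul_eq_mul, hp.factorization_self, hgs] at hv
  have hv2 := (hp.pow_dvd_iff_le_factorization (mul_ne_zero hn0 hc0)).1 hdvd
  rw [Nat.factorization_mul hn0 hc0, Finsupp.add_apply] at hv2
  have hdc : p ^ blockDefect p B ∣ c := by
    refine (hp.pow_dvd_iff_le_factorization hc0).2 ?_
    rw [hdef]
    omega
  have hle : p ^ blockDefect p B ≤ 8 := (Nat.le_of_dvd (Nat.pos_of_ne_zero hc0) hdc).trans hc8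
  have hcardB : Fintype.card B = 5 := by rw [← Nat.card_eq_fintype_card]; exact hk
  rcases five_squares hcardB (fun ν : B => d ν.1) hdpos (hS ▸ hle) with h5 | ⟨h8, i, hi, hrest⟩
  · exact Or.inl (hS ▸ h5)
  rw [hS] at h8
  have hp2 : p = 2 := by
    refine (Nat.prime_dvd_prime_iff_eq hp Nat.prime_two).1 (hp.dvd_of_dvd_pow (n := 3) ?_)
    rw [show 2 ^ 3 = p ^ blockDefect p B by rw [h8]; rfl]
    exact dvd_pow_self p fun h => by rw [h, pow_zero] at h8; omega
  subst hp2
  refine Or.inr ⟨rfl, Nat.pow_right_injective le_rfl (h8.trans (by norm_num : (8 : ℕ) = 2 ^ 3)),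
    i.1, i.2, ?_⟩
  have hht : ∀ ν : B, blockHeight 2 B ν.1.1 = (d ν.1).factorization 2 := fun ν => by
    show (charDegree (ν.1 : G → ℂ)).factorization 2 - s = _
    rw [Blocks.charDegree_eq, hdeg ν, Nat.factorization_mul (by have := hdpos ν; omega) hgpos,
      Finsupp.add_apply, hgs, Nat.add_sub_cancel]
  refine ⟨?_, fun ψ hψ hne => ?_⟩
  · rw [hht i, hi, Nat.prime_two.factorization_self]
  · rw [hht ⟨ψ, hψ⟩, hrest ⟨ψ, hψ⟩ fun h => hne (congrArg Subtype.val h), Nat.factorization_one,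
      Finsupp.zero_apply]

end Cfsg.Agent.Blocks.FiveChars
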