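import Cfsg.Agent.Lib.Blocks.FiveChars.Two

/-!
# Local symmetric algebras with at most five trace functions (Chlebowitz–Külshammer)

`finrank_le_eight`: such an algebra has dimension at most eight.
-/

namespace Cfsg.Agent.Blocks.FiveChars

open Module (finrank)

variable {k R : Type*} [Field k] [Ring R] [Algebra k R]

/-- Commutators with products of two elements. -/
theorem comm2_sq_le (A B : Submodule k R) : comm2 (A * A) B ≤ comm2 A (A * B ⊔ B * A) := by
  refine comm2_le fun x hx b hb => ?_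
  induction hx using Submodule.mul_induction_on' with
  | mem_mul_mem a ha a' ha' =>
    rw [show a * a' * b - b * (a * a') = (a * (a' * b) - a' * b * a) + (a' * (b * a) - b * a * a') by
      simp only [mul_assoc]; abel]
    exact add_mem (mem_comm2 ha (Submodule.mem_sup_left (Submodule.mul_mem_mul ha' hb)))
      (mem_comm2 ha' (Submodule.mem_sup_right (Submodule.mul_mem_mul hb ha)))
  | add x _ y _ ihx ihy =>
    rw [show (x + y) * b - b * (x + y) = (x * b - b * x) + (y * b - b * y) by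
      simp only [add_mul, mul_add]; abel]
    exact add_mem ihx ihy

/-- Commutators of sums. -/
theorem comm2_sup_le {A B A' S : Submodule k R} (h₁ : comm2 A B ≤ S) (h₂ : comm2 A' B ≤ S) :
    comm2 (A ⊔ A') B ≤ S := by
  refine comm2_le fun x hx b hb => ?_
  obtain ⟨a, ha, a', ha', rfl⟩ := Submodule.mem_sup.1 hx
  rw [show (a + a') * b - b * (a + a') = (a * b - b * a) + (a' * b - b * a') by
    simp only [add_mul, mul_add]; abel]
  exact add_mem (h₁ (mem_comm2 ha hb)) (h₂ (mem_comm2 ha' hb))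

variable {ε : R} {C N : Submodule k R} {τ : R →ₗ[k] k} {L : ℕ}

namespace LocalSym

theorem comm2_sq (h : LocalSym ε C N τ L) {j : ℕ} (hj : 1 ≤ j) :
    comm2 (N ^ 2) (N ^ j) ≤ comm2 N (N ^ (j + 1)) := by
  rw [pow_two]
  refine (comm2_sq_le N (N ^ j)).trans (comm2_le fun a ha b hb => mem_comm2 ha ?_)
  rwa [← pow_succ', ← pow_succ, sup_idem] at hb

theorem comm2_le_pow (_h : LocalSym ε C N τ L) {i j : ℕ} :
    comm2 (N ^ i) (N ^ j) ≤ N ^ (i + j) :=
  comm2_le fun a ha b hb => sub_mem (mul_mem_pow ha hb) (add_comm j i ▸ mul_mem_pow hb ha)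

variable [FiniteDimensional k R]

/-- Two generators of a subspace modulo another one. -/
theorem exists_two {A B : Submodule k R} (hBA : B ≤ A) (hd : finrank k A ≤ finrank k B + 2) :
    ∃ x ∈ A, ∃ y ∈ A, A ≤ Submodule.span k {x, y} ⊔ B := by
  by_cases h1 : A ≤ B
  · exact ⟨0, A.zero_mem, 0, A.zero_mem, h1.trans le_sup_right⟩
  obtain ⟨x, hx, hxB⟩ := SetLike.not_le_iff_exists.1 h1
  by_cases h2 : A ≤ Submodule.span k {x} ⊔ B
  · exact ⟨x, hx, 0, A.zero_mem, h2.trans (sup_le_sup_right (Submodule.span_mono (by simp)) B)⟩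
  obtain ⟨y, hy, hyB⟩ := SetLike.not_le_iff_exists.1 h2
  refine ⟨x, hx, y, hy, ?_⟩
  have hlt1 : B < Submodule.span k {x} ⊔ B := lt_of_le_of_ne le_sup_right fun e =>
    hxB (e.symm ▸ Submodule.mem_sup_left (Submodule.mem_span_singleton_self x))
  have hlt2 : Submodule.span k {x} ⊔ B < Submodule.span k {x, y} ⊔ B :=
    lt_of_le_of_ne (sup_le_sup_right (Submodule.span_mono (by simp)) B) fun e =>
      hyB (e.symm ▸ Submodule.mem_sup_left (Submodule.subset_span (by simp)))
  have hle : Submodule.span k {x, y} ⊔ B ≤ A :=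
    sup_le (Submodule.span_le.2 (by rintro _ (rfl | rfl) <;> assumption)) hBA
  have := Submodule.finrank_lt_finrank_of_lt hlt1
  have := Submodule.finrank_lt_finrank_of_lt hlt2
  exact (Submodule.eq_of_le_of_finrank_le hle (by omega)).ge

/-- Commutators of two generators. -/
theorem comm2_two (h : LocalSym ε C N τ L) {x y : R} (hx : x ∈ N) (hy : y ∈ N)
    (hgen : N ≤ Submodule.span k {x, y} ⊔ N ^ 2) :
    comm2 N N ≤ Submodule.span k {x * y - y * x} ⊔ comm2 N (N ^ 2) := by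
  refine (comm2_le fun a ha b hb => ?_ : comm2 N N ≤ _)
  obtain ⟨a₁, ha₁, a₂, ha₂, rfl⟩ := Submodule.mem_sup.1 (hgen ha)
  obtain ⟨b₁, hb₁, b₂, hb₂, rfl⟩ := Submodule.mem_sup.1 (hgen hb)
  obtain ⟨α, β, rfl⟩ := Submodule.mem_span_pair.1 ha₁
  obtain ⟨γ, δ, rfl⟩ := Submodule.mem_span_pair.1 hb₁
  have hlin : α • x + β • y ∈ N := add_mem (N.smul_mem α hx) (N.smul_mem β hy)
  rw [show (α • x + β • y + a₂) * (γ • x + δ • y + b₂) - (γ • x + δ • y + b₂) * (α • x + β • y + a₂) =
      (α * δ - β * γ) • (x * y - y * x) + (((α • x + β • y) * b₂ - b₂ * (α • x + β • y)) +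
        -((γ • x + δ • y + b₂) * a₂ - a₂ * (γ • x + δ • y + b₂))) by
    simp only [add_mul, mul_add, smul_mul_assoc, mul_smul_comm]
    module]
  exact add_mem (Submodule.mem_sup_left (Submodule.smul_mem _ _
    (Submodule.mem_span_singleton_self _)))
    (Submodule.mem_sup_right (add_mem (mem_comm2 hlin hb₂) (neg_mem (mem_comm2 hb ha₂))))

/-- Three generators: nothing beyond degree three. -/
theorem le_three_of_three [IsAlgClosed k] (h : LocalSym ε C N τ L) (hL : 4 ≤ L)
    (hd : finrank k N = finrank k ↥(N ^ 2) + 3)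
    (hK : finrank k ↥(N ^ 2) ≤ finrank k (comm2 N N) + 1) : False := by
  have hN2le : N ^ 2 ≤ comm2 N N ⊔ N ^ L :=
    (Submodule.eq_of_le_of_finrank_le (sup_le h.comm2_le_sq (h.anti (by norm_num) (by omega)))
      (hK.trans h.comm2_add_one_le)).ge
  have hN2K : N ^ 2 ≤ comm2 N N ⊔ N ^ 3 :=
    hN2le.trans (sup_le_sup_left (h.anti (by norm_num) (by omega)) _)
  have hsq1 : N ^ 2 ≤ nul N τ L 1 := h.succ_le_nul le_rfl (by omega)
  have hnle : nul N τ L 1 ≤ N := le_trans inf_le_left (pow_one N).le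
  by_cases hker : finrank k ↥(N ^ 2) < finrank k (nul N τ L 1)
  · obtain ⟨x, hx, y, hy, hgen⟩ := exists_two hnle (by omega)
    refine h.false_of_two_cubic (by omega) hx hy hgen (hN2K.trans (sup_le ?_
      ((h.succ_le_nul (by norm_num) (by omega)).trans le_sup_right)))
    refine comm2_le fun a ha b hb => ?_
    obtain ⟨a₁, ha₁, a₂, ha₂, rfl⟩ := Submodule.mem_sup.1 (hgen ha)
    obtain ⟨b₁, hb₁, b₂, hb₂, rfl⟩ := Submodule.mem_sup.1 (hgen hb)
    obtain ⟨α, β, rfl⟩ := Submodule.mem_span_pair.1 ha₁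
    obtain ⟨γ, δ, rfl⟩ := Submodule.mem_span_pair.1 hb₁
    have hlin : α • x + β • y ∈ N := add_mem (N.smul_mem α hx) (N.smul_mem β hy)
    rw [show (α • x + β • y + a₂) * (γ • x + δ • y + b₂) -
        (γ • x + δ • y + b₂) * (α • x + β • y + a₂) =
        (α * δ - β * γ) • (x * y - y * x) + (((α • x + β • y) * b₂ - b₂ * (α • x + β • y)) +
          (a₂ * (γ • x + δ • y + b₂) - (γ • x + δ • y + b₂) * a₂)) by
      simp only [add_mul, mul_add, smul_mul_assoc, mul_smul_comm]
      module]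
    refine add_mem (Submodule.mem_sup_left (Submodule.smul_mem _ _
      (Submodule.mem_span_singleton_self _))) (Submodule.mem_sup_right (add_mem ?_ ?_))
    · exact sub_mem (h.nul_mul_one (by omega) hb₂ hlin).2 (h.nul_mul_one (by omega) hb₂ hlin).1
    · exact sub_mem (h.nul_mul_one (by omega) ha₂ hb).1 (h.nul_mul_one (by omega) ha₂ hb).2
  push Not at hker
  have hE1 := h.nul_one_eq hker
  have hlay : ∀ i, 2 ≤ i → i ≤ L - 1 → finrank k (nul N τ L i) + 3 ≤ finrank k ↥(N ^ i) := by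
    intro i hi hiL
    by_contra hlt
    have := h.layer_last (D := 2) le_rfl hi hiL (by omega)
    omega
  -- generators and their commutators
  obtain ⟨x₁, hx₁, hx₁'⟩ : ∃ x ∈ N, x ∉ N ^ 2 := SetLike.not_le_iff_exists.1 fun e => by
    have := Submodule.finrank_mono e; omega
  obtain ⟨x₂, hx₂, x₃, hx₃, hgen'⟩ := exists_two (A := N) (B := Submodule.span k {x₁} ⊔ N ^ 2)
    (sup_le ((Submodule.span_singleton_le_iff_mem _ _).2 hx₁) (h.pow_le (by norm_num))) (by
      have hlt : N ^ 2 < Submodule.span k {x₁} ⊔ N ^ 2 := lt_of_le_of_ne le_sup_right fun e =>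
        hx₁' (e.symm ▸ Submodule.mem_sup_left (Submodule.mem_span_singleton_self x₁))
      have := Submodule.finrank_lt_finrank_of_lt hlt
      omega)
  classical
  set c := fun a b : R => a * b - b * a with hc
  set Z₀ := Submodule.span k (({c x₁ x₂, c x₁ x₃, c x₂ x₃} : Finset R) : Set R) with hZ₀
  have hK2 : comm2 N N ≤ Z₀ ⊔ comm2 N (N ^ 2) := by
    refine (comm2_le fun a ha b hb => ?_ : comm2 N N ≤ _)
    obtain ⟨a', ha', a₂, ha₂, rfl⟩ := Submodule.mem_sup.1 (hgen' ha)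
    obtain ⟨b', hb', b₂, hb₂, rfl⟩ := Submodule.mem_sup.1 (hgen' hb)
    obtain ⟨a₁, ha₁, a₃, ha₃, rfl⟩ := Submodule.mem_sup.1 ha₂
    obtain ⟨b₁, hb₁, b₃, hb₃, rfl⟩ := Submodule.mem_sup.1 hb₂
    obtain ⟨α, β, rfl⟩ := Submodule.mem_span_pair.1 ha'
    obtain ⟨γ, δ, rfl⟩ := Submodule.mem_span_pair.1 hb'
    obtain ⟨μ, rfl⟩ := Submodule.mem_span_singleton.1 ha₁
    obtain ⟨ν, rfl⟩ := Submodule.mem_span_singleton.1 hb₁
    have hlin : α • x₂ + β • x₃ + μ • x₁ ∈ N :=
      add_mem (add_mem (N.smul_mem α hx₂) (N.smul_mem β hx₃)) (N.smul_mem μ hx₁)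
    rw [show (α • x₂ + β • x₃ + (μ • x₁ + a₃)) * (γ • x₂ + δ • x₃ + (ν • x₁ + b₃)) -
        (γ • x₂ + δ • x₃ + (ν • x₁ + b₃)) * (α • x₂ + β • x₃ + (μ • x₁ + a₃)) =
        ((μ * γ - ν * α) • c x₁ x₂ + (μ * δ - ν * β) • c x₁ x₃ + (α * δ - γ * β) • c x₂ x₃) +
          (((α • x₂ + β • x₃ + μ • x₁) * b₃ - b₃ * (α • x₂ + β • x₃ + μ • x₁)) +
          -((γ • x₂ + δ • x₃ + (ν • x₁ + b₃)) * a₃ - a₃ * (γ • x₂ + δ • x₃ + (ν • x₁ + b₃)))) by
      simp only [hc, add_mul, mul_add, smul_mul_assoc, mul_smul_comm]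
      module]
    exact add_mem (Submodule.mem_sup_left (add_mem (add_mem
      (Submodule.smul_mem _ _ (Submodule.subset_span (by simp)))
      (Submodule.smul_mem _ _ (Submodule.subset_span (by simp))))
      (Submodule.smul_mem _ _ (Submodule.subset_span (by simp)))))
      (Submodule.mem_sup_right (add_mem (mem_comm2 hlin hb₃) (neg_mem (mem_comm2 hb ha₃))))
  have hT3 : comm2 N (N ^ 2) ≤ N ^ 3 := by
    have := h.comm2_le_pow (i := 1) (j := 2)
    rwa [pow_one] at this
  have hZ₀2 : Z₀ ≤ N ^ 2 := by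
    refine Submodule.span_le.2 fun z hz => ?_
    simp only [Finset.coe_insert, Finset.coe_singleton, Set.mem_insert_iff, Set.mem_singleton_iff] at hz
    rcases hz with rfl | rfl | rfl <;>
      exact h.comm2_le_sq (mem_comm2 (by assumption) (by assumption))
  have hN2Z : N ^ 2 ≤ Z₀ ⊔ N ^ 3 :=
    hN2K.trans (sup_le (hK2.trans (sup_le_sup_left hT3 _)) le_sup_right)
  have hd2 : finrank k ↥(N ^ 2) + finrank k ↥(Z₀ ⊓ N ^ 3 : Submodule k R) ≤
      finrank k ↥(N ^ 3) + 3 := by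
    have h1 := Submodule.finrank_sup_add_finrank_inf_eq Z₀ (N ^ 3)
    have h2 : finrank k Z₀ ≤ 3 := (finrank_span_finset_le_card _).trans Finset.card_le_three
    have h3 := Submodule.finrank_mono hN2Z
    omega
  have h23 : N ^ 3 ≤ nul N τ L 2 := h.succ_le_nul (by norm_num) (by omega)
  have h2 := hlay 2 le_rfl (by omega)
  have h3 := hlay 3 (by norm_num) (by omega)
  have h3' := Submodule.finrank_mono h23
  have hinf : Z₀ ⊓ N ^ 3 = ⊥ := Submodule.finrank_eq_zero.1 (by omega)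
  have hN3 : N ^ 3 ≤ comm2 N (N ^ 2) ⊔ N ^ L := by
    intro v hv
    obtain ⟨w, hw, s, hs, rfl⟩ := Submodule.mem_sup.1 (hN2le (h.anti (by norm_num) (by norm_num) hv))
    obtain ⟨z, hz, t, ht, rfl⟩ := Submodule.mem_sup.1 (hK2 hw)
    have hz0 : z = 0 := by
      rw [← Submodule.mem_bot k, ← hinf]
      refine ⟨hz, ?_⟩
      have e : z = z + t + s - t - s := by abel
      rw [e]
      exact sub_mem (sub_mem hv (hT3 ht)) (h.anti (by norm_num) (by omega) hs)
    rw [hz0, zero_add]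
    exact Submodule.mem_sup.2 ⟨t, ht, s, hs, rfl⟩
  -- the graded product
  obtain ⟨m, l, r, hm, hl, hr, hassoc, hkl, hkr⟩ := h.graded (by omega)
  have dV := finrank_lay (A := N) hnle
  have dW := finrank_lay (A := N ^ 2) (A' := nul N τ L 2) inf_le_left
  have dZ := finrank_lay (A := N ^ 3) (A' := nul N τ L 3) inf_le_left
  have dV' : finrank k (nul N τ L 1) = finrank k ↥(N ^ 2) := by rw [hE1]
  have hWc : Submodule.span k {z | ∃ a b, z = m a b - m b a} = ⊤ := by
    refine span_lay (A := N ^ 2) (A' := nul N τ L 2) {z | ∃ a ∈ N, ∃ b ∈ N, z = a * b - b * a}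
      (by rintro _ ⟨a, ha, b, hb, rfl⟩; exact h.comm2_le_sq (mem_comm2 ha hb))
      (hN2K.trans (sup_le_sup_left h23 _)) _ ?_
    rintro _ ⟨a, ha, b, hb, rfl⟩
    refine Submodule.subset_span ⟨Submodule.Quotient.mk ⟨a, ha⟩, Submodule.Quotient.mk ⟨b, hb⟩, ?_⟩
    have h1 : a * b ∈ N ^ 2 := pow_two N ▸ Submodule.mul_mem_mul ha hb
    have h2 : b * a ∈ N ^ 2 := pow_two N ▸ Submodule.mul_mem_mul hb ha
    rw [hm ⟨a, ha⟩ ⟨b, hb⟩ h1, hm ⟨b, hb⟩ ⟨a, ha⟩ h2, ← Submodule.Quotient.mk_sub]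
    rfl
  have hZc : Submodule.span k {z | ∃ a w, z = l a w - r w a} = ⊤ := by
    refine span_lay (A := N ^ 3) (A' := nul N τ L 3) {z | ∃ a ∈ N, ∃ b ∈ N ^ 2, z = a * b - b * a}
      (by rintro _ ⟨a, ha, b, hb, rfl⟩; exact hT3 (mem_comm2 ha hb))
      (hN3.trans (sup_le_sup_left ((h.anti (by norm_num) (by omega)).trans
        (h.succ_le_nul (by norm_num) (by omega) : N ^ 4 ≤ _)) _)) _ ?_
    rintro _ ⟨a, ha, b, hb, rfl⟩
    refine Submodule.subset_span ⟨Submodule.Quotient.mk ⟨a, ha⟩, Submodule.Quotient.mk ⟨b, hb⟩, ?_⟩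
    have h1 : a * b ∈ N ^ 3 := pow_succ' N 2 ▸ Submodule.mul_mem_mul ha hb
    have h2 : b * a ∈ N ^ 3 := pow_succ N 2 ▸ Submodule.mul_mem_mul hb ha
    rw [hl ⟨a, ha⟩ ⟨b, hb⟩ h1, hr ⟨b, hb⟩ ⟨a, ha⟩ h2, ← Submodule.Quotient.mk_sub]
    rfl
  have := finrank_three_le_two m l r hassoc (by omega) (by omega) hWc hZc hkl hkr
  omega

/-- Two generators with commuting layer two. -/
theorem false_of_comm_sq (h : LocalSym ε C N τ L) (hL : 4 ≤ L)
    (hd : finrank k N = finrank k ↥(N ^ 2) + 2) (hK : finrank k ↥(N ^ 2) ≤ finrank k ↥(N ^ 3) + 1)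
    (hnc : ¬ ∀ a ∈ N, ∀ b ∈ N, a * b = b * a) : False := by
  have h23 : N ^ 3 ≤ nul N τ L 2 := h.succ_le_nul (by norm_num) (by omega)
  have hd2 := Submodule.finrank_mono h23
  have hlast := h.layer_last (D := 1) (i := 2) (by norm_num) le_rfl (by omega) (by omega)
  have hnle : nul N τ L 1 ≤ N := le_trans inf_le_left (pow_one N).le
  obtain ⟨v, hv, hv1⟩ : ∃ v ∈ N, v ∉ nul N τ L 1 := SetLike.not_le_iff_exists.1 fun e =>
    h.false_of_pow_le_nul (i := 1) (by omega) ((pow_one N).le.trans e)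
  have hgen1 : N ≤ Submodule.span k {v} ⊔ nul N τ L 1 := by
    have hlt : nul N τ L 1 < Submodule.span k {v} ⊔ nul N τ L 1 := lt_of_le_of_ne le_sup_right
      fun e => hv1 (e.symm ▸ Submodule.mem_sup_left (Submodule.mem_span_singleton_self v))
    exact (Submodule.eq_of_le_of_finrank_le
      (sup_le ((Submodule.span_singleton_le_iff_mem _ _).2 hv) hnle)
      (by have := Submodule.finrank_lt_finrank_of_lt hlt; omega)).ge
  have hpowE : ∀ j, 1 ≤ j → j ≤ L → N ^ j ≤ Submodule.span k {v ^ j} ⊔ nul N τ L j := by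
    intro j hj
    induction j, hj using Nat.le_induction with
    | base => exact fun _ => by simpa using hgen1
    | succ j hj ih =>
      intro hjL
      rw [pow_succ, Submodule.mul_le]
      intro x hx a ha
      obtain ⟨u, hu, e, he, rfl⟩ := Submodule.mem_sup.1 (ih (by omega) hx)
      obtain ⟨c, rfl⟩ := Submodule.mem_span_singleton.1 hu
      obtain ⟨u', hu', e', he', rfl⟩ := Submodule.mem_sup.1 (hgen1 ha)
      obtain ⟨c', rfl⟩ := Submodule.mem_span_singleton.1 hu'
      rw [add_mul, mul_add, smul_mul_assoc, mul_smul_comm, smul_mul_assoc, ← pow_succ]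
      refine add_mem (add_mem (Submodule.mem_sup_left (Submodule.smul_mem _ _
        (Submodule.smul_mem _ _ (Submodule.mem_span_singleton_self _)))) (Submodule.mem_sup_right ?_))
        (Submodule.mem_sup_right (h.nul_mul_one hjL he ha).1)
      refine Submodule.smul_mem _ c ?_
      have := (h.nul_mul (i := 1) (j := j) (by omega) he' (pow_mem hv j)).2
      rwa [add_comm 1 j] at this
  have hne : ∀ j, 1 ≤ j → j ≤ L → v ^ j ∉ N ^ (j + 1) := by
    intro j hj hjL hm
    exact h.false_of_pow_le_nul hjL ((hpowE j hj hjL).trans (sup_le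
      ((Submodule.span_singleton_le_iff_mem _ _).2 (h.succ_le_nul hj hjL hm)) le_rfl))
  have hbase : N ^ 2 ≤ Submodule.span k {v ^ 2} ⊔ N ^ 3 := by
    have hlt : N ^ 3 < Submodule.span k {v ^ 2} ⊔ N ^ 3 := lt_of_le_of_ne le_sup_right fun e =>
      hne 2 (by norm_num) (by omega)
        (e.symm ▸ Submodule.mem_sup_left (Submodule.mem_span_singleton_self _))
    exact (Submodule.eq_of_le_of_finrank_le (sup_le ((Submodule.span_singleton_le_iff_mem _ _).2
      (pow_mem hv 2)) (h.anti (by norm_num) (by norm_num)))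
      (by have := Submodule.finrank_lt_finrank_of_lt hlt; omega)).ge
  have hone : ∀ a ∈ N, v * a ∈ Submodule.span k {v ^ 2} ⊔ N ^ 3 := fun a ha =>
    hbase (pow_two N ▸ Submodule.mul_mem_mul hv ha)
  have hspan := h.pow_le_span (v := v) (i := 2) fun j hj =>
    h.pow_step hv (by norm_num) le_rfl hbase hone hj
  -- a second generator annihilated by `v`
  obtain ⟨y, hy, hgen⟩ : ∃ y ∈ N, N ≤ Submodule.span k {v, y} ⊔ N ^ 2 := by
    have hv2 : v ∉ N ^ 2 := fun hm => hne 1 le_rfl (by omega) (by rwa [pow_one])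
    have hlt : N ^ 2 < Submodule.span k {v} ⊔ N ^ 2 := lt_of_le_of_ne le_sup_right fun e =>
      hv2 (e.symm ▸ Submodule.mem_sup_left (Submodule.mem_span_singleton_self v))
    obtain ⟨y, hy, hyn⟩ : ∃ y ∈ N, y ∉ Submodule.span k {v} ⊔ N ^ 2 :=
      SetLike.not_le_iff_exists.1 fun e => hnc (h.comm_of_one_gen hv e)
    refine ⟨y, hy, (Submodule.eq_of_le_of_finrank_le (sup_le (Submodule.span_le.2
      (by rintro _ (rfl | rfl) <;> assumption)) (h.pow_le (by norm_num))) ?_).ge⟩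
    have hlt2 : Submodule.span k {v} ⊔ N ^ 2 < Submodule.span k {v, y} ⊔ N ^ 2 :=
      lt_of_le_of_ne (sup_le_sup_right (Submodule.span_mono (by simp)) _) fun e =>
        hyn (e.symm ▸ Submodule.mem_sup_left (Submodule.subset_span (by simp)))
    have := Submodule.finrank_lt_finrank_of_lt hlt
    have := Submodule.finrank_lt_finrank_of_lt hlt2
    omega
  obtain ⟨g, hg, hvy⟩ : ∃ g ∈ Submodule.span k {v} ⊔ N ^ 2, v * y = v * g := by
    have hle : N ^ 2 ≤ (Submodule.span k {v} ⊔ N ^ 2).map (LinearMap.mulLeft k v) := by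
      refine (hspan 2 le_rfl).trans (Submodule.span_le.2 ?_)
      rintro _ ⟨j, hj, rfl⟩
      obtain ⟨j', rfl⟩ : ∃ j', j = j' + 1 := ⟨j - 1, by omega⟩
      refine ⟨v ^ j', ?_, (pow_succ' v j').symm⟩
      rcases eq_or_ne j' 1 with rfl | hj'
      · rw [pow_one]; exact Submodule.mem_sup_left (Submodule.mem_span_singleton_self v)
      · exact Submodule.mem_sup_right (h.anti (by norm_num) (by omega) (pow_mem hv j'))
    obtain ⟨g, hg, e⟩ := hle (pow_two N ▸ Submodule.mul_mem_mul hv hy)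
    exact ⟨g, hg, e.symm⟩
  set y' := y - g with hy'
  have hgN : g ∈ N := sup_le ((Submodule.span_singleton_le_iff_mem _ _).2 hv)
    (h.pow_le (by norm_num)) hg
  have hy'N : y' ∈ N := sub_mem hy hgN
  have hvy' : v * y' = 0 := by rw [hy', mul_sub, hvy, sub_self]
  have hgen' : N ≤ Submodule.span k {v, y'} ⊔ N ^ 2 := by
    refine hgen.trans (sup_le (Submodule.span_le.2 ?_) le_sup_right)
    rintro z (rfl | rfl)
    · exact Submodule.mem_sup_left (Submodule.subset_span (by simp))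
    · rw [show z = y' + g by rw [hy', sub_add_cancel]]
      refine add_mem (Submodule.mem_sup_left (Submodule.subset_span (by simp))) ?_
      exact (sup_le_sup_right (Submodule.span_mono (by simp)) _ :
        Submodule.span k {v} ⊔ N ^ 2 ≤ Submodule.span k {v, y'} ⊔ N ^ 2) hg
  -- an element killed by `v` lies in the last power
  have hann : ∀ j, 2 ≤ j → j ≤ L → ∀ w ∈ N ^ 2, v * w = 0 → w ∈ N ^ j := by
    intro j hj
    induction j, hj using Nat.le_induction with
    | base => exact fun _ w hw _ => hw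
    | succ j hj ih =>
      intro hjL w hw hvw
      obtain ⟨u, hu, e, he, hsum⟩ := Submodule.mem_sup.1
        (h.pow_step hv (by norm_num) le_rfl hbase hone hj (ih (by omega) w hw hvw))
      obtain ⟨c, rfl⟩ := Submodule.mem_span_singleton.1 hu
      by_cases hc : c = 0
      · rw [← hsum, hc, zero_smul, zero_add]; exact he
      exfalso
      rw [← hsum, mul_add, mul_smul_comm, ← pow_succ'] at hvw
      refine hne (j + 1) (by omega) hjL ?_
      rw [show v ^ (j + 1) = c⁻¹ • (c • v ^ (j + 1)) by rw [smul_smul, inv_mul_cancel₀ hc, one_smul],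
        eq_neg_of_add_eq_zero_left hvw, show j + 1 + 1 = 1 + (j + 1) by omega]
      exact Submodule.smul_mem _ _ (neg_mem (mul_mem_pow (by rwa [pow_one]) he))
  have hy'v : y' * v = 0 := by
    have hmem : y' * v ∈ comm2 N N ⊓ N ^ L := by
      refine ⟨by simpa [hvy'] using mem_comm2 hy'N hv, hann L (by omega) le_rfl _
        (pow_two N ▸ Submodule.mul_mem_mul hy'N hv) ?_⟩
      rw [← mul_assoc, hvy', zero_mul]
    rwa [h.comm2_inf, Submodule.mem_bot] at hmem
  have hcy : ∀ w ∈ N ^ 2, Commute y' w := by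
    suffices hsp : ∀ w ∈ Submodule.span k {z | ∃ l, 2 ≤ l ∧ z = v ^ l}, Commute y' w from
      fun w hw => hsp w (hspan 2 le_rfl hw)
    intro w hw
    induction hw using Submodule.span_induction with
    | mem z hz =>
      obtain ⟨j, -, rfl⟩ := hz
      exact (show Commute y' v by rw [commute_iff_eq, hy'v, hvy']).pow_right j
    | zero => exact Commute.zero_right _
    | add a b _ _ iha ihb => exact iha.add_right ihb
    | smul c a _ iha => exact iha.smul_right c
  have hcv : ∀ w ∈ N ^ 2, Commute v w := fun w hw =>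
    commute_of_mem_span (Submodule.subset_span ⟨1, pow_one v⟩)
      (Submodule.span_mono (by rintro _ ⟨j, -, rfl⟩; exact ⟨j, rfl⟩) (hspan 2 le_rfl hw))
  refine hnc fun a ha b hb => ?_
  obtain ⟨a₁, ha₁, a₂, ha₂, rfl⟩ := Submodule.mem_sup.1 (hgen' ha)
  obtain ⟨b₁, hb₁, b₂, hb₂, rfl⟩ := Submodule.mem_sup.1 (hgen' hb)
  obtain ⟨α, β, rfl⟩ := Submodule.mem_span_pair.1 ha₁
  obtain ⟨γ, δ, rfl⟩ := Submodule.mem_span_pair.1 hb₁
  have cvy : Commute v y' := by rw [commute_iff_eq, hy'v, hvy']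
  have h22 : Commute a₂ b₂ := commute_of_mem_span
    (Submodule.span_mono (by rintro _ ⟨j, -, rfl⟩; exact ⟨j, rfl⟩) (hspan 2 le_rfl ha₂))
    (Submodule.span_mono (by rintro _ ⟨j, -, rfl⟩; exact ⟨j, rfl⟩) (hspan 2 le_rfl hb₂))
  refine Commute.eq (((((Commute.refl v).smul_right γ).add_right (cvy.smul_right δ)).add_right
    (hcv b₂ hb₂) |>.smul_left α).add_left
    ((((cvy.symm.smul_right γ).add_right ((Commute.refl y').smul_right δ)).add_right
      (hcy b₂ hb₂)).smul_left β) |>.add_left ?_)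
  exact (((hcv a₂ ha₂).symm.smul_right γ).add_right ((hcy a₂ ha₂).symm.smul_right δ)).add_right h22

/-- Two generators: nothing beyond degree four. -/
theorem le_four_of_two [IsAlgClosed k] (h : LocalSym ε C N τ L) (hL : 5 ≤ L)
    (hd : finrank k N = finrank k ↥(N ^ 2) + 2)
    (hK : finrank k ↥(N ^ 2) ≤ finrank k (comm2 N N) + 2)
    (hnc : ¬ ∀ a ∈ N, ∀ b ∈ N, a * b = b * a) : False := by
  by_cases hz : comm2 N N ≤ N ^ 3
  · refine h.false_of_comm_sq (by omega) hd ?_ hnc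
    have := Submodule.finrank_mono
      (sup_le hz (h.anti (by norm_num) (by omega)) : comm2 N N ⊔ N ^ L ≤ N ^ 3)
    have := h.comm2_add_one_le
    omega
  have hT3 : comm2 N (N ^ 2) ≤ N ^ 3 := by
    have := h.comm2_le_pow (i := 1) (j := 2)
    rwa [pow_one] at this
  have hzn : ∀ x ∈ N, ∀ y ∈ N, N ≤ Submodule.span k {x, y} ⊔ N ^ 2 → x * y - y * x ∉ N ^ 3 :=
    fun x hx y hy hgen hm => hz ((h.comm2_two hx hy hgen).trans
      (sup_le ((Submodule.span_singleton_le_iff_mem _ _).2 hm) hT3))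
  obtain ⟨x, hx, y, hy, hgen⟩ := exists_two (A := N) (B := N ^ 2) (h.pow_le (by norm_num)) (by omega)
  -- `N ^ 3` and the last power
  have hKL : comm2 N N ⊔ N ^ L ≤ Submodule.span k {x * y - y * x} ⊔ N ^ 3 :=
    sup_le ((h.comm2_two hx hy hgen).trans (sup_le_sup_left hT3 _))
      ((h.anti (by norm_num) (by omega)).trans le_sup_right)
  have hz2 : x * y - y * x ∈ N ^ 2 := h.comm2_le_sq (mem_comm2 hx hy)
  have hd2 : finrank k ↥(N ^ 2) ≤ finrank k ↥(N ^ 3) + 2 := by
    have h1 := Submodule.finrank_mono hKL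
    have h2 := h.comm2_add_one_le
    have h3 := Submodule.finrank_sup_add_finrank_inf_eq (Submodule.span k {x * y - y * x}) (N ^ 3)
    have h4 := finrank_span_le_card (R := k) ({x * y - y * x} : Set R)
    simp at h4
    omega
  have hN3K : N ^ 3 ≤ comm2 N N ⊔ N ^ L := by
    have h1 : N ^ 3 < Submodule.span k {x * y - y * x} ⊔ N ^ 3 := lt_of_le_of_ne le_sup_right fun e =>
      hzn x hx y hy hgen (e.symm ▸ Submodule.mem_sup_left (Submodule.mem_span_singleton_self _))
    have h2 : Submodule.span k {x * y - y * x} ⊔ N ^ 3 ≤ N ^ 2 :=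
      sup_le ((Submodule.span_singleton_le_iff_mem _ _).2 hz2) (h.anti (by norm_num) (by norm_num))
    by_cases hfull : N ^ 2 ≤ Submodule.span k {x * y - y * x} ⊔ N ^ 3
    · exfalso
      -- one commutator spans degree two: the cubic relations
      refine h.false_of_two_cubic (by omega) hx hy
        (hgen.trans (sup_le_sup_left (h.succ_le_nul le_rfl (by omega)) _))
        (hfull.trans (sup_le_sup_left (h.succ_le_nul (by norm_num) (by omega)) _))
    · have h3 := Submodule.finrank_lt_finrank_of_lt (lt_of_le_of_ne h2 fun e => hfull e.ge)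
      have h4 := h.comm2_add_one_le
      exact le_sup_right.trans (Submodule.eq_of_le_of_finrank_le hKL (by omega)).ge
  have hN3 : N ^ 3 ≤ comm2 N (N ^ 2) ⊔ N ^ L := by
    intro v hv
    obtain ⟨w, hw, s, hs, rfl⟩ := Submodule.mem_sup.1 (hN3K hv)
    obtain ⟨z, hz', t, ht, rfl⟩ := Submodule.mem_sup.1 (h.comm2_two hx hy hgen hw)
    obtain ⟨c, rfl⟩ := Submodule.mem_span_singleton.1 hz'
    have hc : c = 0 := by
      by_contra hc
      refine hzn x hx y hy hgen ?_
      have e : c • (x * y - y * x) = c • (x * y - y * x) + t + s - t - s := by abel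
      have hm : c • (x * y - y * x) ∈ N ^ 3 := by
        rw [e]
        exact sub_mem (sub_mem hv (hT3 ht)) (h.anti (by norm_num) (by omega) hs)
      have := (N ^ 3).smul_mem c⁻¹ hm
      rwa [smul_smul, inv_mul_cancel₀ hc, one_smul] at this
    rw [hc, zero_smul, zero_add]
    exact Submodule.mem_sup.2 ⟨t, ht, s, hs, rfl⟩
  have hE3 : N ^ L ≤ nul N τ L 3 := (h.anti (by norm_num) (by omega)).trans
    (h.succ_le_nul (by norm_num) (by omega) : N ^ 4 ≤ _)
  have hnle : nul N τ L 1 ≤ N := le_trans inf_le_left (pow_one N).le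
  -- no kernel in degree one
  have hker : finrank k (nul N τ L 1) ≤ finrank k ↥(N ^ 2) := by
    by_contra hlt
    have hnN : ¬ N ≤ nul N τ L 1 := fun e =>
      h.false_of_pow_le_nul (i := 1) (by omega) ((pow_one N).le.trans e)
    obtain ⟨v, hv, hvn⟩ := SetLike.not_le_iff_exists.1 hnN
    have hlt' : nul N τ L 1 < Submodule.span k {v} ⊔ nul N τ L 1 := lt_of_le_of_ne le_sup_right
      fun e => hvn (e.symm ▸ Submodule.mem_sup_left (Submodule.mem_span_singleton_self v))
    have hgenv : N ≤ Submodule.span k {v} ⊔ nul N τ L 1 :=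
      (Submodule.eq_of_le_of_finrank_le (sup_le ((Submodule.span_singleton_le_iff_mem _ _).2 hv) hnle)
        (by have := Submodule.finrank_lt_finrank_of_lt hlt'; omega)).ge
    refine h.false_of_pow_le_nul (i := 3) (by omega) (hN3.trans (sup_le (comm2_le fun a ha b hb => ?_) hE3))
    obtain ⟨a₁, ha₁, a₂, ha₂, rfl⟩ := Submodule.mem_sup.1 (hgenv ha)
    obtain ⟨α, rfl⟩ := Submodule.mem_span_singleton.1 ha₁
    rw [show (α • v + a₂) * b - b * (α • v + a₂) = α • (v * b - b * v) + (a₂ * b - b * a₂) by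
      simp only [add_mul, mul_add, smul_mul_assoc, mul_smul_comm, smul_sub]; abel]
    refine add_mem (Submodule.smul_mem _ α ?_)
      (sub_mem (h.nul_mul (j := 2) (by omega) ha₂ hb).1 (h.nul_mul (j := 2) (by omega) ha₂ hb).2)
    rw [pow_two] at hb
    induction hb using Submodule.mul_induction_on' with
    | mem_mul_mem p hp q hq =>
      obtain ⟨p₁, hp₁, p₂, hp₂, rfl⟩ := Submodule.mem_sup.1 (hgenv hp)
      obtain ⟨q₁, hq₁, q₂, hq₂, rfl⟩ := Submodule.mem_sup.1 (hgenv hq)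
      obtain ⟨β, rfl⟩ := Submodule.mem_span_singleton.1 hp₁
      obtain ⟨γ, rfl⟩ := Submodule.mem_span_singleton.1 hq₁
      have e1 : (β • v) * q₂ + p₂ * (γ • v + q₂) ∈ nul N τ L 2 := add_mem
        (h.nul_mul_one (by omega) hq₂ (N.smul_mem β hv)).2
        (h.nul_mul_one (by omega) hp₂ hq).1
      rw [show v * ((β • v + p₂) * (γ • v + q₂)) - (β • v + p₂) * (γ • v + q₂) * v =
          v * ((β • v) * q₂ + p₂ * (γ • v + q₂)) - ((β • v) * q₂ + p₂ * (γ • v + q₂)) * v by
        simp only [add_mul, mul_add, smul_mul_assoc, mul_smul_comm, mul_assoc]; module]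
      exact sub_mem (h.nul_mul_one (by omega) e1 hv).2 (h.nul_mul_one (by omega) e1 hv).1
    | add p _ q _ ihp ihq =>
      rw [show v * (p + q) - (p + q) * v = (v * p - p * v) + (v * q - q * v) by
        simp only [add_mul, mul_add]; abel]
      exact add_mem ihp ihq
  have hE1 := h.nul_one_eq hker
  have hlay : ∀ i, 2 ≤ i → i ≤ L - 1 → finrank k (nul N τ L i) + 2 ≤ finrank k ↥(N ^ i) := by
    intro i hi hiL
    by_contra hlt
    have := h.layer_last (D := 1) (by norm_num) hi hiL (by omega)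
    omega
  have h23 : N ^ 3 ≤ nul N τ L 2 := h.succ_le_nul (by norm_num) (by omega)
  have h2 := hlay 2 le_rfl (by omega)
  have h3 := hlay 3 (by norm_num) (by omega)
  have hE2 : nul N τ L 2 = N ^ 3 :=
    (Submodule.eq_of_le_of_finrank_le h23 (by omega)).symm
  -- generators with square zero in degree two
  obtain ⟨m, l, r, hm, hl, hr, hassoc, hkl, hkr⟩ := h.graded (by omega)
  have dV := finrank_lay (A := N) hnle
  have dW := finrank_lay (A := N ^ 2) (A' := nul N τ L 2) inf_le_left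
  have dZ := finrank_lay (A := N ^ 3) (A' := nul N τ L 3) inf_le_left
  have dV' : finrank k (nul N τ L 1) = finrank k ↥(N ^ 2) := by rw [hE1]
  have hd2' := Submodule.finrank_mono h23
  have hWm : Submodule.span k {z | ∃ a b, z = m a b} = ⊤ := by
    refine span_lay (A := N ^ 2) (A' := nul N τ L 2) {z | ∃ a ∈ N, ∃ b ∈ N, z = a * b}
      (by rintro _ ⟨a, ha, b, hb, rfl⟩; exact pow_two N ▸ Submodule.mul_mem_mul ha hb) ?_ _ ?_
    · rw [pow_two, Submodule.mul_le]
      exact fun a ha b hb => Submodule.mem_sup_left (Submodule.subset_span ⟨a, ha, b, hb, rfl⟩)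
    rintro _ ⟨a, ha, b, hb, rfl⟩
    refine Submodule.subset_span ⟨Submodule.Quotient.mk ⟨a, ha⟩, Submodule.Quotient.mk ⟨b, hb⟩, ?_⟩
    rw [hm ⟨a, ha⟩ ⟨b, hb⟩ (pow_two N ▸ Submodule.mul_mem_mul ha hb)]
  have hZc : Submodule.span k {z | ∃ a w, z = l a w - r w a} = ⊤ := by
    refine span_lay (A := N ^ 3) (A' := nul N τ L 3) {z | ∃ a ∈ N, ∃ b ∈ N ^ 2, z = a * b - b * a}
      (by rintro _ ⟨a, ha, b, hb, rfl⟩; exact hT3 (mem_comm2 ha hb))
      (hN3.trans (sup_le_sup_left hE3 _)) _ ?_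
    rintro _ ⟨a, ha, b, hb, rfl⟩
    refine Submodule.subset_span ⟨Submodule.Quotient.mk ⟨a, ha⟩, Submodule.Quotient.mk ⟨b, hb⟩, ?_⟩
    have h1 : a * b ∈ N ^ 3 := pow_succ' N 2 ▸ Submodule.mul_mem_mul ha hb
    have h2 : b * a ∈ N ^ 3 := pow_succ N 2 ▸ Submodule.mul_mem_mul hb ha
    rw [hl ⟨a, ha⟩ ⟨b, hb⟩ h1, hr ⟨b, hb⟩ ⟨a, ha⟩ h2, ← Submodule.Quotient.mk_sub]
    rfl
  obtain ⟨q₁, q₂, hind, hq₁, hq₂⟩ := exists_square_zero_basis m l r hassoc (by omega) (by omega)
    (by omega) hWm hZc hkl hkr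
  obtain ⟨⟨u, hu⟩, rfl⟩ := Submodule.Quotient.mk_surjective _ q₁
  obtain ⟨⟨w, hw⟩, rfl⟩ := Submodule.Quotient.mk_surjective _ q₂
  have hgen2 : N ≤ Submodule.span k {u, w} ⊔ N ^ 2 := by
    intro a ha
    have hmem : (Submodule.Quotient.mk ⟨a, ha⟩ : Lay N (nul N τ L 1)) ∈ Submodule.span k
        (Set.range ![(Submodule.Quotient.mk ⟨u, hu⟩ : Lay N (nul N τ L 1)), Submodule.Quotient.mk ⟨w, hw⟩]) := by
      rw [hind.span_eq_top_of_card_eq_finrank (by simp; omega)]; trivial
    rw [Matrix.range_cons, Matrix.range_cons, Matrix.range_empty, Set.union_empty,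
      Set.singleton_union, Submodule.mem_span_pair] at hmem
    obtain ⟨α, β, e⟩ := hmem
    rw [← Submodule.Quotient.mk_smul, ← Submodule.Quotient.mk_smul, ← Submodule.Quotient.mk_add,
      Submodule.Quotient.eq] at e
    have e' : α • u + β • w - a ∈ N ^ 2 := hE1 ▸ e
    rw [show a = (α • u + β • w) - (α • u + β • w - a) by abel]
    exact sub_mem (Submodule.mem_sup_left (Submodule.mem_span_pair.2 ⟨α, β, rfl⟩))
      (Submodule.mem_sup_right e')
  have huu : u * u ∈ N ^ 3 := by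
    have e := hq₁
    rw [hm ⟨u, hu⟩ ⟨u, hu⟩ (pow_two N ▸ Submodule.mul_mem_mul hu hu), Submodule.Quotient.mk_eq_zero] at e
    exact hE2 ▸ e
  have hww : w * w ∈ N ^ 3 := by
    have e := hq₂
    rw [hm ⟨w, hw⟩ ⟨w, hw⟩ (pow_two N ▸ Submodule.mul_mem_mul hw hw), Submodule.Quotient.mk_eq_zero] at e
    exact hE2 ▸ e
  clear hq₁ hq₂ hind hm hl hr hassoc hkl hkr hWm hZc
  clear m l r
  -- the words
  have hN2 : N ^ 2 ≤ Submodule.span k {u * w, w * u} ⊔ N ^ 3 := by
    rw [pow_two, Submodule.mul_le]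
    intro a ha b hb
    obtain ⟨a₁, ha₁, a₂, ha₂, rfl⟩ := Submodule.mem_sup.1 (hgen2 ha)
    obtain ⟨b₁, hb₁, b₂, hb₂, rfl⟩ := Submodule.mem_sup.1 (hgen2 hb)
    obtain ⟨α, β, rfl⟩ := Submodule.mem_span_pair.1 ha₁
    obtain ⟨γ, δ, rfl⟩ := Submodule.mem_span_pair.1 hb₁
    rw [show (α • u + β • w + a₂) * (γ • u + δ • w + b₂) =
        ((α * δ) • (u * w) + (β * γ) • (w * u)) + ((α * γ) • (u * u) + (β * δ) • (w * w) +
          ((α • u + β • w) * b₂ + a₂ * (γ • u + δ • w + b₂))) by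
      simp only [add_mul, mul_add, smul_mul_assoc, mul_smul_comm]
      module]
    refine add_mem (Submodule.mem_sup_left (Submodule.mem_span_pair.2 ⟨_, _, rfl⟩))
      (Submodule.mem_sup_right (add_mem (add_mem (Submodule.smul_mem _ _ huu)
        (Submodule.smul_mem _ _ hww)) (add_mem ?_ ?_)))
    · exact mul_mem_pow (i := 1) (by rw [pow_one]; exact add_mem (N.smul_mem α hu) (N.smul_mem β hw)) hb₂
    · exact mul_mem_pow (j := 1) ha₂ (by rwa [pow_one])
  have hup : ∀ {a b : R} {i j : ℕ}, a ∈ N ^ i → b ∈ N ^ j → ∀ n, n = i + j → a * b ∈ N ^ n :=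
    fun ha hb n hn => hn ▸ mul_mem_pow ha hb
  have hu1 : u ∈ N ^ 1 := by rwa [pow_one]
  have hw1 : w ∈ N ^ 1 := by rwa [pow_one]
  set U := u * w * u
  set W := w * u * w
  have hU : U ∈ N ^ 3 := mul_mem_pow (mul_mem_pow hu1 hw1) hu1
  have hW : W ∈ N ^ 3 := mul_mem_pow (mul_mem_pow hw1 hu1) hw1
  have hN3w : N ^ 3 ≤ Submodule.span k {U, W} ⊔ N ^ 4 := by
    conv_lhs => rw [pow_succ' N 2]
    rw [Submodule.mul_le]
    intro a ha b hb
    obtain ⟨a₁, ha₁, a₂, ha₂, rfl⟩ := Submodule.mem_sup.1 (hgen2 ha)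
    obtain ⟨b₁, hb₁, b₂, hb₂, rfl⟩ := Submodule.mem_sup.1 (hN2 hb)
    obtain ⟨α, β, rfl⟩ := Submodule.mem_span_pair.1 ha₁
    obtain ⟨γ, δ, rfl⟩ := Submodule.mem_span_pair.1 hb₁
    rw [show (α • u + β • w + a₂) * (γ • (u * w) + δ • (w * u) + b₂) =
        ((α * δ) • U + (β * γ) • W) + ((α * γ) • (u * u * w) + (β * δ) • (w * w * u) +
          ((α • u + β • w) * b₂ + a₂ * (γ • (u * w) + δ • (w * u) + b₂))) by
      simp only [U, W, add_mul, mul_add, smul_mul_assoc, mul_smul_comm, mul_assoc]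
      module]
    refine add_mem (Submodule.mem_sup_left (Submodule.mem_span_pair.2 ⟨_, _, rfl⟩))
      (Submodule.mem_sup_right (add_mem (add_mem (Submodule.smul_mem _ _ (hup huu hw1 4 rfl))
        (Submodule.smul_mem _ _ (hup hww hu1 4 rfl))) (add_mem ?_ (hup ha₂ hb 4 rfl))))
    exact hup (i := 1) (by rw [pow_one]; exact add_mem (N.smul_mem α hu) (N.smul_mem β hw)) hb₂ 4 rfl
  have hindUW : ∀ β γ : k, β • U + γ • W ∈ N ^ 4 → β = 0 ∧ γ = 0 := by
    intro β γ hm
    by_contra hne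
    obtain ⟨X, hXle⟩ : ∃ X : R, Submodule.span k {U, W} ≤ Submodule.span k {X} ⊔ N ^ 4 := by
      by_cases hb0 : β = 0
      · have hg0 : γ ≠ 0 := fun e => hne ⟨hb0, e⟩
        refine ⟨U, Submodule.span_le.2 ?_⟩
        rintro z (rfl | rfl)
        · exact Submodule.mem_sup_left (Submodule.mem_span_singleton_self _)
        · refine Submodule.mem_sup_right ?_
          rw [hb0, zero_smul, zero_add] at hm
          simpa [smul_smul, inv_mul_cancel₀ hg0] using (N ^ 4).smul_mem γ⁻¹ hm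
      · refine ⟨W, Submodule.span_le.2 ?_⟩
        rintro z (rfl | rfl)
        · have h1 := (N ^ 4).smul_mem β⁻¹ hm
          rw [smul_add, smul_smul, inv_mul_cancel₀ hb0, one_smul, smul_smul] at h1
          rw [show U = (-(β⁻¹ * γ)) • W + (U + (β⁻¹ * γ) • W) by module]
          exact add_mem (Submodule.mem_sup_left (Submodule.smul_mem _ _
            (Submodule.mem_span_singleton_self _))) (Submodule.mem_sup_right h1)
        · exact Submodule.mem_sup_left (Submodule.mem_span_singleton_self _)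
    have h4 : N ^ 4 ≤ nul N τ L 3 := h.succ_le_nul (by norm_num) (by omega)
    have hle : N ^ 3 ≤ Submodule.span k {X} ⊔ nul N τ L 3 := hN3w.trans
      (sup_le (hXle.trans (sup_le_sup_left h4 _)) (h4.trans le_sup_right))
    have h1 := Submodule.finrank_mono hle
    have h2 := Submodule.finrank_sup_add_finrank_inf_eq (Submodule.span k {X}) (nul N τ L 3)
    have h3 := finrank_span_le_card (R := k) ({X} : Set R)
    simp at h3
    omega
  -- the commutators
  set P := u * w * u * w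
  set Q := w * u * w * u
  set S4 := Submodule.span k {P - Q} ⊔ N ^ 5
  have hT4 : comm2 N (N ^ 3) ≤ S4 := by
    refine comm2_le fun a ha b hb => ?_
    obtain ⟨a₁, ha₁, a₂, ha₂, rfl⟩ := Submodule.mem_sup.1 (hgen2 ha)
    obtain ⟨b₁, hb₁, b₂, hb₂, rfl⟩ := Submodule.mem_sup.1 (hN3w hb)
    obtain ⟨α, β, rfl⟩ := Submodule.mem_span_pair.1 ha₁
    obtain ⟨γ, δ, rfl⟩ := Submodule.mem_span_pair.1 hb₁
    have hl : α • u + β • w ∈ N ^ 1 := add_mem (Submodule.smul_mem _ α hu1) (Submodule.smul_mem _ β hw1)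
    rw [show (α • u + β • w + a₂) * (γ • U + δ • W + b₂) - (γ • U + δ • W + b₂) * (α • u + β • w + a₂) =
        (α * δ - β * γ) • (P - Q) + (((α * γ) • (u * u * w * u) - (α * γ) • (u * w * (u * u)) +
          ((β * δ) • (w * w * u * w) - (β * δ) • (w * u * (w * w)))) +
          (((α • u + β • w) * b₂ - b₂ * (α • u + β • w)) +
            (a₂ * (γ • U + δ • W + b₂) - (γ • U + δ • W + b₂) * a₂))) by
      simp only [P, Q, U, W, add_mul, mul_add, smul_mul_assoc, mul_smul_comm, mul_assoc]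
      module]
    refine add_mem (Submodule.mem_sup_left (Submodule.smul_mem _ _
      (Submodule.mem_span_singleton_self _))) (Submodule.mem_sup_right ?_)
    exact add_mem (add_mem
      (sub_mem (Submodule.smul_mem _ _ (hup (hup huu hw1 4 rfl) hu1 5 rfl))
        (Submodule.smul_mem _ _ (hup (mul_mem_pow hu1 hw1) huu 5 rfl)))
      (sub_mem (Submodule.smul_mem _ _ (hup (hup hww hu1 4 rfl) hw1 5 rfl))
        (Submodule.smul_mem _ _ (hup (mul_mem_pow hw1 hu1) hww 5 rfl))))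
      (add_mem (sub_mem (hup hl hb₂ 5 rfl) (hup hb₂ hl 5 rfl))
        (sub_mem (hup ha₂ hb 5 rfl) (hup hb ha₂ 5 rfl)))
  set q := w * u
  set z := u * w - w * u with hzdef
  have hzK : comm2 N N ≤ Submodule.span k {z, u * q - q * u, w * q - q * w} ⊔ comm2 N (N ^ 3) := by
    refine (h.comm2_two hu hw hgen2).trans (sup_le ?_ ?_)
    · exact le_trans (Submodule.span_mono (by simp [hzdef])) le_sup_left
    refine comm2_le fun a ha b hb => ?_
    have h22 : comm2 (N ^ 2) (N ^ 2) ≤ comm2 N (N ^ 3) := h.comm2_sq (j := 2) (by norm_num)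
    obtain ⟨a₁, ha₁, a₂, ha₂, rfl⟩ := Submodule.mem_sup.1 (hgen2 ha)
    obtain ⟨b₁, hb₁, b₂, hb₂, rfl⟩ := Submodule.mem_sup.1 (hN2 hb)
    obtain ⟨α, β, rfl⟩ := Submodule.mem_span_pair.1 ha₁
    obtain ⟨γ, δ, rfl⟩ := Submodule.mem_span_pair.1 hb₁
    rw [show (α • u + β • w + a₂) * (γ • (u * w) + δ • q + b₂) -
        (γ • (u * w) + δ • q + b₂) * (α • u + β • w + a₂) =
        ((α * δ - α * γ) • (u * q - q * u) + (β * δ - β * γ) • (w * q - q * w)) +
          (((-(α * γ)) • (w * (u * u) - u * u * w) + (β * γ) • (-(u * (w * w) - w * w * u))) +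
          (((α • u + β • w) * b₂ - b₂ * (α • u + β • w)) +
            (a₂ * (γ • (u * w) + δ • q + b₂) - (γ • (u * w) + δ • q + b₂) * a₂))) by
      simp only [q, add_mul, mul_add, smul_mul_assoc, mul_smul_comm, mul_assoc]
      module]
    refine add_mem (Submodule.mem_sup_left (add_mem (Submodule.smul_mem _ _ (Submodule.subset_span
      (by simp))) (Submodule.smul_mem _ _ (Submodule.subset_span (by simp)))))
      (Submodule.mem_sup_right (add_mem (add_mem (Submodule.smul_mem _ _ (mem_comm2 hw huu))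
        (Submodule.smul_mem _ _ (neg_mem (mem_comm2 hu hww)))) (add_mem
          (mem_comm2 (add_mem (N.smul_mem α hu) (N.smul_mem β hw)) hb₂) (h22 (mem_comm2 ha₂ hb)))))
  have hN4 : N ^ 4 ≤ S4 := by
    intro v hv
    obtain ⟨k₁, hk₁, s, hs, rfl⟩ := Submodule.mem_sup.1 (hN3K (h.anti (by norm_num) (by norm_num) hv))
    obtain ⟨z', hz', t, ht, rfl⟩ := Submodule.mem_sup.1 (hzK hk₁)
    rw [Submodule.mem_span_insert] at hz'
    obtain ⟨α, z'', hz'', rfl⟩ := hz'
    obtain ⟨β, γ, rfl⟩ := Submodule.mem_span_pair.1 hz''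
    have ht4 : t ∈ N ^ 4 := by
      have := h.comm2_le_pow (i := 1) (j := 3)
      rw [pow_one] at this
      exact this ht
    have hs4 : s ∈ N ^ 4 := h.anti (by norm_num) (by omega) hs
    have hsum : α • z + (β • (u * q - q * u) + γ • (w * q - q * w)) ∈ N ^ 4 := by
      simpa using sub_mem (sub_mem hv hs4) ht4
    have hq3 : β • (u * q - q * u) + γ • (w * q - q * w) ∈ N ^ 3 :=
      add_mem (Submodule.smul_mem _ _ (hT3 (mem_comm2 hu (mul_mem_pow hw1 hu1))))
        (Submodule.smul_mem _ _ (hT3 (mem_comm2 hw (mul_mem_pow hw1 hu1))))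
    have hα : α = 0 := by
      by_contra hα
      refine hzn u hu w hw hgen2 ?_
      have h1 := (N ^ 3).smul_mem α⁻¹ (sub_mem (h.anti (by norm_num) (by norm_num) hsum) hq3)
      rwa [add_sub_cancel_right, smul_smul, inv_mul_cancel₀ hα, one_smul] at h1
    rw [hα, zero_smul, zero_add] at hsum
    obtain ⟨hβ, hγ⟩ := hindUW β (-γ) (by
      rw [show β • U + (-γ) • W = (β • (u * q - q * u) + γ • (w * q - q * w)) +
        (β • (w * (u * u)) - γ • (w * w * u)) by
        simp only [U, W, q, mul_assoc, smul_sub]; module]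
      exact add_mem hsum (sub_mem (Submodule.smul_mem _ _ (hup hw1 huu 4 rfl))
        (Submodule.smul_mem _ _ (hup hww hu1 4 rfl))))
    rw [hα, hβ, neg_eq_zero.1 hγ, zero_smul, zero_smul, zero_smul, add_zero, add_zero, zero_add]
    exact add_mem (hT4 ht) (Submodule.mem_sup_right (h.anti (by norm_num) (by omega) hs))
  obtain ⟨eP, hP, e₁, he₁, hPe⟩ := Submodule.mem_sup.1 (hN4
    (hup hU hw1 4 rfl : P ∈ N ^ 4))
  obtain ⟨eQ, hQ, e₂, he₂, hQe⟩ := Submodule.mem_sup.1 (hN4
    (hup hW hu1 4 rfl : Q ∈ N ^ 4))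
  obtain ⟨g₁, rfl⟩ := Submodule.mem_span_singleton.1 hP
  obtain ⟨g₂, rfl⟩ := Submodule.mem_span_singleton.1 hQ
  -- degree five is zero
  have hPu : ∀ x' : R, x' ∈ N ^ 1 → e₁ * x' ∈ N ^ 6 ∧ x' * e₁ ∈ N ^ 6 ∧ e₂ * x' ∈ N ^ 6 ∧
      x' * e₂ ∈ N ^ 6 := fun x' hx' =>
    ⟨hup he₁ hx' 6 rfl, hup hx' he₁ 6 rfl, hup he₂ hx' 6 rfl, hup hx' he₂ 6 rfl⟩
  have z1 : Q * u ∈ N ^ 6 := by
    rw [show Q * u = w * u * w * (u * u) by simp only [Q, mul_assoc]]
    exact hup hW huu 6 rfl
  have z2 : u * P ∈ N ^ 6 := by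
    rw [show u * P = u * u * (w * u * w) by simp only [P, mul_assoc]]
    exact hup huu hW 6 rfl
  have z3 : P * w ∈ N ^ 6 := by
    rw [show P * w = u * w * u * (w * w) by simp only [P, mul_assoc]]
    exact hup hU hww 6 rfl
  have z4 : w * Q ∈ N ^ 6 := by
    rw [show w * Q = w * w * (u * w * u) by simp only [Q, mul_assoc]]
    exact hup hww hU 6 rfl
  set X₅ := u * w * u * w * u
  set Y₅ := w * u * w * u * w
  have hX : X₅ ∈ N ^ 6 := by
    have a1 : (1 - g₁) • X₅ ∈ N ^ 6 := by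
      have e := congrArg (· * u) hPe
      simp only [add_mul, smul_mul_assoc, sub_mul] at e
      rw [show (1 - g₁) • X₅ = e₁ * u - g₁ • (Q * u) by
        rw [sub_smul, one_smul, show X₅ = P * u from rfl]
        conv_lhs => arg 1; rw [← e]
        module]
      exact sub_mem (hPu u hu1).1 (Submodule.smul_mem _ _ z1)
    have a2 : g₁ • X₅ ∈ N ^ 6 := by
      have e := congrArg (u * ·) hPe
      simp only [mul_add, mul_smul_comm, mul_sub] at e
      rw [show g₁ • X₅ = g₁ • (u * P) + u * e₁ - u * P by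
        rw [show X₅ = u * Q by simp only [X₅, Q, mul_assoc]]
        conv_rhs => arg 2; rw [← e]
        module]
      exact sub_mem (add_mem (Submodule.smul_mem _ _ z2) (hPu u hu1).2.1) z2
    have := add_mem a1 a2
    rwa [← add_smul, sub_add_cancel, one_smul] at this
  have hY : Y₅ ∈ N ^ 6 := by
    have a1 : (1 + g₂) • Y₅ ∈ N ^ 6 := by
      have e := congrArg (· * w) hQe
      simp only [add_mul, smul_mul_assoc, sub_mul] at e
      rw [show (1 + g₂) • Y₅ = g₂ • (P * w) + e₂ * w by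
        rw [add_smul, one_smul, show Y₅ = Q * w from rfl]
        conv_lhs => arg 1; rw [← e]
        module]
      exact add_mem (Submodule.smul_mem _ _ z3) (hPu w hw1).2.2.1
    have a2 : g₂ • Y₅ ∈ N ^ 6 := by
      have e := congrArg (w * ·) hQe
      simp only [mul_add, mul_smul_comm, mul_sub] at e
      rw [show g₂ • Y₅ = w * Q + g₂ • (w * Q) - w * e₂ by
        rw [show Y₅ = w * P by simp only [Y₅, P, mul_assoc]]
        conv_rhs => arg 1; arg 1; rw [← e]
        module]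
      exact sub_mem (add_mem z4 (Submodule.smul_mem _ _ z4)) (hPu w hw1).2.2.2
    have := sub_mem a1 a2
    rwa [← sub_smul, add_sub_cancel_right, one_smul] at this
  refine h.strict (i := 5) hL ?_
  rw [show (5 : ℕ) = 4 + 1 from rfl, pow_succ N 4, Submodule.mul_le]
  intro a ha b hb
  obtain ⟨a₁, ha₁, a₂, ha₂, rfl⟩ := Submodule.mem_sup.1 (hN4 ha)
  obtain ⟨c, rfl⟩ := Submodule.mem_span_singleton.1 ha₁
  obtain ⟨b₁, hb₁, b₂, hb₂, rfl⟩ := Submodule.mem_sup.1 (hgen2 hb)
  obtain ⟨γ, δ, rfl⟩ := Submodule.mem_span_pair.1 hb₁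
  rw [show (c • (P - Q) + a₂) * (γ • u + δ • w + b₂) =
      ((c * γ) • X₅ - (c * γ) • (Q * u) + ((c * δ) • (P * w) - (c * δ) • Y₅)) +
        (c • ((P - Q) * b₂) + a₂ * (γ • u + δ • w + b₂)) by
    simp only [P, Q, X₅, Y₅, add_mul, mul_add, sub_mul, smul_mul_assoc, mul_smul_comm]
    module]
  exact add_mem (add_mem (sub_mem (Submodule.smul_mem _ _ hX) (Submodule.smul_mem _ _ z1))
      (sub_mem (Submodule.smul_mem _ _ z3) (Submodule.smul_mem _ _ hY)))
    (add_mem (Submodule.smul_mem _ _ (hup (sub_mem (hup hU hw1 4 rfl) (hup hW hu1 4 rfl)) hb₂ 6 rfl))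
      (hup (j := 1) ha₂ (by rwa [pow_one]) 6 rfl))

end LocalSym

/-- A local symmetric algebra with at most five trace functions has dimension at most eight. -/
theorem finrank_le_eight [IsAlgClosed k] [FiniteDimensional k R] {ε : R} {C N : Submodule k R}
    (hεC : ε ∈ C) (hεl : ∀ x ∈ C, ε * x = x) (hεr : ∀ x ∈ C, x * ε = x)
    (hdec : ∀ x ∈ C, ∃ c : k, x - c • ε ∈ N) (hNC : N ≤ C) (hεN : ε ∉ N)
    (hNmul : N * N ≤ N) (hNJ : ∀ x ∈ N, x ∈ Ring.jacobson R)
    (τ : R →ₗ[k] k) (htr : ∀ x y, τ (x * y) = τ (y * x))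
    (hnd : ∀ x ∈ C, x ≠ 0 → ∃ y ∈ C, τ (x * y) ≠ 0) {m : ℕ} (hm : m ≤ 5)
    (hrank : ∀ T : Submodule k R, T ≤ C → (∀ a b, a ∈ C → b ∈ C → a * b - b * a ∈ T) →
      finrank k C ≤ finrank k T + m) : finrank k C ≤ 8 := by
  classical
  by_cases hcomm : ∀ a ∈ C, ∀ b ∈ C, a * b = b * a
  · have := hrank ⊥ bot_le fun a b ha hb => by
      rw [Submodule.mem_bot, sub_eq_zero, hcomm a ha b hb]
    rw [finrank_bot] at this
    omega
  -- nilpotency
  have hrad : ∀ j, N ^ j ≤ LocalRankTwo.radPow k R j := fun j => by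
    induction j with
    | zero =>
      intro x _
      rw [LocalRankTwo.mem_radPow, Submodule.pow_zero, Ideal.one_eq_top]
      exact Submodule.mem_top
    | succ j ih =>
      rw [pow_succ, Submodule.mul_le]
      intro a ha b hb
      rw [LocalRankTwo.mem_radPow, Submodule.pow_succ]
      exact Ideal.mul_mem_mul (LocalRankTwo.mem_radPow.1 (ih ha)) (hNJ b hb)
  have hex : ∃ j, N ^ (j + 1) = ⊥ := by
    obtain ⟨L0, hL0⟩ := LocalRankTwo.exists_radPow_eq_bot k R
    refine ⟨L0, le_bot_iff.1 ((hrad _).trans ?_)⟩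
    intro x hx
    have h : x ∈ LocalRankTwo.radPow k R L0 := by
      rw [LocalRankTwo.mem_radPow] at hx ⊢
      rw [Submodule.pow_succ] at hx
      exact Ideal.mul_le_left hx
    rwa [hL0] at h
  set L := Nat.find hex with hLdef
  have hred : (∀ a ∈ N, ∀ b ∈ N, a * b = b * a) → False := fun hN => hcomm fun a ha b hb => by
    obtain ⟨α, hα⟩ := hdec a ha
    obtain ⟨β, hβ⟩ := hdec b hb
    have h0 := hN _ hα _ hβ
    simp only [sub_mul, mul_sub, smul_mul_assoc, mul_smul_comm, hεl a ha, hεr a ha, hεl b hb,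
      hεr b hb, hεl ε hεC, smul_smul, mul_comm α β] at h0
    rw [← sub_eq_zero] at h0 ⊢
    rw [← h0]
    module
  have hL1 : 1 ≤ L := by
    by_contra hlt
    refine hred fun a ha b hb => ?_
    have h1 : N ^ (L + 1) = ⊥ := Nat.find_spec hex
    rw [show L = 0 by omega, zero_add, pow_one] at h1
    rw [h1, Submodule.mem_bot] at ha hb
    rw [ha, hb]
  have hne : N ^ L ≠ ⊥ := fun h => by
    have := Nat.find_min' hex (m := L - 1) (by rwa [show L - 1 + 1 = L by omega])
    omega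
  have h : LocalSym ε C N τ L := ⟨hεC, hεl, hεr, hdec, hNC, hεN, hNmul, htr, hnd,
    fun T hT h' => (hrank T hT h').trans (by omega), Nat.find_spec hex, hne, hL1⟩
  -- at least two generators, at least three layers
  have hgen2 : finrank k ↥(N ^ 2) + 2 ≤ finrank k N := by
    by_contra hlt
    by_cases hN : N ≤ N ^ 2
    · exact h.strict (i := 1) hL1 (by rwa [pow_one])
    obtain ⟨v, hv, hv2⟩ := SetLike.not_le_iff_exists.1 hN
    refine hred (h.comm_of_one_gen hv (Submodule.eq_of_le_of_finrank_le (sup_le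
      ((Submodule.span_singleton_le_iff_mem _ _).2 hv) (h.pow_le (by norm_num))) ?_).ge)
    have hlt' : N ^ 2 < Submodule.span k {v} ⊔ N ^ 2 := lt_of_le_of_ne le_sup_right fun e =>
      hv2 (e.symm ▸ Submodule.mem_sup_left (Submodule.mem_span_singleton_self v))
    have := Submodule.finrank_lt_finrank_of_lt hlt'
    omega
  have hL3 : 3 ≤ L := by
    by_contra hlt
    refine hred fun a ha b hb => sub_eq_zero.1 ?_
    have hm : a * b - b * a ∈ comm2 N N ⊓ N ^ L :=
      ⟨mem_comm2 ha hb, h.anti hL1 (by omega) (h.comm2_le_sq (mem_comm2 ha hb))⟩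
    rwa [h.comm2_inf, Submodule.mem_bot] at hm
  have hC := h.finrank_eq
  have hR := h.rank_comm2
  have hKL := h.comm2_add_one_le
  have hKL2 : finrank k ↥(comm2 N N ⊔ N ^ L) ≤ finrank k ↥(N ^ 2) :=
    Submodule.finrank_mono (sup_le h.comm2_le_sq (h.anti (by norm_num) (by omega)))
  have hnc : ¬ ∀ a ∈ N, ∀ b ∈ N, a * b = b * a := hred
  rcases (by omega : finrank k N = finrank k ↥(N ^ 2) + 2 ∨ finrank k N = finrank k ↥(N ^ 2) + 3)
    with hd | hd
  · -- two generators
    by_contra hgt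
    obtain ⟨x, hx, y, hy, hgen⟩ := LocalSym.exists_two (A := N) (B := N ^ 2)
      (h.pow_le (by norm_num)) (by omega)
    have hT3 : comm2 N (N ^ 2) ≤ N ^ 3 := by
      have := h.comm2_le_pow (i := 1) (j := 2)
      rwa [pow_one] at this
    have h5 : L ≤ 4 := by
      by_contra hL5
      exact h.le_four_of_two (by omega) hd (by omega) hnc
    have hle : finrank k ↥(comm2 N N ⊔ N ^ L) ≤ finrank k ↥(N ^ 3) + 1 := by
      refine (Submodule.finrank_mono (sup_le ((h.comm2_two hx hy hgen).trans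
        (sup_le_sup_left hT3 _)) ((h.anti (by norm_num) hL3).trans le_sup_right))).trans ?_
      have h1 := Submodule.finrank_sup_add_finrank_inf_eq (Submodule.span k {x * y - y * x}) (N ^ 3)
      have h2 := finrank_span_le_card (R := k) ({x * y - y * x} : Set R)
      simp at h2
      omega
    have hperp := h.perp (i := 3) (j := 2) (by norm_num) (by norm_num) (by omega)
    omega
  · -- three generators
    by_contra hgt
    have h4 : L = 3 := by
      by_contra hL4
      exact h.le_three_of_three (by omega) hd (by omega)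
    have hperp := h.perp (i := 3) (j := 1) (by norm_num) le_rfl (by omega)
    rw [pow_one] at hperp
    obtain ⟨x₁, hx₁, hx₁'⟩ : ∃ x ∈ N, x ∉ N ^ 2 := SetLike.not_le_iff_exists.1 fun e => by
      have := Submodule.finrank_mono e; omega
    obtain ⟨x₂, hx₂, x₃, hx₃, hgen⟩ := LocalSym.exists_two (A := N)
      (B := Submodule.span k {x₁} ⊔ N ^ 2)
      (sup_le ((Submodule.span_singleton_le_iff_mem _ _).2 hx₁) (h.pow_le (by norm_num))) (by
        have hlt : N ^ 2 < Submodule.span k {x₁} ⊔ N ^ 2 := lt_of_le_of_ne le_sup_right fun e =>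
          hx₁' (e.symm ▸ Submodule.mem_sup_left (Submodule.mem_span_singleton_self x₁))
        have := Submodule.finrank_lt_finrank_of_lt hlt
        omega)
    set c := fun a b : R => a * b - b * a with hc
    set Z₀ := Submodule.span k (({c x₁ x₂, c x₁ x₃, c x₂ x₃} : Finset R) : Set R)
    have hle : comm2 N N ≤ Z₀ ⊔ N ^ 3 := by
      refine comm2_le fun a ha b hb => ?_
      obtain ⟨a', ha', a'', ha'', rfl⟩ := Submodule.mem_sup.1 (hgen ha)
      obtain ⟨b', hb', b'', hb'', rfl⟩ := Submodule.mem_sup.1 (hgen hb)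
      obtain ⟨a₁, ha₁, a₃, ha₃, rfl⟩ := Submodule.mem_sup.1 ha''
      obtain ⟨b₁, hb₁, b₃, hb₃, rfl⟩ := Submodule.mem_sup.1 hb''
      obtain ⟨α, β, rfl⟩ := Submodule.mem_span_pair.1 ha'
      obtain ⟨γ, δ, rfl⟩ := Submodule.mem_span_pair.1 hb'
      obtain ⟨μ, rfl⟩ := Submodule.mem_span_singleton.1 ha₁
      obtain ⟨ν, rfl⟩ := Submodule.mem_span_singleton.1 hb₁
      have hlin : α • x₂ + β • x₃ + μ • x₁ ∈ N ^ 1 := by
        rw [pow_one]
        exact add_mem (add_mem (N.smul_mem α hx₂) (N.smul_mem β hx₃)) (N.smul_mem μ hx₁)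
      rw [show (α • x₂ + β • x₃ + (μ • x₁ + a₃)) * (γ • x₂ + δ • x₃ + (ν • x₁ + b₃)) -
          (γ • x₂ + δ • x₃ + (ν • x₁ + b₃)) * (α • x₂ + β • x₃ + (μ • x₁ + a₃)) =
          ((μ * γ - ν * α) • c x₁ x₂ + (μ * δ - ν * β) • c x₁ x₃ + (α * δ - γ * β) • c x₂ x₃) +
            (((α • x₂ + β • x₃ + μ • x₁) * b₃ - b₃ * (α • x₂ + β • x₃ + μ • x₁)) +
            (a₃ * (γ • x₂ + δ • x₃ + (ν • x₁ + b₃)) - (γ • x₂ + δ • x₃ + (ν • x₁ + b₃)) * a₃)) by
        simp only [hc, add_mul, mul_add, smul_mul_assoc, mul_smul_comm]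
        module]
      rw [← pow_one N] at hb
      exact add_mem (Submodule.mem_sup_left (add_mem (add_mem
        (Submodule.smul_mem _ _ (Submodule.subset_span (by simp)))
        (Submodule.smul_mem _ _ (Submodule.subset_span (by simp))))
        (Submodule.smul_mem _ _ (Submodule.subset_span (by simp)))))
        (Submodule.mem_sup_right (add_mem
          (sub_mem (LocalSym.mul_mem_pow hlin hb₃) (LocalSym.mul_mem_pow hb₃ hlin))
          (sub_mem (LocalSym.mul_mem_pow ha₃ hb) (LocalSym.mul_mem_pow hb ha₃))))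
    have h1 : finrank k ↥(comm2 N N ⊔ N ^ L) ≤ finrank k ↥(Z₀ ⊔ N ^ 3) :=
      Submodule.finrank_mono (sup_le hle (by rw [h4]; exact le_sup_right))
    have h2 := Submodule.finrank_sup_add_finrank_inf_eq Z₀ (N ^ 3)
    have h3 : finrank k Z₀ ≤ 3 := (finrank_span_finset_le_card _).trans Finset.card_le_three
    omega

end Cfsg.Agent.Blocks.FiveChars
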