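import Cfsg.Agent.Lib.Blocks.FiveChars.Product
import Mathlib.LinearAlgebra.Matrix.ToLinearEquiv

/-!
# Three generators: degree three commutators span at most a plane

For an associative product `V V ⊆ W`, `V W + W V ⊆ Z` with `dim V = dim W = 3`, `W` spanned by the
commutators `[V, V]`, `Z` by `[V, W]` and without one-sided annihilators, `dim Z ≤ 2`.

If every left multiplication is singular, the pencil is of compression type or is a twisted
exterior product; otherwise the twist of a common regular `x` has a periodic character, whose orbit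
sum is a trace in degree two or three.
-/

namespace Cfsg.Agent.Blocks.FiveChars

open Module (finrank)

variable {k V W Z : Type*} [Field k] [AddCommGroup V] [Module k V] [AddCommGroup W] [Module k W]
  [AddCommGroup Z] [Module k Z]

/-- Three nonzero linear forms are simultaneously nonzero somewhere. -/
theorem exists_ne_zero_three [Infinite k] (f g h : V →ₗ[k] k) (hf : f ≠ 0) (hg : g ≠ 0)
    (hh : h ≠ 0) : ∃ u, f u ≠ 0 ∧ g u ≠ 0 ∧ h u ≠ 0 := by
  classical
  have ex : ∀ {f : V →ₗ[k] k}, f ≠ 0 → ∃ u, f u ≠ 0 := fun {f} hf => by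
    by_contra h0
    push Not at h0
    exact hf (LinearMap.ext h0)
  obtain ⟨a, ha⟩ := ex hf
  obtain ⟨b, hb⟩ := ex hg
  obtain ⟨c, hc⟩ := ex hh
  -- the value on `u + t v` vanishes at most once
  have step : ∀ (F : V →ₗ[k] k) (u v : V), (F u ≠ 0 ∨ F v ≠ 0) → ∃ b : k, ∀ t, t ≠ b →
      F (u + t • v) ≠ 0 := fun F u v h => by
    by_cases hv : F v = 0
    · exact ⟨0, fun t _ => by simpa [hv] using h⟩
    · refine ⟨-(F u / F v), fun t ht h0 => ht ?_⟩
      rw [map_add, map_smul, smul_eq_mul] at h0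
      field_simp
      linear_combination h0
  obtain ⟨b₁, h₁⟩ := step f a b (Or.inl ha)
  obtain ⟨b₂, h₂⟩ := step g a b (Or.inr hb)
  obtain ⟨t, ht⟩ := Infinite.exists_notMem_finset ({b₁, b₂} : Finset k)
  simp only [Finset.mem_insert, Finset.mem_singleton, not_or] at ht
  obtain ⟨c₁, k₁⟩ := step f (a + t • b) c (Or.inl (h₁ t ht.1))
  obtain ⟨c₂, k₂⟩ := step g (a + t • b) c (Or.inl (h₂ t ht.2))
  obtain ⟨c₃, k₃⟩ := step h (a + t • b) c (Or.inr hc)
  obtain ⟨s, hs⟩ := Infinite.exists_notMem_finset ({c₁, c₂, c₃} : Finset k)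
  simp only [Finset.mem_insert, Finset.mem_singleton, not_or] at hs
  exact ⟨_, k₁ s hs.1, k₂ s hs.2.1, k₃ s hs.2.2⟩

/-- The equations of a singular pencil through a matrix unit of rank two. -/
theorem sing_eqs [Infinite k] (m : V →ₗ[k] V →ₗ[k] W) (hsing : ∀ u, ∃ v, v ≠ 0 ∧ m u v = 0)
    {x : V} (eb : Module.Basis (Fin 3) k V) (bW : Module.Basis (Fin 3) k W)
    (h0 : m x (eb 0) = bW 0) (h1 : m x (eb 1) = bW 1) (h2 : m x (eb 2) = 0) (u : V) :
    bW.repr (m u (eb 2)) 2 = 0 ∧
    bW.repr (m u (eb 2)) 0 * bW.repr (m u (eb 0)) 2 +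
      bW.repr (m u (eb 2)) 1 * bW.repr (m u (eb 1)) 2 = 0 ∧
    bW.repr (m u (eb 1)) 0 * bW.repr (m u (eb 2)) 1 * bW.repr (m u (eb 0)) 2 +
      bW.repr (m u (eb 2)) 0 * bW.repr (m u (eb 0)) 1 * bW.repr (m u (eb 1)) 2 -
      bW.repr (m u (eb 0)) 0 * bW.repr (m u (eb 2)) 1 * bW.repr (m u (eb 1)) 2 -
      bW.repr (m u (eb 1)) 1 * bW.repr (m u (eb 2)) 0 * bW.repr (m u (eb 0)) 2 = 0 := by
  classical
  set φ : Fin 3 → Fin 3 → k := fun i j => bW.repr (m u (eb j)) i with hφ
  have hdet : ∀ t : k, Matrix.det !![φ 0 0 + t, φ 0 1, φ 0 2; φ 1 0, φ 1 1 + t, φ 1 2;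
      φ 2 0, φ 2 1, φ 2 2] = 0 := by
    intro t
    obtain ⟨v, hv0, hv⟩ := hsing (u + t • x)
    refine Matrix.exists_mulVec_eq_zero_iff.1 ⟨fun j => eb.repr v j, fun h => hv0 ?_, funext fun i => ?_⟩
    · exact eb.repr.injective (Finsupp.ext fun j => by simpa using congrFun h j)
    · have hsum : v = eb.repr v 0 • eb 0 + eb.repr v 1 • eb 1 + eb.repr v 2 • eb 2 := by
        conv_lhs => rw [← eb.sum_repr v, Fin.sum_univ_three]
      have h := congrArg (fun w => bW.repr w i) hv
      rw [hsum] at h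
      simp only [map_add, map_smul, LinearMap.add_apply, LinearMap.smul_apply, h0, h1, h2,
        Finsupp.add_apply, Finsupp.smul_apply, smul_eq_mul, map_zero, Finsupp.zero_apply,
        Module.Basis.repr_self] at h
      fin_cases i <;>
        simp [Matrix.mulVec, dotProduct, Fin.sum_univ_three, hφ] at h ⊢ <;> linear_combination h
  obtain ⟨s, hs⟩ := Infinite.exists_notMem_finset ({0, 1} : Finset k)
  simp only [Finset.mem_insert, Finset.mem_singleton, not_or] at hs
  set c₂ := φ 2 2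
  set c₁ := (φ 0 0 + φ 1 1) * φ 2 2 - φ 0 2 * φ 2 0 - φ 1 2 * φ 2 1 with hc₁
  set c₀ := φ 0 0 * φ 1 1 * φ 2 2 - φ 0 0 * φ 1 2 * φ 2 1 - φ 0 1 * φ 1 0 * φ 2 2 +
    φ 0 1 * φ 1 2 * φ 2 0 + φ 0 2 * φ 1 0 * φ 2 1 - φ 0 2 * φ 1 1 * φ 2 0 with hc₀
  have hpoly : ∀ t : k, c₂ * t ^ 2 + c₁ * t + c₀ = 0 := fun t => by
    have h := hdet t
    rw [Matrix.det_fin_three] at h
    simp at h
    rw [hc₁, hc₀]
    linear_combination h
  have e0 : c₀ = 0 := by simpa using hpoly 0
  have e1 := hpoly 1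
  have es := hpoly s
  have hc2 : c₂ = 0 := by
    have h : c₂ * (s * (s - 1)) = 0 := by linear_combination es - s * e1 + (s - 1) * e0
    exact (mul_eq_zero.1 h).resolve_right (mul_ne_zero hs.1 (sub_ne_zero.2 hs.2))
  have hc1 : c₁ = 0 := by linear_combination e1 - e0 - hc2
  refine ⟨hc2, ?_, ?_⟩
  · show φ 0 2 * φ 2 0 + φ 1 2 * φ 2 1 = 0
    rw [hc₁] at hc1
    linear_combination (φ 0 0 + φ 1 1) * hc2 - hc1
  · show φ 0 1 * φ 1 2 * φ 2 0 + φ 0 2 * φ 1 0 * φ 2 1 - φ 0 0 * φ 1 2 * φ 2 1 -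
      φ 1 1 * φ 0 2 * φ 2 0 = 0
    rw [hc₀] at e0
    linear_combination e0 - (φ 0 0 * φ 1 1 - φ 0 1 * φ 1 0) * hc2

variable (m : V →ₗ[k] V →ₗ[k] W) (l : V →ₗ[k] W →ₗ[k] Z) (r : W →ₗ[k] V →ₗ[k] Z)

/-- The compression type. -/
theorem compression [IsAlgClosed k] [FiniteDimensional k V] [FiniteDimensional k Z]
    (hassoc : ∀ a b c, l a (m b c) = r (m a b) c) (hV : finrank k V = 3) (hWd : finrank k W = 3)
    (hWc : Submodule.span k {z | ∃ a b, z = m a b - m b a} = ⊤)
    (hZ : Submodule.span k {z | ∃ a w, z = l a w - r w a} = ⊤)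
    {p₁ p₂ : V} (hind : LinearIndependent k ![p₁, p₂]) {e : W}
    (hp₁ : ∀ v, m v p₁ ∈ Submodule.span k {e}) (hp₂ : ∀ v, m v p₂ ∈ Submodule.span k {e}) :
    finrank k Z ≤ 2 := by
  classical
  set P := Submodule.span k {p₁, p₂} with hP
  have hPe : ∀ v, ∀ p ∈ P, ∃ c : k, m v p = c • e := fun v p hp => by
    obtain ⟨s, t, rfl⟩ := Submodule.mem_span_pair.1 hp
    have : m v (s • p₁ + t • p₂) ∈ Submodule.span k {e} := by
      rw [map_add, map_smul, map_smul]
      exact add_mem (Submodule.smul_mem _ _ (hp₁ v)) (Submodule.smul_mem _ _ (hp₂ v))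
    obtain ⟨c, hc⟩ := Submodule.mem_span_singleton.1 this
    exact ⟨c, hc.symm⟩
  have hPle : finrank k P ≤ 2 := by
    have := finrank_span_finset_le_card (R := k) ({p₁, p₂} : Finset V)
    rw [Finset.coe_insert, Finset.coe_singleton] at this
    exact this.trans Finset.card_le_two
  obtain ⟨w, hw⟩ : ∃ w, w ∉ P := by
    by_contra h
    push Not at h
    rw [show P = ⊤ from top_unique fun v _ => h v, finrank_top, hV] at hPle
    omega
  have hp₁P : p₁ ∈ P := Submodule.subset_span (by simp)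
  have hp₂P : p₂ ∈ P := Submodule.subset_span (by simp)
  have hdec : ∀ v : V, ∃ α β γ : k, v = α • p₁ + β • p₂ + γ • w := by
    have hi : LinearIndependent k ![w, p₁, p₂] := by
      refine linearIndependent_fin_cons.2 ⟨hind, ?_⟩
      rwa [Matrix.range_cons, Matrix.range_cons, Matrix.range_empty, Set.union_empty,
        Set.singleton_union]
    intro v
    have hv : v ∈ Submodule.span k (Set.range ![w, p₁, p₂]) := by
      rw [hi.span_eq_top_of_card_eq_finrank (by simp [hV])]; trivial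
    obtain ⟨c, rfl⟩ := (Submodule.mem_span_range_iff_exists_fun k).1 hv
    exact ⟨c 1, c 2, c 0, by simp [Fin.sum_univ_three]; abel⟩
  set S := Submodule.span k {e, m p₁ w, m p₂ w} with hS
  have hSe : ∀ v, ∀ p ∈ P, m v p ∈ S := fun v p hp => by
    obtain ⟨c, hc⟩ := hPe v p hp
    rw [hc]; exact S.smul_mem c (Submodule.subset_span (by simp))
  -- commutators inside `P` do not all vanish
  have hne : m p₁ p₂ - m p₂ p₁ ≠ 0 := by
    intro h0
    have hle : Submodule.span k {z | ∃ a b, z = m a b - m b a} ≤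
        Submodule.span k (↑({m p₁ w - m w p₁, m p₂ w - m w p₂} : Finset W) : Set W) := by
      refine Submodule.span_le.2 ?_
      rintro _ ⟨a, b, rfl⟩
      obtain ⟨α, β, γ, rfl⟩ := hdec a
      obtain ⟨α', β', γ', rfl⟩ := hdec b
      rw [SetLike.mem_coe, Finset.coe_insert, Finset.coe_singleton, Submodule.mem_span_pair]
      refine ⟨α * γ' - α' * γ, β * γ' - β' * γ, ?_⟩
      simp only [map_add, map_smul, LinearMap.add_apply, LinearMap.smul_apply]
      rw [sub_eq_zero] at h0
      rw [h0]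
      module
    rw [hWc] at hle
    have h := (Submodule.finrank_mono hle).trans ((finrank_span_finset_le_card _).trans Finset.card_le_two)
    rw [finrank_top, hWd] at h
    omega
  obtain ⟨δ, hδ⟩ : ∃ δ : k, m p₁ p₂ - m p₂ p₁ = δ • e := by
    obtain ⟨c, hc⟩ := hPe p₁ p₂ hp₂P
    obtain ⟨c', hc'⟩ := hPe p₂ p₁ hp₁P
    exact ⟨c - c', by rw [hc, hc', sub_smul]⟩
  have hδ0 : δ ≠ 0 := fun h => hne (by rw [hδ, h, zero_smul])
  have hStop : S = ⊤ := by
    refine top_unique (hWc ▸ Submodule.span_le.2 ?_)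
    rintro _ ⟨a, b, rfl⟩
    obtain ⟨α, β, γ, rfl⟩ := hdec a
    obtain ⟨α', β', γ', rfl⟩ := hdec b
    refine (?_ : _ ∈ S)
    have i1 : m p₁ w - m w p₁ ∈ S := sub_mem (Submodule.subset_span (by simp)) (hSe w p₁ hp₁P)
    have i2 : m p₂ w - m w p₂ ∈ S := sub_mem (Submodule.subset_span (by simp)) (hSe w p₂ hp₂P)
    have i3 : m p₁ p₂ - m p₂ p₁ ∈ S := sub_mem (hSe _ p₂ hp₂P) (hSe _ p₁ hp₁P)
    rw [show m (α • p₁ + β • p₂ + γ • w) (α' • p₁ + β' • p₂ + γ' • w) -
        m (α' • p₁ + β' • p₂ + γ' • w) (α • p₁ + β • p₂ + γ • w) =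
        (α * β' - α' * β) • (m p₁ p₂ - m p₂ p₁) + (α * γ' - α' * γ) • (m p₁ w - m w p₁) +
          (β * γ' - β' * γ) • (m p₂ w - m w p₂) by
      simp only [map_add, map_smul, LinearMap.add_apply, LinearMap.smul_apply]
      module]
    exact add_mem (add_mem (S.smul_mem _ i3) (S.smul_mem _ i1)) (S.smul_mem _ i2)
  -- everything is a right multiple of `e`
  have hrange : LinearMap.range (r e) = ⊤ := by
    have hWm : Submodule.span k {z | ∃ a b, z = m a b} = ⊤ := by
      refine top_unique (hWc ▸ Submodule.span_le.2 ?_)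
      rintro _ ⟨a, b, rfl⟩
      exact sub_mem (Submodule.subset_span ⟨a, b, rfl⟩) (Submodule.subset_span ⟨b, a, rfl⟩)
    refine span_left m l r hassoc hWm hZ _ fun a u => ?_
    have hlin : ∀ p ∈ P, ∀ c, l a (m p c) ∈ LinearMap.range (r e) := fun p hp c => by
      obtain ⟨s, hs⟩ := hPe a p hp
      exact ⟨s • c, by rw [hassoc, hs, map_smul, map_smul, LinearMap.smul_apply]⟩
    have hu : u ∈ S := hStop ▸ trivial
    rw [hS, Submodule.mem_span_insert] at hu
    obtain ⟨s, y, hy, rfl⟩ := hu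
    obtain ⟨s₁, s₂, rfl⟩ := Submodule.mem_span_pair.1 hy
    have he : l a e ∈ LinearMap.range (r e) := by
      have h := congrArg (l a) hδ
      rw [map_sub, map_smul] at h
      rw [show l a e = δ⁻¹ • (l a (m p₁ p₂) - l a (m p₂ p₁)) by
        rw [h, smul_smul, inv_mul_cancel₀ hδ0, one_smul]]
      exact Submodule.smul_mem _ _ (sub_mem (hlin _ hp₁P _) (hlin _ hp₂P _))
    rw [map_add, map_add, map_smul, map_smul, map_smul]
    exact add_mem (Submodule.smul_mem _ _ he)
      (add_mem (Submodule.smul_mem _ _ (hlin _ hp₁P _)) (Submodule.smul_mem _ _ (hlin _ hp₂P _)))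
  -- an element of `P` with square zero is killed by `e`
  obtain ⟨p, hp, p', hp', hpp, hcomm⟩ : ∃ p ∈ P, ∃ p' ∈ P, m p p = 0 ∧ m p p' - m p' p ≠ 0 := by
    obtain ⟨a, ha⟩ := hPe p₁ p₁ hp₁P
    by_cases ha0 : a = 0
    · exact ⟨p₁, hp₁P, p₂, hp₂P, by rw [ha, ha0, zero_smul], hne⟩
    obtain ⟨b, hb⟩ := hPe p₁ p₂ hp₂P
    obtain ⟨b', hb'⟩ := hPe p₂ p₁ hp₁P
    obtain ⟨d, hd⟩ := hPe p₂ p₂ hp₂P
    obtain ⟨s, hs⟩ := IsAlgClosed.exists_root
      (Polynomial.C a * Polynomial.X ^ 2 + Polynomial.C (b + b') * Polynomial.X + Polynomial.C d)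
      (by rw [Polynomial.degree_quadratic ha0]; decide)
    simp only [Polynomial.IsRoot, Polynomial.eval_add, Polynomial.eval_mul, Polynomial.eval_C,
      Polynomial.eval_pow, Polynomial.eval_X] at hs
    refine ⟨s • p₁ + p₂, add_mem (P.smul_mem _ hp₁P) hp₂P, p₁, hp₁P, ?_, ?_⟩
    · simp only [map_add, map_smul, LinearMap.add_apply, LinearMap.smul_apply, ha, hb, hb', hd]
      rw [show s • (s • a • e + b' • e) + (s • b • e + d • e) =
        (a * s ^ 2 + (b + b') * s + d) • e by module, hs, zero_smul]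
    · intro h
      apply hne
      rw [← neg_eq_zero, ← h]
      simp only [map_add, map_smul, LinearMap.add_apply, LinearMap.smul_apply]
      abel
  have hker : r e p = 0 := by
    obtain ⟨c, hc⟩ := hPe p' p hp
    by_cases hc0 : c = 0
    · obtain ⟨d, hd⟩ := hPe p p' hp'
      have hd0 : d ≠ 0 := fun h => hcomm (by rw [hd, h, hc, hc0, sub_self])
      have h := hassoc p p' p
      rw [hc, hc0, zero_smul, map_zero, hd, map_smul, LinearMap.smul_apply] at h
      exact (smul_eq_zero.1 h.symm).resolve_left hd0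
    · have h := hassoc p' p p
      rw [hpp, map_zero, hc, map_smul, LinearMap.smul_apply] at h
      exact (smul_eq_zero.1 h.symm).resolve_left hc0
  have hp0 : p ≠ 0 := fun h => hcomm (by simp [h])
  have h1 := LinearMap.finrank_range_add_finrank_ker (r e)
  rw [hrange, finrank_top, hV] at h1
  have h2 : 1 ≤ finrank k (LinearMap.ker (r e)) :=
    Submodule.one_le_finrank_iff.2 fun h => hp0 (by
      have : p ∈ LinearMap.ker (r e) := hker
      rwa [h, Submodule.mem_bot] at this)
  omega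

/-- The twisted exterior type. -/
theorem exterior [FiniteDimensional k V] [FiniteDimensional k W] [FiniteDimensional k Z]
    (hassoc : ∀ a b c, l a (m b c) = r (m a b) c) (hV : finrank k V = 3) (hWd : finrank k W = 3)
    (hWm : Submodule.span k {z | ∃ a b, z = m a b} = ⊤)
    (hZ : Submodule.span k {z | ∃ a w, z = l a w - r w a} = ⊤)
    (bV eb : Module.Basis (Fin 3) k V) (F₀ F₁ F₂ : W)
    (hF : ∀ a b c : k, a • F₀ + b • F₁ + c • F₂ = 0 → a = 0 ∧ b = 0 ∧ c = 0)
    (h00 : m (bV 0) (eb 0) = F₀) (h01 : m (bV 0) (eb 1) = F₁) (h02 : m (bV 0) (eb 2) = 0)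
    (h10 : m (bV 1) (eb 0) = 0) (h11 : m (bV 1) (eb 1) = F₂) (h12 : m (bV 1) (eb 2) = F₀)
    (h20 : m (bV 2) (eb 0) = -F₂) (h21 : m (bV 2) (eb 1) = 0) (h22 : m (bV 2) (eb 2) = F₁) :
    finrank k Z ≤ 2 := by
  classical
  have hform : ∀ v w : V, m v w =
      (bV.repr v 0 * eb.repr w 0 + bV.repr v 1 * eb.repr w 2) • F₀ +
      (bV.repr v 0 * eb.repr w 1 + bV.repr v 2 * eb.repr w 2) • F₁ +
      (bV.repr v 1 * eb.repr w 1 - bV.repr v 2 * eb.repr w 0) • F₂ := by
    intro v w
    conv_lhs => rw [← bV.sum_repr v, ← eb.sum_repr w]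
    simp only [Fin.sum_univ_three, map_add, map_smul, LinearMap.add_apply, LinearMap.smul_apply,
      h00, h01, h02, h10, h11, h12, h20, h21, h22]
    module
  let g : V →ₗ[k] V :=
    { toFun := fun u => (-bV.repr u 1) • eb 0 + (-bV.repr u 2) • eb 1 + bV.repr u 0 • eb 2
      map_add' := fun u v => by
        simp only [map_add, Finsupp.add_apply]
        module
      map_smul' := fun c u => by
        simp only [map_smul, Finsupp.smul_apply, smul_eq_mul, RingHom.id_apply]
        module }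
  have hg0 : ∀ u, eb.repr (g u) 0 = -bV.repr u 1 := fun u => by simp [g, Finsupp.single_apply]
  have hg1 : ∀ u, eb.repr (g u) 1 = -bV.repr u 2 := fun u => by simp [g, Finsupp.single_apply]
  have hg2 : ∀ u, eb.repr (g u) 2 = bV.repr u 0 := fun u => by simp [g, Finsupp.single_apply]
  have ext3 : ∀ (b : Module.Basis (Fin 3) k V) (v w : V), b.repr v 0 = b.repr w 0 →
      b.repr v 1 = b.repr w 1 → b.repr v 2 = b.repr w 2 → v = w := fun b v w e0 e1 e2 =>
    b.repr.injective (Finsupp.ext (Fin.forall_fin_succ.2 ⟨e0, Fin.forall_fin_succ.2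
      ⟨e1, Fin.forall_fin_succ.2 ⟨e2, fun i => i.elim0⟩⟩⟩))
  have hgi : Function.Injective g := by
    rw [injective_iff_map_eq_zero]
    intro u h
    have e0 : -bV.repr u 1 = 0 := by rw [← hg0, h]; simp
    have e1 : -bV.repr u 2 = 0 := by rw [← hg1, h]; simp
    have e2 : bV.repr u 0 = 0 := by rw [← hg2, h]; simp
    refine ext3 bV u 0 ?_ ?_ ?_
    · simpa using e2
    · simpa using e0
    · simpa using e1
  have hug : ∀ u, m u (g u) = 0 := fun u => by
    rw [hform, hg0, hg1, hg2]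
    module
  -- the kernel of a left product is a line
  have hkerm : ∀ v, v ≠ 0 → finrank k (LinearMap.ker (m v)) ≤ 1 := by
    intro v hv
    have hle : LinearMap.ker (m v) ≤ Submodule.span k {g v} := by
      intro w hw
      rw [LinearMap.mem_ker, hform] at hw
      obtain ⟨a0, a1, a2⟩ := hF _ _ _ hw
      have hcases : bV.repr v 0 ≠ 0 ∨ bV.repr v 1 ≠ 0 ∨ bV.repr v 2 ≠ 0 := by
        by_contra hall
        push Not at hall
        exact hv (ext3 bV v 0 (by simp [hall.1]) (by simp [hall.2.1]) (by simp [hall.2.2]))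
      rw [Submodule.mem_span_singleton]
      rcases hcases with h | h | h
      · refine ⟨eb.repr w 2 / bV.repr v 0, ext3 eb _ _ ?_ ?_ ?_⟩
        all_goals rw [map_smul, Finsupp.smul_apply, smul_eq_mul]
        · rw [hg0]; field_simp; linear_combination -a0
        · rw [hg1]; field_simp; linear_combination -a1
        · rw [hg2]; field_simp
      · refine ⟨-(eb.repr w 0) / bV.repr v 1, ext3 eb _ _ ?_ ?_ ?_⟩
        all_goals rw [map_smul, Finsupp.smul_apply, smul_eq_mul]
        · rw [hg0]; field_simp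
        · rw [hg1]; field_simp; linear_combination -a2
        · rw [hg2]; field_simp; linear_combination -a0
      · refine ⟨-(eb.repr w 1) / bV.repr v 2, ext3 eb _ _ ?_ ?_ ?_⟩
        all_goals rw [map_smul, Finsupp.smul_apply, smul_eq_mul]
        · rw [hg0]; field_simp; linear_combination a2
        · rw [hg1]; field_simp
        · rw [hg2]; field_simp; linear_combination -a1
    exact (Submodule.finrank_mono hle).trans (finrank_span_le_card ({g v} : Set V) |>.trans (by simp))
  have hl0 : ∀ u w, l u (m (g u) w) = 0 := fun u w => by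
    rw [hassoc, hug, map_zero, LinearMap.zero_apply]
  have hrk : ∀ u a b, l u a ≠ 0 → l u b ∈ Submodule.span k {l u a} := by
    intro u a b ha
    have hu : u ≠ 0 := fun h => ha (by rw [h, map_zero, LinearMap.zero_apply])
    have h1 := hkerm (g u) (fun h => hu (hgi (h.trans (map_zero g).symm)))
    have h2 := LinearMap.finrank_range_add_finrank_ker (m (g u))
    have h3 := LinearMap.finrank_range_add_finrank_ker (l u)
    have h4 : finrank k (LinearMap.range (m (g u))) ≤ finrank k (LinearMap.ker (l u)) :=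
      Submodule.finrank_mono (by rintro _ ⟨w, rfl⟩; exact hl0 u w)
    rw [Submodule.eq_of_le_of_finrank_le
      ((Submodule.span_singleton_le_iff_mem _ _).2 ⟨a, rfl⟩ :
        Submodule.span k {l u a} ≤ LinearMap.range (l u))
      (by rw [finrank_span_singleton ha]; omega)]
    exact ⟨b, rfl⟩
  rcases rank_one_space l hrk with ⟨e, he⟩ | ⟨u, v, a, b, hua, hvb, huv, -⟩
  · have htop := span_left m l r hassoc hWm hZ _ he
    have h1 := finrank_span_le_card (R := k) ({e} : Set Z)
    rw [htop, finrank_top] at h1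
    simp at h1
    omega
  exfalso
  have hvb0 : l v b ≠ 0 := fun h => hvb (by rw [h]; exact zero_mem _)
  have hu : u ≠ 0 := fun h => hua (by rw [h, map_zero, LinearMap.zero_apply])
  have hker : LinearMap.range (m (g u)) = LinearMap.range (m (g v)) := by
    have hdim : ∀ w c, l w c ≠ 0 → finrank k (LinearMap.ker (l w)) ≤ 2 ∧
        2 ≤ finrank k (LinearMap.range (m (g w))) := fun w c hc => by
      have hw : w ≠ 0 := fun h => hc (by rw [h, map_zero, LinearMap.zero_apply])
      have h1 := hkerm (g w) (fun h => hw (hgi (h.trans (map_zero g).symm)))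
      have h2 := LinearMap.finrank_range_add_finrank_ker (m (g w))
      have h3 := LinearMap.finrank_range_add_finrank_ker (l w)
      have h4 : 1 ≤ finrank k (LinearMap.range (l w)) := Submodule.one_le_finrank_iff.2 fun h =>
        hc ((Submodule.eq_bot_iff _).1 h _ ⟨c, rfl⟩)
      omega
    have ku : LinearMap.range (m (g u)) = LinearMap.ker (l u) :=
      Submodule.eq_of_le_of_finrank_le (by rintro _ ⟨w, rfl⟩; exact hl0 u w)
        (by have := hdim u a hua; omega)
    have kv : LinearMap.range (m (g v)) = LinearMap.ker (l v) :=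
      Submodule.eq_of_le_of_finrank_le (by rintro _ ⟨w, rfl⟩; exact hl0 v w)
        (by have := hdim v b hvb0; omega)
    rw [ku, kv]
    ext c
    exact huv c
  -- equal images make the arguments proportional
  have hcross : ∀ c : V, (bV.repr (g v) 2) *
        (bV.repr (g u) 0 * eb.repr c 0 + bV.repr (g u) 1 * eb.repr c 2) -
      bV.repr (g v) 1 * (bV.repr (g u) 0 * eb.repr c 1 + bV.repr (g u) 2 * eb.repr c 2) +
      bV.repr (g v) 0 * (bV.repr (g u) 1 * eb.repr c 1 - bV.repr (g u) 2 * eb.repr c 0) = 0 := by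
    intro c
    obtain ⟨c', hc'⟩ : m (g u) c ∈ LinearMap.range (m (g v)) := hker ▸ ⟨c, rfl⟩
    rw [hform, hform] at hc'
    obtain ⟨e0, e1, e2⟩ := hF
      ((bV.repr (g v) 0 * eb.repr c' 0 + bV.repr (g v) 1 * eb.repr c' 2) -
        (bV.repr (g u) 0 * eb.repr c 0 + bV.repr (g u) 1 * eb.repr c 2))
      ((bV.repr (g v) 0 * eb.repr c' 1 + bV.repr (g v) 2 * eb.repr c' 2) -
        (bV.repr (g u) 0 * eb.repr c 1 + bV.repr (g u) 2 * eb.repr c 2))
      ((bV.repr (g v) 1 * eb.repr c' 1 - bV.repr (g v) 2 * eb.repr c' 0) -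
        (bV.repr (g u) 1 * eb.repr c 1 - bV.repr (g u) 2 * eb.repr c 0))
      (by
        rw [sub_smul, sub_smul, sub_smul (bV.repr (g v) 1 * eb.repr c' 1 - bV.repr (g v) 2 * eb.repr c' 0),
          ← sub_eq_zero.2 hc']
        abel)
    linear_combination (-(bV.repr (g v) 2)) * e0 + bV.repr (g v) 1 * e1 - bV.repr (g v) 0 * e2
  have c0 : bV.repr (g v) 2 * bV.repr (g u) 0 - bV.repr (g v) 0 * bV.repr (g u) 2 = 0 := by
    have := hcross (eb 0)
    simp [Finsupp.single_apply] at this
    linear_combination this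
  have c1 : bV.repr (g v) 0 * bV.repr (g u) 1 - bV.repr (g v) 1 * bV.repr (g u) 0 = 0 := by
    have := hcross (eb 1)
    simp [Finsupp.single_apply] at this
    linear_combination this
  have c2 : bV.repr (g v) 2 * bV.repr (g u) 1 - bV.repr (g v) 1 * bV.repr (g u) 2 = 0 := by
    have := hcross (eb 2)
    simp [Finsupp.single_apply] at this
    linear_combination this
  obtain ⟨t, ht⟩ : ∃ t : k, g v = t • g u := by
    have hcases : bV.repr (g u) 0 ≠ 0 ∨ bV.repr (g u) 1 ≠ 0 ∨ bV.repr (g u) 2 ≠ 0 := by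
      by_contra hall
      push Not at hall
      exact hu (hgi ((ext3 bV (g u) 0 (by simp [hall.1]) (by simp [hall.2.1])
        (by simp [hall.2.2])).trans (map_zero g).symm))
    rcases hcases with h | h | h
    · refine ⟨bV.repr (g v) 0 / bV.repr (g u) 0, ext3 bV _ _ ?_ ?_ ?_⟩
      all_goals rw [map_smul, Finsupp.smul_apply, smul_eq_mul]
      · field_simp
      · field_simp; linear_combination -c1
      · field_simp; linear_combination c0
    · refine ⟨bV.repr (g v) 1 / bV.repr (g u) 1, ext3 bV _ _ ?_ ?_ ?_⟩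
      all_goals rw [map_smul, Finsupp.smul_apply, smul_eq_mul]
      · field_simp; linear_combination c1
      · field_simp
      · field_simp; linear_combination c2
    · refine ⟨bV.repr (g v) 2 / bV.repr (g u) 2, ext3 bV _ _ ?_ ?_ ?_⟩
      all_goals rw [map_smul, Finsupp.smul_apply, smul_eq_mul]
      · field_simp; linear_combination -c0
      · field_simp; linear_combination -c2
      · field_simp
  have hv : v = t • u := hgi (by rw [ht, map_smul])
  rw [hv, map_smul, LinearMap.smul_apply] at hvb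
  exact hvb (Submodule.smul_mem _ _ (hrk u a b hua))

/-- All left multiplications singular. -/
theorem singular_le [IsAlgClosed k] [FiniteDimensional k V] [FiniteDimensional k W]
    [FiniteDimensional k Z] (hassoc : ∀ a b c, l a (m b c) = r (m a b) c)
    (hV : finrank k V = 3) (hWd : finrank k W = 3)
    (hWc : Submodule.span k {z | ∃ a b, z = m a b - m b a} = ⊤)
    (hZ : Submodule.span k {z | ∃ a w, z = l a w - r w a} = ⊤)
    (hkr : ∀ v, (∀ u, m u v = 0) → v = 0) (hsing : ∀ u, ∃ v, v ≠ 0 ∧ m u v = 0) :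
    finrank k Z ≤ 2 := by
  classical
  have hWm : Submodule.span k {z | ∃ a b, z = m a b} = ⊤ := by
    refine top_unique (hWc ▸ Submodule.span_le.2 ?_)
    rintro _ ⟨a, b, rfl⟩
    exact sub_mem (Submodule.subset_span ⟨a, b, rfl⟩) (Submodule.subset_span ⟨b, a, rfl⟩)
  -- a product of rank two
  obtain ⟨x, hx⟩ : ∃ x, finrank k (LinearMap.ker (m x)) ≤ 1 := by
    by_contra hno
    push Not at hno
    have hr1 : ∀ u a b, m u a ≠ 0 → m u b ∈ Submodule.span k {m u a} := by
      intro u a b ha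
      have h2 := LinearMap.finrank_range_add_finrank_ker (m u)
      have h3 := hno u
      rw [Submodule.eq_of_le_of_finrank_le
        ((Submodule.span_singleton_le_iff_mem _ _).2 ⟨a, rfl⟩ :
          Submodule.span k {m u a} ≤ LinearMap.range (m u))
        (by rw [finrank_span_singleton ha]; omega)]
      exact ⟨b, rfl⟩
    rcases rank_one_space m hr1 with ⟨e, he⟩ | ⟨u, -, a, -, hua, -, -, hk⟩
    · have h1 := Submodule.finrank_mono (Submodule.span_le.2
        (by rintro _ ⟨a, b, rfl⟩; exact he a b) :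
        Submodule.span k {z | ∃ a b, z = m a b} ≤ Submodule.span k {e})
      rw [hWm, finrank_top, hWd] at h1
      have := finrank_span_le_card (R := k) ({e} : Set W)
      simp at this
      omega
    · obtain ⟨v, hv0, hv⟩ := hsing u
      exact hv0 (hkr v fun w => hk w v hv)
  obtain ⟨k₀, hk0, hxk⟩ := hsing x
  have hker : LinearMap.ker (m x) = Submodule.span k {k₀} :=
    (Submodule.eq_of_le_of_finrank_le ((Submodule.span_singleton_le_iff_mem _ _).2 hxk)
      (by rw [finrank_span_singleton hk0]; exact hx)).symm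
  -- bases adapted to `x` and a chosen vector outside the kernel
  have adapted : ∀ e₁ : V, e₁ ∉ Submodule.span k {k₀} → ∃ (eb : Module.Basis (Fin 3) k V)
      (bW : Module.Basis (Fin 3) k W), eb 1 = e₁ ∧ eb 2 = k₀ ∧ m x (eb 0) = bW 0 ∧
        m x (eb 1) = bW 1 ∧ m x (eb 2) = 0 := by
    intro e₁ he₁
    have hi2 : LinearIndependent k ![e₁, k₀] := by
      refine linearIndependent_fin_cons.2 ⟨?_, ?_⟩
      · exact linearIndependent_unique_iff.2 (by simpa using hk0)
      · rwa [Matrix.range_cons, Matrix.range_empty, Set.union_empty]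
    obtain ⟨e₀, he₀⟩ : ∃ e₀, e₀ ∉ Submodule.span k (Set.range ![e₁, k₀]) := by
      by_contra h
      push Not at h
      have := finrank_span_eq_card hi2
      rw [show Submodule.span k (Set.range ![e₁, k₀]) = ⊤ from top_unique fun v _ => h v,
        finrank_top, hV] at this
      simp at this
    have hi3 : LinearIndependent k ![e₀, e₁, k₀] := linearIndependent_fin_cons.2 ⟨hi2, he₀⟩
    let eb := basisOfLinearIndependentOfCardEqFinrank hi3 (by simp [hV])
    have hfi : LinearIndependent k ![m x e₀, m x e₁] := by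
      rw [LinearIndependent.pair_iff]
      intro s t hst
      rw [← map_smul, ← map_smul, ← map_add] at hst
      have hmem : s • e₀ + t • e₁ ∈ Submodule.span k {k₀} := hker ▸ hst
      obtain ⟨c, hc⟩ := Submodule.mem_span_singleton.1 hmem
      have := Fintype.linearIndependent_iff.1 hi3 ![s, t, -c]
        (by simp [Fin.sum_univ_three, hc])
      exact ⟨by simpa using this 0, by simpa using this 1⟩
    obtain ⟨f₂, hf₂⟩ : ∃ f, f ∉ Submodule.span k (Set.range ![m x e₀, m x e₁]) := by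
      by_contra h
      push Not at h
      have := finrank_span_eq_card hfi
      rw [show Submodule.span k (Set.range ![m x e₀, m x e₁]) = ⊤ from top_unique fun v _ => h v,
        finrank_top, hWd] at this
      simp at this
    have hw3 : LinearIndependent k ![m x e₀, m x e₁, f₂] := by
      rw [Fintype.linearIndependent_iff]
      intro c hc i
      simp [Fin.sum_univ_three] at hc
      have h2 : c 2 = 0 := by
        by_contra h
        refine hf₂ ?_
        rw [Matrix.range_cons, Matrix.range_cons, Matrix.range_empty, Set.union_empty,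
          Set.singleton_union, Submodule.mem_span_pair]
        refine ⟨-(c 0) / c 2, -(c 1) / c 2, ?_⟩
        have := congrArg ((c 2)⁻¹ • ·) hc
        simp only [smul_add, smul_smul, inv_mul_cancel₀ h, one_smul, smul_zero] at this
        rw [← sub_eq_zero, ← neg_eq_zero, ← this]
        module
      rw [h2, zero_smul, add_zero] at hc
      obtain ⟨h0, h1⟩ := LinearIndependent.pair_iff.1 hfi _ _ hc
      fin_cases i <;> assumption
    refine ⟨eb, basisOfLinearIndependentOfCardEqFinrank hw3 (by simp [hWd]), ?_, ?_, ?_, ?_, ?_⟩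
    · simp [eb]
    · simp [eb]
    · simp [eb]
    · simp [eb]
    · simpa [eb] using hxk
  -- the image of the kernel
  obtain ⟨u₀, hu₀⟩ : ∃ u, m u k₀ ≠ 0 := by
    by_contra h
    push Not at h
    exact hk0 (hkr k₀ h)
  obtain ⟨e₁, he₁⟩ : ∃ e₁, m x e₁ = m u₀ k₀ := by
    obtain ⟨e, he⟩ : ∃ e, e ∉ Submodule.span k {k₀} := by
      by_contra h
      push Not at h
      have := finrank_span_singleton (K := k) hk0
      rw [show Submodule.span k {k₀} = ⊤ from top_unique fun v _ => h v, finrank_top, hV] at this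
      omega
    obtain ⟨eb, bW, -, h2, g0, g1, g2⟩ := adapted e he
    obtain ⟨h, -⟩ := sing_eqs m hsing eb bW g0 g1 g2 u₀
    rw [h2] at h
    refine ⟨bW.repr (m u₀ k₀) 0 • eb 0 + bW.repr (m u₀ k₀) 1 • eb 1, ?_⟩
    rw [map_add, map_smul, map_smul, g0, g1]
    conv_rhs => rw [← bW.sum_repr (m u₀ k₀), Fin.sum_univ_three, h, zero_smul, add_zero]
  have he₁' : e₁ ∉ Submodule.span k {k₀} := fun h => hu₀ (by
    rw [← he₁]; exact (hker ▸ h : e₁ ∈ LinearMap.ker (m x)))
  obtain ⟨eb, bW, hb1, hb2, g0, g1, g2⟩ := adapted e₁ he₁'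
  let φ : Fin 3 → Fin 3 → V →ₗ[k] k := fun i j => (bW.coord i).comp (m.flip (eb j))
  have hφ : ∀ i j u, φ i j u = bW.repr (m u (eb j)) i := fun i j u => rfl
  have eqs := fun u => sing_eqs m hsing eb bW g0 g1 g2 u
  have A0u₀ : φ 0 2 u₀ = 0 ∧ φ 1 2 u₀ = 1 := by
    rw [hφ, hφ, hb2, ← he₁, ← hb1, g1]; simp [Finsupp.single_apply]
  have hexp : ∀ u j, m u (eb j) = φ 0 j u • bW 0 + φ 1 j u • bW 1 + φ 2 j u • bW 2 := fun u j => by
    conv_lhs => rw [← bW.sum_repr (m u (eb j))]
    rw [Fin.sum_univ_three]; rfl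
  have hB : φ 2 0 ≠ 0 ∨ φ 2 1 ≠ 0 := by
    by_contra h
    push Not at h
    have hle : Submodule.span k {z | ∃ a b, z = m a b} ≤ LinearMap.ker (bW.coord 2) := by
      refine Submodule.span_le.2 ?_
      rintro _ ⟨a, b, rfl⟩
      show bW.coord 2 (m a b) = 0
      rw [← eb.sum_repr b, map_sum, map_sum]
      refine Finset.sum_eq_zero fun j _ => ?_
      rw [map_smul, map_smul, show bW.coord 2 (m a (eb j)) = φ 2 j a from rfl]
      fin_cases j
      · simp [h.1]
      · simp [h.2]
      · show _ • φ 2 2 a = 0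
        rw [hφ, (eqs a).1, smul_zero]
    have := hle (hWm ▸ Submodule.mem_top : bW 2 ∈ _)
    simp at this
  by_cases hA : φ 0 2 = 0
  · -- compression
    have hA2 : φ 1 2 ≠ 0 := fun h => by
      have := LinearMap.congr_fun h u₀
      rw [A0u₀.2, LinearMap.zero_apply] at this
      exact one_ne_zero this
    have hB1 : φ 2 1 = 0 := by
      by_contra h
      obtain ⟨u, hu1, hu2, -⟩ := exists_ne_zero_three _ _ _ hA2 h h
      have := (eqs u).2.1
      rw [← hφ, ← hφ, ← hφ, ← hφ, hA, LinearMap.zero_apply, zero_mul, zero_add] at this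
      exact mul_ne_zero hu1 hu2 this
    have hB0 : φ 2 0 ≠ 0 := hB.resolve_right (not_not_intro hB1)
    have hQ : φ 0 1 = 0 := by
      by_contra h
      obtain ⟨u, hu1, hu2, hu3⟩ := exists_ne_zero_three _ _ _ hA2 hB0 h
      have := (eqs u).2.2
      simp only [← hφ, hA, hB1, LinearMap.zero_apply, mul_zero, zero_mul, add_zero, sub_zero] at this
      exact mul_ne_zero (mul_ne_zero hu3 hu1) hu2 this
    refine compression m l r hassoc hV hWd hWc hZ (p₁ := eb 1) (p₂ := eb 2) (e := bW 1) ?_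
      (fun v => ?_) (fun v => ?_)
    · have h := eb.linearIndependent.comp ![1, 2] (by decide)
      rwa [show (⇑eb ∘ ![1, 2]) = ![eb 1, eb 2] from funext fun i => by fin_cases i <;> rfl] at h
    · rw [hexp, hQ, hB1]; simp [Submodule.smul_mem, Submodule.mem_span_singleton_self]
    · rw [hexp, hA, show φ 2 2 v = 0 from (eqs v).1]
      simp [Submodule.smul_mem, Submodule.mem_span_singleton_self]
  -- exterior type
  obtain ⟨u', hu'⟩ : ∃ u, φ 0 2 u ≠ 0 := by
    by_contra h
    push Not at h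
    exact hA (LinearMap.ext h)
  set u₁ := (φ 0 2 u')⁻¹ • u' - ((φ 0 2 u')⁻¹ * φ 1 2 u') • u₀ with hu₁
  have a10 : φ 0 2 u₁ = 1 := by simp [hu₁, A0u₀.1, hu']
  have a11 : φ 1 2 u₁ = 0 := by simp [hu₁, A0u₀.2]
  have hxA : φ 0 2 x = 0 ∧ φ 1 2 x = 0 ∧ φ 2 0 x = 0 ∧ φ 2 1 x = 0 ∧ φ 0 0 x = 1 ∧ φ 1 1 x = 1 ∧
      φ 0 1 x = 0 ∧ φ 1 0 x = 0 := by
    simp [hφ, g0, g1, g2, Finsupp.single_apply]
  -- shifts
  set y := u₁ - φ 0 0 u₁ • x with hy
  set z := u₀ - φ 1 1 u₀ • x with hz
  obtain ⟨xA, xA', xB, xB', xP, xS, xQ, xR⟩ := hxA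
  have yv : φ 0 2 y = 1 ∧ φ 1 2 y = 0 ∧ φ 0 0 y = 0 := by
    simp [hy, a10, a11, xA, xA', xP]
  have zv : φ 0 2 z = 0 ∧ φ 1 2 z = 1 ∧ φ 1 1 z = 0 := by
    simp [hz, A0u₀.1, A0u₀.2, xA, xA', xS]
  obtain ⟨ya, ya', yP⟩ := yv
  obtain ⟨za, za', zS⟩ := zv
  have e1 : ∀ u, φ 0 2 u * φ 2 0 u + φ 1 2 u * φ 2 1 u = 0 := fun u => (eqs u).2.1
  have e0 : ∀ u, φ 0 1 u * φ 1 2 u * φ 2 0 u + φ 0 2 u * φ 1 0 u * φ 2 1 u -
      φ 0 0 u * φ 1 2 u * φ 2 1 u - φ 1 1 u * φ 0 2 u * φ 2 0 u = 0 := fun u => (eqs u).2.2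
  have yB : φ 2 0 y = 0 := by have := e1 y; rw [ya, ya'] at this; linear_combination this
  have zB : φ 2 1 z = 0 := by have := e1 z; rw [za, za'] at this; linear_combination this
  set c := φ 2 1 y with hc
  have zB0 : φ 2 0 z = -c := by
    have := e1 (y + z)
    simp only [map_add, ya, ya', za, za', yB, zB, ← hc] at this
    linear_combination this
  have hbi : LinearIndependent k ![x, y, z] := by
    rw [Fintype.linearIndependent_iff]
    intro d hd i
    simp [Fin.sum_univ_three] at hd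
    have d1 : d 1 = 0 := by simpa [xA, ya, za] using congrArg (φ 0 2) hd
    have d2 : d 2 = 0 := by simpa [xA', ya', za'] using congrArg (φ 1 2) hd
    have d0 : d 0 = 0 := by simpa [xP, d1, d2] using congrArg (φ 0 0) hd
    fin_cases i <;> assumption
  let bV := basisOfLinearIndependentOfCardEqFinrank hbi (by simp [hV])
  have hc0 : c ≠ 0 := by
    intro h
    have z20 : φ 2 0 = 0 := bV.ext fun i => by
      fin_cases i <;> simp [bV, xB, yB, zB0, h]
    have z21 : φ 2 1 = 0 := bV.ext fun i => by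
      fin_cases i <;> simp [bV, xB', zB]
      exact h
    rcases hB with h' | h' <;> contradiction
  have yR : φ 1 0 y = 0 := by
    have := e0 y
    rw [ya, ya', yB, yP, ← hc] at this
    exact (mul_eq_zero.1 (show φ 1 0 y * c = 0 by linear_combination this)).resolve_right hc0
  have zQ : φ 0 1 z = 0 := by
    have := e0 z
    rw [za, za', zB, zS, zB0] at this
    exact (mul_eq_zero.1 (show φ 0 1 z * c = 0 by linear_combination -this)).resolve_right hc0
  obtain ⟨hR, hP⟩ : φ 1 0 z = -φ 1 1 y ∧ φ 0 0 z = -φ 0 1 y := by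
    have key : ∀ t : k, t * ((φ 1 0 z + φ 1 1 y) * c) - t ^ 2 * ((φ 0 0 z + φ 0 1 y) * c) = 0 := by
      intro t
      have := e0 (y + t • z)
      simp only [map_add, map_smul, smul_eq_mul, ya, ya', za, za', yB, zB, zB0, yP, yR, zQ, zS,
        ← hc] at this
      linear_combination this
    obtain ⟨s, hs⟩ := Infinite.exists_notMem_finset ({0, 1} : Finset k)
    simp only [Finset.mem_insert, Finset.mem_singleton, not_or] at hs
    have k1 := key 1
    have ks := key s
    have h2 : (φ 0 0 z + φ 0 1 y) * c * (s * (s - 1)) = 0 := by linear_combination s * k1 - ks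
    have h2' := (mul_eq_zero.1 h2).resolve_right (mul_ne_zero hs.1 (sub_ne_zero.2 hs.2))
    have h1' : (φ 1 0 z + φ 1 1 y) * c = 0 := by linear_combination k1 + h2'
    exact ⟨eq_neg_of_add_eq_zero_left ((mul_eq_zero.1 h1').resolve_right hc0),
      eq_neg_of_add_eq_zero_left ((mul_eq_zero.1 h2').resolve_right hc0)⟩
  refine exterior m l r hassoc hV hWd hWm hZ bV eb (bW 0) (bW 1)
    (φ 0 1 y • bW 0 + φ 1 1 y • bW 1 + c • bW 2) ?_ ?_ ?_ ?_ ?_ ?_ ?_ ?_ ?_ ?_
  · intro a b d h
    have hli := Fintype.linearIndependent_iff.1 bW.linearIndependent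
      ![a + d * φ 0 1 y, b + d * φ 1 1 y, d * c] (by
        rw [← h]; simp [Fin.sum_univ_three]; module)
    have hd : d = 0 := (mul_eq_zero.1 (by simpa using hli 2)).resolve_right hc0
    exact ⟨by simpa [hd] using hli 0, by simpa [hd] using hli 1, hd⟩
  all_goals simp only [bV, coe_basisOfLinearIndependentOfCardEqFinrank, Matrix.cons_val_zero,
    Matrix.cons_val_one, Matrix.cons_val]
  · exact g0
  · exact g1
  · exact g2
  · rw [hexp, yP, yR, yB]; module
  · rw [hexp, hc]
  · rw [hexp, ya, ya', show φ 2 2 y = 0 from (eqs y).1]; module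
  · rw [hexp, hP, hR, zB0]; module
  · rw [hexp, zQ, zS, zB]; module
  · rw [hexp, za, za', show φ 2 2 z = 0 from (eqs z).1]; module

/-- Three generators. -/
theorem finrank_three_le_two [IsAlgClosed k] [FiniteDimensional k V] [FiniteDimensional k W]
    [FiniteDimensional k Z] (hassoc : ∀ a b c, l a (m b c) = r (m a b) c)
    (hV : finrank k V = 3) (hWd : finrank k W = 3)
    (hWc : Submodule.span k {z | ∃ a b, z = m a b - m b a} = ⊤)
    (hZ : Submodule.span k {z | ∃ a w, z = l a w - r w a} = ⊤)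
    (hkl : ∀ u, (∀ v, m u v = 0) → u = 0) (hkr : ∀ v, (∀ u, m u v = 0) → v = 0) :
    finrank k Z ≤ 2 := by
  classical
  by_contra hZd
  have hWm : Submodule.span k {z | ∃ a b, z = m a b} = ⊤ := by
    refine top_unique (hWc ▸ Submodule.span_le.2 ?_)
    rintro _ ⟨a, b, rfl⟩
    exact sub_mem (Submodule.subset_span ⟨a, b, rfl⟩) (Submodule.subset_span ⟨b, a, rfl⟩)
  have hl : ∃ a, Function.Injective (m a) := by
    by_contra h
    push Not at h
    refine hZd (singular_le m l r hassoc hV hWd hWc hZ hkr fun u => ?_)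
    simpa [injective_iff_map_eq_zero, and_comm] using h u
  have hr : ∃ b, Function.Injective (m.flip b) := by
    by_contra h
    push Not at h
    refine hZd (singular_le m.flip r.flip l.flip (fun a b c => (hassoc c b a).symm) hV hWd ?_ ?_ hkl
      fun u => ?_)
    · rw [← hWc]
      congr 1
      ext z
      exact ⟨fun ⟨a, b, h⟩ => ⟨b, a, h⟩, fun ⟨a, b, h⟩ => ⟨b, a, h⟩⟩
    · refine top_unique (hZ ▸ Submodule.span_le.2 ?_)
      rintro _ ⟨a, w, rfl⟩
      rw [← neg_sub]
      exact neg_mem (Submodule.subset_span ⟨a, w, rfl⟩)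
    · simpa [injective_iff_map_eq_zero, and_comm] using h u
  obtain ⟨x, hLb, hRb⟩ := exists_bijective m (hV.trans hWd.symm) hl hr
  obtain ⟨i3, i3'⟩ := injective_three m l r hassoc hWm hZ (by omega) hLb.2 hRb.2
  have hx0 : x ≠ 0 := by
    rintro rfl
    haveI : Nontrivial V := Module.nontrivial_of_finrank_eq_succ hV
    obtain ⟨v, hv⟩ := exists_ne (0 : V)
    exact hv (hLb.1 (by simp))
  obtain ⟨θ, hθ, -, -, χ, hχ, hχ1, hχ2, n, hn1, hn2, hnfix⟩ :=
    exists_twist m l r hassoc x hx0 hLb hRb i3 i3' (by omega)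
  have hsurj : Function.Surjective (l x) := by
    rw [← LinearMap.range_eq_top]
    refine span_left m l r hassoc hWm hZ _ fun a w => ?_
    obtain ⟨b, rfl⟩ := hRb.2 w
    obtain ⟨c, hc⟩ := hLb.2 (m a b)
    exact ⟨m c x, by rw [hassoc, hc, ← hassoc]; rfl⟩
  let L₂ := LinearEquiv.ofBijective (m x) hLb
  let Le : V ≃ₗ[k] Z := L₂.trans (LinearEquiv.ofBijective (l x) ⟨i3, hsurj⟩)
  by_cases hfix : ∀ a, χ (θ a) = χ a
  · exact false_of_fixed hassoc hLb.2 hθ χ hχ hfix Le (fun c => rfl) hZ
  by_cases h2 : ∀ a, χ (θ (θ a)) = χ a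
  · -- a trace in degree two
    obtain ⟨a₀, ha₀⟩ : ∃ a, χ a + χ (θ a) ≠ 0 := by
      by_contra h
      push Not at h
      refine hfix fun a => ?_
      have hx := h x
      rw [hχ.1, show χ (θ x) = 1 from hχ1.1] at hx
      linear_combination h a - χ a * hx
    have hle : Submodule.span k {z | ∃ a b, z = m a b - m b a} ≤
        LinearMap.ker ((χ + χ.comp θ.toLinearMap).comp L₂.symm.toLinearMap) := by
      refine Submodule.span_le.2 ?_
      rintro _ ⟨a, b, rfl⟩
      have key : ∀ a b, (χ + χ.comp θ.toLinearMap) (L₂.symm (m a b)) =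
          χ (θ a) * χ b + χ a * χ (θ b) := by
        intro a b
        have hc : m x (L₂.symm (m a b)) = m (θ (θ.symm a)) b := by
          rw [θ.apply_symm_apply]; exact L₂.apply_symm_apply _
        have e1 := hχ.2 _ _ _ hc
        have e2 := hχ1.2 _ _ _ hc
        rw [show χ (θ.symm a) = χ (θ a) by rw [← h2 (θ.symm a), θ.apply_symm_apply]] at e1
        simp only [LinearMap.comp_apply, LinearEquiv.coe_coe, θ.apply_symm_apply] at e2
        rw [LinearMap.add_apply, LinearMap.comp_apply, LinearEquiv.coe_coe, e1, e2]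
      show (χ + χ.comp θ.toLinearMap) (L₂.symm (m a b - m b a)) = 0
      rw [map_sub, map_sub, key, key]
      ring
    have h := hle (hWc ▸ Submodule.mem_top : L₂ a₀ ∈ _)
    simp at h
    exact ha₀ h
  -- period three
  have h3 : ∀ a, χ (θ (θ (θ a))) = χ a := by
    intro a
    rw [hV] at hn2
    interval_cases n
    · exact absurd (fun b => by simpa using LinearMap.congr_fun hnfix b) hfix
    · exact absurd (fun b => by simpa [pow_two] using LinearMap.congr_fun hnfix b) h2
    · simpa [pow_succ] using LinearMap.congr_fun hnfix a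
  set χ₁ := χ.comp θ.toLinearMap
  set χ₂ := χ.comp (θ.toLinearMap.comp θ.toLinearMap)
  obtain ⟨a₀, ha₀⟩ : ∃ a, χ a + χ₁ a + χ₂ a ≠ 0 := by
    by_contra h
    push Not at h
    obtain ⟨b₀, hb₀⟩ : ∃ b, χ b ≠ χ₁ b := by
      by_contra h'
      push Not at h'
      exact hfix fun a => (h' a).symm
    set b := b₀ - χ₁ b₀ • x
    refine h2 fun a => ?_
    obtain ⟨c, hc⟩ := hLb.2 (m (θ a) b)
    have q := h c
    rw [hχ.2 _ _ _ hc, hχ1.2 _ _ _ hc, hχ2.2 _ _ _ hc] at q
    have b1 : χ₁ b = 0 := by simp [b, hχ1.1]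
    have b2 : χ₂ b = -χ b := by linear_combination h b - b1
    have b0 : χ b ≠ 0 := fun h0 => hb₀ (by simpa [b, hχ.1, sub_eq_zero] using h0)
    rw [b1, b2] at q
    have := (mul_eq_zero.1 (show χ b * (χ₂ a - χ a) = 0 by linear_combination -q)).resolve_left b0
    exact sub_eq_zero.1 this
  have hle : Submodule.span k {z | ∃ a w, z = l a w - r w a} ≤
      LinearMap.ker ((χ + χ₁ + χ₂).comp Le.symm.toLinearMap) := by
    refine Submodule.span_le.2 ?_
    rintro _ ⟨a, w, rfl⟩
    obtain ⟨b, rfl⟩ := hLb.2 w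
    show (χ + χ₁ + χ₂) (Le.symm _) = 0
    rw [LinearMap.add_apply, LinearMap.add_apply,
      three_formula hassoc hLb.2 hθ χ hχ Le (fun c => rfl),
      three_formula hassoc hLb.2 hθ χ₁ hχ1 Le (fun c => rfl),
      three_formula hassoc hLb.2 hθ χ₂ hχ2 Le (fun c => rfl)]
    simp only [χ₁, χ₂, LinearMap.comp_apply, LinearEquiv.coe_coe, θ.apply_symm_apply]
    have t1 : ∀ d, χ (θ.symm d) = χ (θ (θ d)) := fun d => by
      rw [← h3 (θ.symm d), θ.apply_symm_apply]
    rw [t1 (θ.symm a), t1 b, θ.apply_symm_apply, t1 a]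
    ring
  have h := hle (hZ ▸ Submodule.mem_top : Le a₀ ∈ _)
  simp at h
  exact ha₀ h

end Cfsg.Agent.Blocks.FiveChars
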