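import Cfsg.Agent.Lib.Blocks.FiveChars.Twisted
import Mathlib.LinearAlgebra.Eigenspace.Minpoly

/-!
# Graded products in degrees one, two and three

For an associative product `V V ⊆ W`, `V W + W V ⊆ Z` without one-sided annihilators such that `Z`
is spanned by the commutators `[V, W]`:

* `rank_one_space`: a linear space of maps of rank at most one;
* `exists_twist_or`: if some left and some right multiplication is bijective, a common `x` is;
* `false_of_fixed`: no multiplicative functional fixed by the twist;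
* `exists_square_zero_basis`: for `dim V = dim W = 2` some basis has both squares zero.
-/

namespace Cfsg.Agent.Blocks.FiveChars

open Module (finrank)

variable {k V W Z : Type*} [Field k] [AddCommGroup V] [Module k V] [AddCommGroup W] [Module k W]
  [AddCommGroup Z] [Module k Z]

/-- Maps of rank at most one: a common line, or a common kernel. -/
theorem rank_one_space (F : V →ₗ[k] W →ₗ[k] Z)
    (h : ∀ u a b, F u a ≠ 0 → F u b ∈ Submodule.span k {F u a}) :
    (∃ e : Z, ∀ u a, F u a ∈ Submodule.span k {e}) ∨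
      ∃ u v : V, ∃ a b : W, F u a ≠ 0 ∧ F v b ∉ Submodule.span k {F u a} ∧
        (∀ c, F u c = 0 ↔ F v c = 0) ∧ ∀ w c, F u c = 0 → F w c = 0 := by
  classical
  by_cases h0 : ∀ u a, F u a = 0
  · exact Or.inl ⟨0, fun u a => by simp [h0 u a]⟩
  push Not at h0
  obtain ⟨u, a, hua⟩ := h0
  by_cases h1 : ∀ v b, F v b ∈ Submodule.span k {F u a}
  · exact Or.inl ⟨_, h1⟩
  push Not at h1
  obtain ⟨v, b, hvb⟩ := h1
  -- two maps with different lines have the same kernel
  have key : ∀ u v : V, ∀ a b : W, F u a ≠ 0 → F v b ∉ Submodule.span k {F u a} → ∀ c,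
      F u c = 0 → F v c = 0 := by
    intro u v a b hua hvb c hc
    by_contra hvc
    obtain ⟨α, hα⟩ := Submodule.mem_span_singleton.1 (h v c b hvc)
    obtain ⟨γ, hγ⟩ := Submodule.mem_span_singleton.1 (h v c a hvc)
    have hne : F (u + v) c ≠ 0 := by simpa [hc] using hvc
    obtain ⟨β, hβ⟩ := Submodule.mem_span_singleton.1 (h (u + v) c a hne)
    rw [map_add, LinearMap.add_apply, LinearMap.add_apply, hc, zero_add] at hβ
    have hua' : F u a = (β - γ) • F v c := by rw [sub_smul, hβ, hγ, add_sub_cancel_right]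
    have hne' : β - γ ≠ 0 := fun e => hua (by rw [hua', e, zero_smul])
    refine hvb (Submodule.mem_span_singleton.2 ⟨α * (β - γ)⁻¹, ?_⟩)
    rw [hua', smul_smul, inv_mul_cancel_right₀ hne', hα]
  have hsymm : ∀ {u v : V} {a b : W}, F u a ≠ 0 → F v b ∉ Submodule.span k {F u a} →
      F u a ∉ Submodule.span k {F v b} := by
    intro u v a b hua hvb hmem
    obtain ⟨α, hα⟩ := Submodule.mem_span_singleton.1 hmem
    have : α ≠ 0 := fun e => hua (by rw [← hα, e, zero_smul])
    exact hvb (Submodule.mem_span_singleton.2 ⟨α⁻¹, by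
      rw [← hα, smul_smul, inv_mul_cancel₀ this, one_smul]⟩)
  have hvb0 : F v b ≠ 0 := fun e => hvb (by simp [e])
  have huv : ∀ c, F u c = 0 ↔ F v c = 0 := fun c =>
    ⟨key u v a b hua hvb c, key v u b a hvb0 (hsymm hua hvb) c⟩
  refine Or.inr ⟨u, v, a, b, hua, hvb, huv, fun w c hc => ?_⟩
  by_contra hwc
  by_cases hw : F w c ∈ Submodule.span k {F u a}
  · refine hwc (key v w b c hvb0 (fun hm => hvb ?_) c ((huv c).1 hc))
    obtain ⟨α, hα⟩ := Submodule.mem_span_singleton.1 hm
    obtain ⟨β, hβ⟩ := Submodule.mem_span_singleton.1 hw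
    have : α ≠ 0 := fun e => hwc (by rw [← hα, e, zero_smul])
    refine Submodule.mem_span_singleton.2 ⟨α⁻¹ * β, ?_⟩
    rw [mul_smul, hβ, ← hα, smul_smul, inv_mul_cancel₀ this, one_smul]
  · exact hwc (key u w a c hua hw c hc)

/-- The products span what left products by `V` span. -/
theorem span_left (m : V →ₗ[k] V →ₗ[k] W) (l : V →ₗ[k] W →ₗ[k] Z) (r : W →ₗ[k] V →ₗ[k] Z)
    (hassoc : ∀ a b c, l a (m b c) = r (m a b) c)
    (hW : Submodule.span k {z | ∃ a b, z = m a b} = ⊤)
    (hZ : Submodule.span k {z | ∃ a w, z = l a w - r w a} = ⊤)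
    (S : Submodule k Z) (hS : ∀ a w, l a w ∈ S) : S = ⊤ := by
  refine top_unique (hZ ▸ Submodule.span_le.2 ?_)
  rintro _ ⟨a, w, rfl⟩
  refine sub_mem (hS a w) ?_
  have hw : w ∈ Submodule.span k {z | ∃ a b, z = m a b} := hW ▸ trivial
  induction hw using Submodule.span_induction with
  | mem y hy => obtain ⟨b, c, rfl⟩ := hy; rw [← hassoc]; exact hS _ _
  | zero => rw [map_zero, LinearMap.zero_apply]; exact zero_mem _
  | add y y' _ _ hy hy' => rw [map_add, LinearMap.add_apply]; exact add_mem hy hy'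
  | smul c y _ hy => rw [map_smul, LinearMap.smul_apply]; exact S.smul_mem c hy

/-- A common `x` with both multiplications bijective. -/
theorem exists_bijective [Infinite k] [FiniteDimensional k V] [FiniteDimensional k W]
    (m : V →ₗ[k] V →ₗ[k] W) (hd : finrank k V = finrank k W)
    (hl : ∃ a, Function.Injective (m a)) (hr : ∃ b, Function.Injective (m.flip b)) :
    ∃ x, Function.Bijective (m x) ∧ Function.Bijective (m.flip x) := by
  classical
  obtain ⟨a, ha⟩ := hl
  obtain ⟨b, hb⟩ := hr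
  let La := LinearEquiv.ofBijective (m a) ⟨ha, (LinearMap.injective_iff_surjective_of_finrank_eq_finrank hd).1 ha⟩
  let Rb := LinearEquiv.ofBijective (m.flip b) ⟨hb, (LinearMap.injective_iff_surjective_of_finrank_eq_finrank hd).1 hb⟩
  let T₁ : Module.End k V := La.symm.toLinearMap.comp (m b)
  let T₂ : Module.End k V := Rb.symm.toLinearMap.comp (m.flip a)
  obtain ⟨t, ht⟩ := Infinite.exists_notMem_finset
    (insert (0 : k) ((T₁.finite_hasEigenvalue.toFinset.image fun e => -e⁻¹) ∪
      (T₂.finite_hasEigenvalue.toFinset.image fun e => -e)))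
  rw [Finset.mem_insert, not_or, Finset.mem_union, not_or] at ht
  obtain ⟨ht0, ht1, ht2⟩ := ht
  have bij : ∀ f : V →ₗ[k] W, Function.Injective f → Function.Bijective f := fun f hf =>
    ⟨hf, (LinearMap.injective_iff_surjective_of_finrank_eq_finrank hd).1 hf⟩
  refine ⟨a + t • b, bij _ ?_, bij _ ?_⟩
  · rw [injective_iff_map_eq_zero]
    intro v hv
    by_contra hv0
    apply ht1
    rw [Finset.mem_image]
    refine ⟨-t⁻¹, ?_, by rw [inv_neg, inv_inv, neg_neg]⟩
    rw [Set.Finite.mem_toFinset]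
    refine Module.End.hasEigenvalue_of_hasEigenvector (x := v) ⟨?_, hv0⟩
    rw [Module.End.mem_eigenspace_iff]
    rw [map_add, map_smul, LinearMap.add_apply, LinearMap.smul_apply] at hv
    have h1 : m b v = (-t⁻¹) • m a v := by
      rw [eq_neg_of_add_eq_zero_left hv, smul_neg, neg_smul, neg_neg, smul_smul,
        inv_mul_cancel₀ ht0, one_smul]
    show La.symm (m b v) = _
    rw [h1, map_smul, show La.symm (m a v) = v from La.symm_apply_apply v]
  · rw [injective_iff_map_eq_zero]
    intro v hv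
    by_contra hv0
    apply ht2
    rw [Finset.mem_image]
    refine ⟨-t, ?_, neg_neg t⟩
    rw [Set.Finite.mem_toFinset]
    refine Module.End.hasEigenvalue_of_hasEigenvector (x := v) ⟨?_, hv0⟩
    rw [Module.End.mem_eigenspace_iff]
    rw [map_add, map_smul, LinearMap.add_apply, LinearMap.smul_apply] at hv
    have h1 : m.flip a v = (-t) • m.flip b v := by
      rw [eq_neg_of_add_eq_zero_left hv, neg_smul]
    show Rb.symm (m.flip a v) = _
    rw [h1, map_smul, show Rb.symm (m.flip b v) = v from Rb.symm_apply_apply v]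

variable (m : V →ₗ[k] V →ₗ[k] W) (l : V →ₗ[k] W →ₗ[k] Z) (r : W →ₗ[k] V →ₗ[k] Z)

/-- Left and right multiplication by `x` into degree three are injective. -/
theorem injective_three [FiniteDimensional k W] [FiniteDimensional k Z]
    (hassoc : ∀ a b c, l a (m b c) = r (m a b) c)
    (hW : Submodule.span k {z | ∃ a b, z = m a b} = ⊤)
    (hZ : Submodule.span k {z | ∃ a w, z = l a w - r w a} = ⊤)
    (hd : finrank k W ≤ finrank k Z) {x : V} (hL : Function.Surjective (m x))
    (hR : Function.Surjective (m.flip x)) :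
    Function.Injective (l x) ∧ Function.Injective (r.flip x) := by
  have h2 : LinearMap.range (r.flip x) = ⊤ := by
    refine span_left m l r hassoc hW hZ _ fun a w => ?_
    obtain ⟨b, rfl⟩ := hR w
    exact ⟨m a b, (hassoc a b x).symm⟩
  have h1 : LinearMap.range (l x) = ⊤ := by
    refine span_left m l r hassoc hW hZ _ fun a w => ?_
    obtain ⟨b, rfl⟩ := hR w
    obtain ⟨c, hc⟩ := hL (m a b)
    exact ⟨m c x, by rw [hassoc, hc, ← hassoc]; rfl⟩
  have inj : ∀ f : W →ₗ[k] Z, LinearMap.range f = ⊤ → Function.Injective f := fun f hf => by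
    refine (LinearMap.injective_iff_surjective_of_finrank_eq_finrank ?_).2
      (LinearMap.range_eq_top.1 hf)
    exact le_antisymm hd (LinearMap.finrank_le_finrank_of_surjective (LinearMap.range_eq_top.1 hf))
  exact ⟨inj _ h1, inj _ h2⟩

variable {m l r}

/-- Degree three commutators at a common `x`, by the twist. -/
theorem three_formula {x : V} {θ : V ≃ₗ[k] V} (hassoc : ∀ a b c, l a (m b c) = r (m a b) c)
    (hL : Function.Surjective (m x)) (hθ : ∀ a, m (θ a) x = m x a) (χ : V →ₗ[k] k)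
    (hχ : IsMult m x θ χ) (Le : V ≃ₗ[k] Z) (hLe : ∀ c, Le c = l x (m x c)) (a b : V) :
    χ (Le.symm (l a (m x b) - r (m x b) a)) =
      χ (θ.symm (θ.symm a)) * χ b - χ (θ.symm b) * χ a := by
  obtain ⟨c, hc⟩ := hL (m (θ (θ.symm (θ.symm a))) b)
  obtain ⟨c', hc'⟩ := hL (m (θ (θ.symm b)) a)
  have e1 : l a (m x b) = Le c := by
    rw [hLe, hc, θ.apply_symm_apply, hassoc x (θ.symm a) b, ← hθ (θ.symm a), θ.apply_symm_apply,
      ← hassoc]
  have e2 : r (m x b) a = Le c' := by rw [hLe, hc', θ.apply_symm_apply, hassoc]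
  rw [map_sub, e1, e2, Le.symm_apply_apply, Le.symm_apply_apply, map_sub, hχ.2 _ _ _ hc,
    hχ.2 _ _ _ hc']

/-- No multiplicative functional is fixed by the twist. -/
theorem false_of_fixed {x : V} {θ : V ≃ₗ[k] V} (hassoc : ∀ a b c, l a (m b c) = r (m a b) c)
    (hL : Function.Surjective (m x)) (hθ : ∀ a, m (θ a) x = m x a) (χ : V →ₗ[k] k)
    (hχ : IsMult m x θ χ) (hfix : ∀ a, χ (θ a) = χ a) (Le : V ≃ₗ[k] Z)
    (hLe : ∀ c, Le c = l x (m x c))
    (hZ : Submodule.span k {z | ∃ a w, z = l a w - r w a} = ⊤) : False := by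
  have hle : Submodule.span k {z | ∃ a w, z = l a w - r w a} ≤
      LinearMap.ker (χ.comp Le.symm.toLinearMap) := Submodule.span_le.2 (by
    rintro _ ⟨a, w, rfl⟩
    obtain ⟨b, rfl⟩ := hL w
    show χ (Le.symm _) = 0
    rw [three_formula hassoc hL hθ χ hχ Le hLe, ← hfix (θ.symm (θ.symm a)), θ.apply_symm_apply,
      ← hfix (θ.symm a), θ.apply_symm_apply, ← hfix (θ.symm b), θ.apply_symm_apply]
    ring)
  have h := hle (hZ ▸ Submodule.mem_top : Le x ∈ _)
  rw [LinearMap.mem_ker, LinearMap.comp_apply, LinearEquiv.coe_coe, Le.symm_apply_apply, hχ.1] at h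
  exact one_ne_zero h

/-- In rank two some basis has both squares zero. -/
theorem exists_square_zero_basis [IsAlgClosed k] [FiniteDimensional k V] [FiniteDimensional k W]
    [FiniteDimensional k Z] (m : V →ₗ[k] V →ₗ[k] W) (l : V →ₗ[k] W →ₗ[k] Z)
    (r : W →ₗ[k] V →ₗ[k] Z) (hassoc : ∀ a b c, l a (m b c) = r (m a b) c)
    (hV : finrank k V = 2) (hWd : finrank k W = 2) (hZd : 2 ≤ finrank k Z)
    (hW : Submodule.span k {z | ∃ a b, z = m a b} = ⊤)
    (hZ : Submodule.span k {z | ∃ a w, z = l a w - r w a} = ⊤)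
    (hkl : ∀ u, (∀ v, m u v = 0) → u = 0) (hkr : ∀ v, (∀ u, m u v = 0) → v = 0) :
    ∃ y₁ y₂, LinearIndependent k ![y₁, y₂] ∧ m y₁ y₁ = 0 ∧ m y₂ y₂ = 0 := by
  classical
  have side : ∀ m' : V →ₗ[k] V →ₗ[k] W, Submodule.span k {z | ∃ a b, z = m' a b} = ⊤ →
      (∀ v, (∀ u, m' u v = 0) → v = 0) → ∃ a, Function.Injective (m' a) := by
    intro m' hW' hk'
    by_contra hno
    push Not at hno
    have hr1 : ∀ u a b, m' u a ≠ 0 → m' u b ∈ Submodule.span k {m' u a} := by
      intro u a b ha
      obtain ⟨v, hv, hv0⟩ : ∃ v, m' u v = 0 ∧ v ≠ 0 := by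
        simpa [injective_iff_map_eq_zero] using hno u
      have hind : LinearIndependent k ![a, v] := by
        rw [LinearIndependent.pair_iff]
        intro s t hst
        have h := congrArg (m' u) hst
        rw [map_add, map_smul, map_smul, hv, smul_zero, add_zero, map_zero, smul_eq_zero] at h
        have hs := h.resolve_right ha
        rw [hs, zero_smul, zero_add, smul_eq_zero] at hst
        exact ⟨hs, hst.resolve_right hv0⟩
      have hb : b ∈ Submodule.span k (Set.range ![a, v]) := by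
        rw [hind.span_eq_top_of_card_eq_finrank (by simp [hV])]; trivial
      rw [Matrix.range_cons, Matrix.range_cons, Matrix.range_empty, Set.union_empty,
        Set.singleton_union, Submodule.mem_span_pair] at hb
      obtain ⟨s, t, rfl⟩ := hb
      rw [map_add, map_smul, map_smul, hv, smul_zero, add_zero]
      exact Submodule.smul_mem _ _ (Submodule.mem_span_singleton_self _)
    rcases rank_one_space m' hr1 with ⟨e, he⟩ | ⟨u, -, a, -, hua, -, -, hker⟩
    · have h1 := Submodule.finrank_mono (R := k) (Submodule.span_le.2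
        (by rintro _ ⟨a, b, rfl⟩; exact he a b) :
        Submodule.span k {z | ∃ a b, z = m' a b} ≤ Submodule.span k {e})
      rw [hW', finrank_top, hWd] at h1
      have := finrank_span_le_card (R := k) ({e} : Set W)
      simp at this
      omega
    · obtain ⟨v, hv, hv0⟩ : ∃ v, m' u v = 0 ∧ v ≠ 0 := by
        simpa [injective_iff_map_eq_zero] using hno u
      exact hv0 (hk' v fun w => hker w v hv)
  obtain ⟨x, hLb, hRb⟩ := exists_bijective m (hV.trans hWd.symm) (side m hW hkr)
    (side m.flip (by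
      rw [← hW]; congr 1; ext z
      exact ⟨fun ⟨a, b, h⟩ => ⟨b, a, h⟩, fun ⟨a, b, h⟩ => ⟨b, a, h⟩⟩) hkl)
  have hx0 : x ≠ 0 := by
    rintro rfl
    have := hLb.1 (a₁ := 0) (a₂ := 0)
    haveI : Nontrivial V := Module.nontrivial_of_finrank_eq_succ hV
    obtain ⟨v, hv⟩ := exists_ne (0 : V)
    exact hv (hLb.1 (by simp))
  obtain ⟨i3, i3'⟩ := injective_three m l r hassoc hW hZ (hWd ▸ hZd) hLb.2 hRb.2
  obtain ⟨θ, hθ, -, -, χ, hχ, hχ1, -, n, hn1, hn2, hnfix⟩ :=
    exists_twist m l r hassoc x hx0 hLb hRb i3 i3' (by omega)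
  have hsurj : Function.Surjective (l x) := by
    rw [← LinearMap.range_eq_top]
    refine span_left m l r hassoc hW hZ _ fun a w => ?_
    obtain ⟨b, rfl⟩ := hRb.2 w
    obtain ⟨c, hc⟩ := hLb.2 (m a b)
    exact ⟨m c x, by rw [hassoc, hc, ← hassoc]; rfl⟩
  let Le : V ≃ₗ[k] Z := (LinearEquiv.ofBijective (m x) hLb).trans
    (LinearEquiv.ofBijective (l x) ⟨i3, hsurj⟩)
  by_cases hfix : ∀ a, χ (θ a) = χ a
  · exact (false_of_fixed hassoc hLb.2 hθ χ hχ hfix Le (fun c => rfl) hZ).elim
  have h2 : ∀ a, χ (θ (θ a)) = χ a := by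
    intro a
    rw [hV] at hn2
    interval_cases n
    · exact absurd (fun b => by simpa using LinearMap.congr_fun hnfix b) hfix
    · have := LinearMap.congr_fun hnfix a
      simpa [pow_two] using this
  -- the idempotents
  let Φ : V →ₗ[k] k × k := χ.prod (χ.comp θ.toLinearMap)
  have hΦ : Function.Surjective Φ := by
    rw [← LinearMap.range_eq_top]
    by_contra hne
    apply hfix
    intro a
    have hlt := Submodule.finrank_lt hne
    rw [Module.finrank_prod, Module.finrank_self] at hlt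
    have hmem : Φ x ∈ LinearMap.range Φ := ⟨x, rfl⟩
    have hxne : Φ x ≠ 0 := fun h => one_ne_zero (hχ.1.symm.trans (congrArg Prod.fst h))
    have hle : Submodule.span k {Φ x} = LinearMap.range Φ :=
      Submodule.eq_of_le_of_finrank_le ((Submodule.span_singleton_le_iff_mem _ _).2 hmem)
        (by rw [finrank_span_singleton hxne]; omega)
    have ha : Φ a ∈ Submodule.span k {Φ x} := hle ▸ ⟨a, rfl⟩
    obtain ⟨c, hc⟩ := Submodule.mem_span_singleton.1 ha
    have h1 := congrArg Prod.fst hc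
    have h2 := congrArg Prod.snd hc
    simp only [Φ, LinearMap.prod_apply, Function.prod_apply, Prod.smul_fst, Prod.smul_snd,
      LinearMap.comp_apply, LinearEquiv.coe_coe, smul_eq_mul] at h1 h2
    rw [hχ.1] at h1
    rw [show χ (θ x) = 1 from hχ1.1] at h2
    rw [← h2, h1]
  have hΦi : Function.Injective Φ := (LinearMap.injective_iff_surjective_of_finrank_eq_finrank
    (by rw [hV, Module.finrank_prod, Module.finrank_self])).2 hΦ
  obtain ⟨y₁, hy₁⟩ := hΦ (1, 0)
  obtain ⟨y₂, hy₂⟩ := hΦ (0, 1)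
  have hsq : ∀ y, χ y * χ (θ y) = 0 → m y y = 0 := by
    intro y hy
    obtain ⟨c, hc⟩ := hLb.2 (m (θ (θ.symm y)) y)
    have e1 := hχ.2 _ _ _ hc
    have e2 := hχ1.2 _ _ _ hc
    simp only [LinearMap.comp_apply, LinearEquiv.coe_coe, θ.apply_symm_apply] at e2
    rw [show χ (θ.symm y) = χ (θ y) by rw [← h2 (θ.symm y), θ.apply_symm_apply], mul_comm, hy] at e1
    rw [hy] at e2
    have hc0 : c = 0 := hΦi (by rw [map_zero]; exact Prod.ext e1 e2)
    rw [θ.apply_symm_apply, hc0, map_zero] at hc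
    exact hc.symm
  have a1 : χ y₁ = 1 := congrArg Prod.fst hy₁
  have b1 : χ (θ y₁) = 0 := congrArg Prod.snd hy₁
  have a2 : χ y₂ = 0 := congrArg Prod.fst hy₂
  refine ⟨y₁, y₂, ?_, hsq _ (by rw [b1, mul_zero]), hsq _ (by rw [a2, zero_mul])⟩
  rw [LinearIndependent.pair_iff]
  intro s t hst
  have h := congrArg Φ hst
  rw [map_add, map_smul, map_smul, hy₁, hy₂, map_zero] at h
  exact ⟨by simpa using congrArg Prod.fst h, by simpa using congrArg Prod.snd h⟩

end Cfsg.Agent.Blocks.FiveChars
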