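import Cfsg.Agent.Lib.Blocks.LocalSymmetric

/-!
# Local symmetric algebras: powers of the radical and null spaces

For a local symmetric algebra `C = k ε ⊕ N` with `N ^ (L + 1) = 0`, the null space of `N ^ i` is
`nul i = {v ∈ N ^ i | τ (v N ^ (L - i)) = 0}`; the quotients form a graded symmetric algebra.
-/

namespace Cfsg.Agent.Blocks.FiveChars

open LocalRankTwo
open Module (finrank)

variable {k R : Type*} [Field k] [Ring R] [Algebra k R]

/-- The commutators of two subspaces. -/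
def comm2 (A B : Submodule k R) : Submodule k R :=
  Submodule.span k {z | ∃ a ∈ A, ∃ b ∈ B, z = a * b - b * a}

theorem mem_comm2 {A B : Submodule k R} {a b : R} (ha : a ∈ A) (hb : b ∈ B) :
    a * b - b * a ∈ comm2 A B :=
  Submodule.subset_span ⟨a, ha, b, hb, rfl⟩

theorem comm2_le {A B S : Submodule k R} (h : ∀ a ∈ A, ∀ b ∈ B, a * b - b * a ∈ S) :
    comm2 A B ≤ S :=
  Submodule.span_le.2 (by rintro _ ⟨a, ha, b, hb, rfl⟩; exact h a ha b hb)

/-- A local symmetric algebra with at most five trace functions. -/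
structure LocalSym (ε : R) (C N : Submodule k R) (τ : R →ₗ[k] k) (L : ℕ) : Prop where
  mem_one : ε ∈ C
  one_mul : ∀ x ∈ C, ε * x = x
  mul_one : ∀ x ∈ C, x * ε = x
  dec : ∀ x ∈ C, ∃ c : k, x - c • ε ∈ N
  le : N ≤ C
  notMem : ε ∉ N
  mul_le : N * N ≤ N
  tr : ∀ x y, τ (x * y) = τ (y * x)
  nd : ∀ x ∈ C, x ≠ 0 → ∃ y ∈ C, τ (x * y) ≠ 0
  rank : ∀ T : Submodule k R, T ≤ C → (∀ a b, a ∈ C → b ∈ C → a * b - b * a ∈ T) →
      finrank k C ≤ finrank k T + 5
  bot : N ^ (L + 1) = ⊥
  ne_bot : N ^ L ≠ ⊥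
  one_le : 1 ≤ L

/-- The null space of `N ^ i`. -/
def nul (N : Submodule k R) (τ : R →ₗ[k] k) (L i : ℕ) : Submodule k R :=
  N ^ i ⊓ ⨅ c ∈ (N ^ (L - i) : Submodule k R), LinearMap.ker (τ ∘ₗ LinearMap.mulRight k c)

theorem mem_nul {N : Submodule k R} {τ : R →ₗ[k] k} {L i : ℕ} {v : R} :
    v ∈ nul N τ L i ↔ v ∈ N ^ i ∧ ∀ c ∈ N ^ (L - i), τ (v * c) = 0 := by
  simp [nul, Submodule.mem_inf, Submodule.mem_iInf]

namespace LocalSym

variable {ε : R} {C N : Submodule k R} {τ : R →ₗ[k] k} {L : ℕ}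

theorem mul_mem_pow {i j : ℕ} {a b : R} (ha : a ∈ N ^ i) (hb : b ∈ N ^ j) :
    a * b ∈ N ^ (i + j) := by
  rw [pow_add]; exact Submodule.mul_mem_mul ha hb

theorem pow_mem {v : R} (hv : v ∈ N) (i : ℕ) : v ^ i ∈ N ^ i :=
  Submodule.pow_mem_pow N hv i

theorem anti (h : LocalSym ε C N τ L) {i j : ℕ} (hi : 1 ≤ i) (hij : i ≤ j) : N ^ j ≤ N ^ i := by
  induction j, hij using Nat.le_induction with
  | base => exact le_rfl
  | succ j hj ih =>
    refine le_trans ?_ ih
    obtain ⟨j', rfl⟩ : ∃ j', j = j' + 1 := ⟨j - 1, by omega⟩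
    rw [pow_succ N (j' + 1), pow_succ N j', mul_assoc]
    exact mul_le_mul_right h.mul_le _

theorem pow_le (h : LocalSym ε C N τ L) {i : ℕ} (hi : 1 ≤ i) : N ^ i ≤ N := by
  simpa using h.anti le_rfl hi

theorem pow_eq_bot (h : LocalSym ε C N τ L) {j : ℕ} (hj : L < j) : N ^ j = ⊥ :=
  le_bot_iff.1 ((h.anti (by omega) hj).trans h.bot.le)

theorem strict (h : LocalSym ε C N τ L) {i : ℕ} (hiL : i ≤ L) : ¬ N ^ i ≤ N ^ (i + 1) := by
  intro hi
  have : ∀ j, N ^ i ≤ N ^ (i + j) := fun j => by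
    induction j with
    | zero => exact le_rfl
    | succ j ih =>
      refine hi.trans ?_
      rw [pow_succ, ← Nat.add_assoc, pow_succ N (i + j)]
      exact mul_le_mul_left ih N
  have h1 := this (L + 1 - i)
  rw [show i + (L + 1 - i) = L + 1 by omega, h.bot] at h1
  refine h.ne_bot (le_bot_iff.1 ?_)
  rw [show L = i + (L - i) by omega, pow_add]
  exact (mul_le_mul_left h1 _).trans (le_of_eq (Submodule.bot_mul _))

/-- The form does not vanish on the last power. -/
theorem exists_top (h : LocalSym ε C N τ L) : ∃ s ∈ N ^ L, τ s ≠ 0 := by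
  obtain ⟨s, hs, hs0⟩ := (Submodule.ne_bot_iff _).1 h.ne_bot
  obtain ⟨y, hy, hy0⟩ := h.nd s (h.le (h.pow_le h.one_le hs)) hs0
  obtain ⟨c, hc⟩ := h.dec y hy
  have h0 : s * (y - c • ε) = 0 := by
    have := Submodule.mul_mem_mul hs hc
    rwa [← pow_succ, h.bot, Submodule.mem_bot] at this
  rw [mul_sub, sub_eq_zero, mul_smul_comm, h.mul_one s (h.le (h.pow_le h.one_le hs))] at h0
  rw [h0, map_smul, smul_eq_mul, mul_ne_zero_iff] at hy0
  exact ⟨s, hs, hy0.2⟩

theorem succ_le_nul (h : LocalSym ε C N τ L) {i : ℕ} (hi : 1 ≤ i) (hiL : i ≤ L) :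
    N ^ (i + 1) ≤ nul N τ L i := fun v hv => by
  refine mem_nul.2 ⟨h.anti hi (by omega) hv, fun c hc => ?_⟩
  have := mul_mem_pow hv hc
  rw [h.pow_eq_bot (by omega), Submodule.mem_bot] at this
  rw [this, map_zero]

theorem nul_mul (h : LocalSym ε C N τ L) {i j : ℕ} (hij : i + j ≤ L) {v u : R}
    (hv : v ∈ nul N τ L i) (hu : u ∈ N ^ j) :
    v * u ∈ nul N τ L (i + j) ∧ u * v ∈ nul N τ L (i + j) := by
  obtain ⟨h1, h2⟩ := mem_nul.1 hv
  refine ⟨mem_nul.2 ⟨mul_mem_pow h1 hu, fun c hc => ?_⟩,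
    mem_nul.2 ⟨add_comm j i ▸ mul_mem_pow hu h1, fun c hc => ?_⟩⟩
  · rw [mul_assoc]
    exact h2 _ (by simpa [show j + (L - (i + j)) = L - i by omega] using mul_mem_pow hu hc)
  · rw [mul_assoc, h.tr, mul_assoc]
    exact h2 _ (by simpa [show L - (i + j) + j = L - i by omega] using mul_mem_pow hc hu)

theorem nul_mul_one (h : LocalSym ε C N τ L) {i : ℕ} (hi : i + 1 ≤ L) {v u : R}
    (hv : v ∈ nul N τ L i) (hu : u ∈ N) :
    v * u ∈ nul N τ L (i + 1) ∧ u * v ∈ nul N τ L (i + 1) :=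
  h.nul_mul hi hv (by rwa [pow_one])

theorem false_of_pow_le_nul (h : LocalSym ε C N τ L) {i : ℕ} (hi : i ≤ L)
    (hle : N ^ i ≤ nul N τ L i) : False := by
  obtain ⟨s, hs, hs0⟩ := h.exists_top
  apply hs0
  clear hs0
  rw [show L = i + (L - i) by omega, pow_add] at hs
  induction hs using Submodule.mul_induction_on' with
  | mem_mul_mem a ha b hb => exact (mem_nul.1 (hle ha)).2 b hb
  | add a _ b _ iha ihb => rw [map_add, iha, ihb, add_zero]

theorem comm2_le_sq (_h : LocalSym ε C N τ L) : comm2 N N ≤ N ^ 2 :=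
  comm2_le fun a ha b hb => by
    rw [pow_two]; exact sub_mem (Submodule.mul_mem_mul ha hb) (Submodule.mul_mem_mul hb ha)

theorem comm2_inf (h : LocalSym ε C N τ L) : comm2 N N ⊓ N ^ L = ⊥ := by
  refine (Submodule.eq_bot_iff _).2 fun s hs => ?_
  by_contra hs0
  have hsC := h.le (h.pow_le h.one_le hs.2)
  obtain ⟨y, hy, hy0⟩ := h.nd s hsC hs0
  obtain ⟨c, hc⟩ := h.dec y hy
  have h0 : s * (y - c • ε) = 0 := by
    have := Submodule.mul_mem_mul hs.2 hc
    rwa [← pow_succ, h.bot, Submodule.mem_bot] at this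
  rw [mul_sub, sub_eq_zero, mul_smul_comm, h.mul_one s hsC] at h0
  have hτ : comm2 N N ≤ LinearMap.ker τ := comm2_le fun a _ b _ => by simp [h.tr a b]
  rw [h0, map_smul, show τ s = 0 from hτ hs.1, smul_zero] at hy0
  exact hy0 rfl

/-- Commutators reduce to those in `N`. -/
theorem comm_reduce (h : LocalSym ε C N τ L) {a b : R} (ha : a ∈ C) (hb : b ∈ C) :
    ∃ a' ∈ N, ∃ b' ∈ N, a * b - b * a = a' * b' - b' * a' := by
  obtain ⟨α, hα⟩ := h.dec a ha
  obtain ⟨β, hβ⟩ := h.dec b hb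
  refine ⟨_, hα, _, hβ, ?_⟩
  simp only [sub_mul, mul_sub, smul_mul_assoc, mul_smul_comm, h.one_mul a ha, h.mul_one a ha,
    h.one_mul b hb, h.mul_one b hb, h.one_mul ε h.mem_one, smul_sub, smul_smul, mul_comm α β]
  abel

variable [FiniteDimensional k R]

theorem finrank_eq (h : LocalSym ε C N τ L) : finrank k C = finrank k N + 1 := by
  have hsup : C = Submodule.span k {ε} ⊔ N := by
    refine le_antisymm (fun x hx => ?_)
      (sup_le ((Submodule.span_singleton_le_iff_mem _ _).2 h.mem_one) h.le)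
    obtain ⟨c, hc⟩ := h.dec x hx
    exact Submodule.mem_sup.2 ⟨c • ε, Submodule.smul_mem _ _ (Submodule.mem_span_singleton_self ε),
      _, hc, add_sub_cancel _ _⟩
  have h1 := Submodule.finrank_sup_add_finrank_inf_eq (Submodule.span k {ε}) N
  have h2 : Submodule.span k {ε} ⊓ N = ⊥ := by
    refine (Submodule.eq_bot_iff _).2 fun x hx => ?_
    obtain ⟨c, rfl⟩ := Submodule.mem_span_singleton.1 hx.1
    rcases eq_or_ne c 0 with rfl | hc
    · exact zero_smul _ _
    · exact absurd (by simpa [smul_smul, inv_mul_cancel₀ hc] using N.smul_mem c⁻¹ hx.2) h.notMem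
  rw [← hsup, h2, finrank_bot, finrank_span_singleton
    (show ε ≠ 0 from fun h0 => h.notMem (by rw [h0]; exact N.zero_mem))] at h1
  omega

theorem rank_comm2 (h : LocalSym ε C N τ L) :
    finrank k C ≤ finrank k (comm2 N N) + 5 :=
  h.rank _ (((h.comm2_le_sq).trans (h.pow_le (by norm_num))).trans h.le) fun a b ha hb => by
    obtain ⟨a', ha', b', hb', e⟩ := h.comm_reduce ha hb
    rw [e]; exact mem_comm2 ha' hb'

theorem comm2_add_one_le (h : LocalSym ε C N τ L) :
    finrank k (comm2 N N) + 1 ≤ finrank k ↥(comm2 N N ⊔ N ^ L) := by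
  have h1 := Submodule.finrank_sup_add_finrank_inf_eq (comm2 N N) (N ^ L)
  rw [h.comm2_inf, finrank_bot] at h1
  have : 0 < finrank k ↥(N ^ L) :=
    Nat.pos_of_ne_zero fun h0 => h.ne_bot (Submodule.finrank_eq_zero.1 h0)
  omega

/-- Subspaces of powers multiplying to zero. -/
theorem perp (h : LocalSym ε C N τ L) {i j : ℕ} (hi : 1 ≤ i) (hj : 1 ≤ j) (hij : L < i + j) :
    finrank k ↥(N ^ i) + finrank k ↥(N ^ j) ≤ finrank k C := by
  let B : ↥(N ^ i) →ₗ[k] Module.Dual k C :=
    ((LinearMap.mul k R).compr₂ τ).compl₂ C.subtype |>.comp (N ^ i).subtype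
  have hB : ∀ (v : ↥(N ^ i)) (c : C), B v c = τ (v.1 * c.1) := fun v c => rfl
  have hinj : Function.Injective B := by
    rw [injective_iff_map_eq_zero]
    intro v hv
    by_contra hv0
    obtain ⟨y, hy, hy0⟩ := h.nd v.1 (h.le (h.pow_le hi v.2)) (fun e => hv0 (Subtype.ext e))
    exact hy0 (by rw [← hB v ⟨y, hy⟩, hv]; rfl)
  set T : Subspace k C := (N ^ j).comap C.subtype
  have h2 : finrank k T = finrank k ↥(N ^ j) :=
    (Submodule.comapSubtypeEquivOfLe ((h.pow_le hj).trans h.le)).finrank_eq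
  have h3 := Subspace.finrank_add_finrank_dualAnnihilator_eq T
  have h4 : LinearMap.range B ≤ T.dualAnnihilator := by
    rintro _ ⟨v, rfl⟩
    refine (Submodule.mem_dualAnnihilator _).2 fun c hc => ?_
    have := mul_mem_pow v.2 (show c.1 ∈ N ^ j from hc)
    rw [h.pow_eq_bot hij, Submodule.mem_bot] at this
    rw [hB, this, map_zero]
  have h5 := Submodule.finrank_mono h4
  rw [LinearMap.finrank_range_of_inj hinj] at h5
  omega

/-- The pairing of the first and the last but one layer. -/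
theorem pairing (h : LocalSym ε C N τ L) :
    finrank k N + finrank k (nul N τ L (L - 1)) ≤
      finrank k (nul N τ L 1) + finrank k ↥(N ^ (L - 1)) := by
  let B : N →ₗ[k] Module.Dual k ↥(N ^ (L - 1)) :=
    ((LinearMap.mul k R).compr₂ τ).compl₂ (N ^ (L - 1)).subtype |>.comp N.subtype
  have hB : ∀ (v : N) (c : ↥(N ^ (L - 1))), B v c = τ (v.1 * c.1) := fun v c => rfl
  set T : Subspace k ↥(N ^ (L - 1)) := (nul N τ L (L - 1)).comap (N ^ (L - 1)).subtype
  have hT : nul N τ L (L - 1) ≤ N ^ (L - 1) := inf_le_left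
  have h2 : finrank k T = finrank k (nul N τ L (L - 1)) :=
    (Submodule.comapSubtypeEquivOfLe hT).finrank_eq
  have h3 := Subspace.finrank_add_finrank_dualAnnihilator_eq T
  have hL := h.one_le
  have h4 : LinearMap.range B ≤ T.dualAnnihilator := by
    rintro _ ⟨v, rfl⟩
    refine (Submodule.mem_dualAnnihilator _).2 fun c hc => ?_
    rw [hB, h.tr]
    exact (mem_nul.1 (show c.1 ∈ nul N τ L (L - 1) from hc)).2 _
      (by rw [show L - (L - 1) = 1 by omega, pow_one]; exact v.2)
  have h5 := Submodule.finrank_mono h4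
  have h6 := LinearMap.finrank_range_add_finrank_ker B
  have h7 : finrank k (LinearMap.ker B) ≤ finrank k (nul N τ L 1) := by
    rw [← Submodule.finrank_map_subtype_eq]
    refine Submodule.finrank_mono ?_
    rintro _ ⟨v, hv, rfl⟩
    refine mem_nul.2 ⟨by rw [pow_one]; exact v.2, fun c hc => ?_⟩
    have := LinearMap.congr_fun hv ⟨c, hc⟩
    rwa [hB] at this
  omega

/-- A layer of dimension at most two is followed by one of dimension at most two, and a layer of
dimension at most one by one of dimension at most one. -/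
theorem layer (h : LocalSym ε C N τ L) {i D : ℕ} (hD : D ≤ 2) (hi : 2 ≤ i) (hiL : i + 1 ≤ L)
    (hd : finrank k ↥(N ^ i) ≤ finrank k (nul N τ L i) + D) :
    finrank k ↥(N ^ (i + 1)) ≤ finrank k (nul N τ L (i + 1)) + D := by
  classical
  set E := nul N τ L i
  set E' := nul N τ L (i + 1)
  have hEle : E ≤ N ^ i := inf_le_left
  -- the image of a left multiplication
  let S : R → Submodule k R := fun v => (N ^ (i - 1)).map (LinearMap.mulLeft k v) ⊔ E
  have hSle : ∀ v ∈ N, S v ≤ N ^ i := fun v hv => sup_le (by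
    rintro _ ⟨c, hc, rfl⟩
    have := mul_mem_pow (by rwa [pow_one] : v ∈ N ^ 1) hc
    rwa [show 1 + (i - 1) = i by omega] at this) hEle
  -- `N ^ (i + 1)` from products
  have hgen : ∀ T : Submodule k R, E' ≤ T →
      (∀ a ∈ N, ∀ c ∈ N ^ (i - 1), ∀ w ∈ N, a * c * w ∈ T) → N ^ (i + 1) ≤ T := by
    intro T _ hT
    rw [show i + 1 = (1 + (i - 1)) + 1 by omega, pow_succ, pow_add, pow_one, Submodule.mul_le]
    intro x hx w hw
    induction hx using Submodule.mul_induction_on' with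
    | mem_mul_mem a ha c hc => exact hT a ha c hc w hw
    | add a _ b _ iha ihb => rw [add_mul]; exact add_mem iha ihb
  by_cases hfull : ∃ v ∈ N, N ^ i ≤ S v
  · obtain ⟨v, hv, hvS⟩ := hfull
    have hle : N ^ (i + 1) ≤ (N ^ i).map (LinearMap.mulLeft k v) ⊔ E' := by
      refine hgen _ le_sup_right fun a ha c hc w hw => ?_
      have hac : a * c ∈ N ^ i := by
        have := mul_mem_pow (by rwa [pow_one] : a ∈ N ^ 1) hc
        rwa [show 1 + (i - 1) = i by omega] at this
      obtain ⟨_, ⟨c', hc', rfl⟩, e, he, hsum⟩ := Submodule.mem_sup.1 (hvS hac)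
      rw [← hsum, add_mul]
      refine add_mem (Submodule.mem_sup_left ⟨c' * w, ?_, (mul_assoc v c' w).symm⟩)
        (Submodule.mem_sup_right (h.nul_mul_one hiL he hw).1)
      have := mul_mem_pow hc' (by rwa [pow_one] : w ∈ N ^ 1)
      rwa [show i - 1 + 1 = i by omega] at this
    refine (Submodule.finrank_mono hle).trans ?_
    -- the image modulo `E'` is a quotient of the layer
    let f : ↥(N ^ i) →ₗ[k] R ⧸ E' :=
      E'.mkQ ∘ₗ LinearMap.mulLeft k v ∘ₗ (N ^ i).subtype
    have hker : E.comap (N ^ i).subtype ≤ LinearMap.ker f := fun c hc =>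
      (Submodule.Quotient.mk_eq_zero _).2 (h.nul_mul_one hiL hc hv).2
    have h1 := LinearMap.finrank_range_add_finrank_ker f
    have h2 := Submodule.finrank_mono hker
    rw [(Submodule.comapSubtypeEquivOfLe hEle).finrank_eq] at h2
    set T := (N ^ i).map (LinearMap.mulLeft k v) ⊔ E'
    let g : T →ₗ[k] R ⧸ E' := E'.mkQ ∘ₗ T.subtype
    have hg : LinearMap.range g ≤ LinearMap.range f := by
      rintro _ ⟨⟨t, ht⟩, rfl⟩
      obtain ⟨_, ⟨c, hc, rfl⟩, e, he, rfl⟩ := Submodule.mem_sup.1 ht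
      refine ⟨⟨c, hc⟩, ?_⟩
      show E'.mkQ (v * c) = E'.mkQ (v * c + e)
      rw [map_add, show E'.mkQ e = 0 from (Submodule.Quotient.mk_eq_zero _).2 he, add_zero]
    have h3 := LinearMap.finrank_range_add_finrank_ker g
    have h4 := Submodule.finrank_mono hg
    have h5 : finrank k (LinearMap.ker g) ≤ finrank k E' := by
      rw [← Submodule.finrank_map_subtype_eq]
      refine Submodule.finrank_mono ?_
      rintro _ ⟨⟨t, ht⟩, ht0, rfl⟩
      exact (Submodule.Quotient.mk_eq_zero _).1 ht0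
    omega
  push Not at hfull
  -- two lines
  have hSlt : ∀ v ∈ N, finrank k (S v) < finrank k ↥(N ^ i) := fun v hv =>
    Submodule.finrank_lt_finrank_of_lt (lt_of_le_of_ne (hSle v hv) fun e => hfull v hv e.ge)
  have hEi : ¬ N ^ i ≤ E := fun e => h.false_of_pow_le_nul (by omega) e
  obtain ⟨a₀, ha₀, c₀, hc₀, hac₀⟩ : ∃ a ∈ N, ∃ c ∈ N ^ (i - 1), a * c ∉ E := by
    by_contra hno
    push Not at hno
    refine hEi ?_
    rw [show i = 1 + (i - 1) by omega, pow_add, pow_one, Submodule.mul_le]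
    exact hno
  have hline : ∀ v ∈ N, ∀ c ∈ N ^ (i - 1), v * c ∉ E → D = 2 ∧ S v = Submodule.span k {v * c} ⊔ E := by
    intro v hv c hc hvc
    have hlt1 : finrank k E < finrank k ↥(Submodule.span k {v * c} ⊔ E) :=
      Submodule.finrank_lt_finrank_of_lt (lt_of_le_of_ne le_sup_right fun e =>
        hvc (e.symm ▸ Submodule.mem_sup_left (Submodule.mem_span_singleton_self _)))
    have hle : Submodule.span k {v * c} ⊔ E ≤ S v :=
      sup_le ((Submodule.span_singleton_le_iff_mem _ _).2 (Submodule.mem_sup_left ⟨c, hc, rfl⟩))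
        le_sup_right
    have := Submodule.finrank_mono hle
    have := hSlt v hv
    exact ⟨by omega, (Submodule.eq_of_le_of_finrank_le hle (by omega)).symm⟩
  obtain ⟨hD2, hS0⟩ := hline a₀ ha₀ c₀ hc₀ hac₀
  obtain ⟨b₀, hb₀, d₀, hd₀, hbd₀⟩ : ∃ b ∈ N, ∃ d ∈ N ^ (i - 1), b * d ∉ S a₀ := by
    by_contra hno
    push Not at hno
    refine hfull a₀ ha₀ ?_
    conv_lhs => rw [show i = 1 + (i - 1) by omega, pow_add, pow_one]
    exact Submodule.mul_le.2 hno
  -- rank one maps with two lines have one kernel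
  have key : ∀ u ∈ N, ∀ v ∈ N, ∀ c ∈ N ^ (i - 1), ∀ d ∈ N ^ (i - 1), u * c ∉ E → v * d ∉ S u →
      ∀ e ∈ N ^ (i - 1), u * e ∈ E → v * e ∈ E := by
    intro u hu v hv c hc d hd huc hvd e he hue
    by_contra hve
    have huv : (u + v) * e ∉ E := fun hm => hve (by
      have := sub_mem hm hue
      rwa [add_mul, add_sub_cancel_left] at this)
    obtain ⟨-, hSv⟩ := hline v hv e he hve
    obtain ⟨-, hSuv⟩ := hline (u + v) (add_mem hu hv) e he huv
    obtain ⟨-, hSu⟩ := hline u hu c hc huc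
    have m1 : v * c ∈ S v := Submodule.mem_sup_left ⟨c, hc, rfl⟩
    have m2 : (u + v) * c ∈ S (u + v) := Submodule.mem_sup_left ⟨c, hc, rfl⟩
    have m3 : v * d ∈ S v := Submodule.mem_sup_left ⟨d, hd, rfl⟩
    have hSe : S (u + v) = S v := by
      rw [hSuv, hSv, add_mul]
      refine le_antisymm (sup_le ((Submodule.span_singleton_le_iff_mem _ _).2 (add_mem
        (Submodule.mem_sup_right hue)
        (Submodule.mem_sup_left (Submodule.mem_span_singleton_self _)))) le_sup_right)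
        (sup_le ((Submodule.span_singleton_le_iff_mem _ _).2 ?_) le_sup_right)
      have hm : u * e + v * e ∈ Submodule.span k {u * e + v * e} ⊔ E :=
        Submodule.mem_sup_left (Submodule.mem_span_singleton_self _)
      simpa using sub_mem hm (Submodule.mem_sup_right hue)
    rw [hSe, add_mul] at m2
    have huS : u * c ∈ S v := by simpa using sub_mem m2 m1
    have hle : Submodule.span k {u * c} ⊔ E ≤ S v :=
      sup_le ((Submodule.span_singleton_le_iff_mem _ _).2 huS) le_sup_right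
    have hfin : finrank k (S v) ≤ finrank k ↥(Submodule.span k {u * c} ⊔ E) := by
      have := hSlt v hv
      have : finrank k E < finrank k ↥(Submodule.span k {u * c} ⊔ E) :=
        Submodule.finrank_lt_finrank_of_lt (lt_of_le_of_ne le_sup_right fun e =>
          huc (e.symm ▸ Submodule.mem_sup_left (Submodule.mem_span_singleton_self _)))
      omega
    rw [← Submodule.eq_of_le_of_finrank_le hle hfin, ← hSu] at m3
    exact hvd m3
  have hbdE : b₀ * d₀ ∉ E := fun hm => hbd₀ (Submodule.mem_sup_right hm)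
  have hker : ∀ v ∈ N, ∀ e ∈ N ^ (i - 1), a₀ * e ∈ E → v * e ∈ E := by
    intro v hv e he hae
    by_contra hve
    by_cases hm : v * e ∈ S a₀
    · refine hve (key b₀ hb₀ v hv d₀ hd₀ e he hbdE (fun hvb => hbd₀ ?_) e he
        (key a₀ ha₀ b₀ hb₀ c₀ hc₀ d₀ hd₀ hac₀ hbd₀ e he hae))
      obtain ⟨-, hSb⟩ := hline b₀ hb₀ d₀ hd₀ hbdE
      have hlev : Submodule.span k {v * e} ⊔ E ≤ S b₀ :=
        sup_le ((Submodule.span_singleton_le_iff_mem _ _).2 hvb) le_sup_right
      have hlev' : Submodule.span k {v * e} ⊔ E ≤ S a₀ :=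
        sup_le ((Submodule.span_singleton_le_iff_mem _ _).2 hm) le_sup_right
      have hlt : finrank k E < finrank k ↥(Submodule.span k {v * e} ⊔ E) :=
        Submodule.finrank_lt_finrank_of_lt (lt_of_le_of_ne le_sup_right fun q =>
          hve (q.symm ▸ Submodule.mem_sup_left (Submodule.mem_span_singleton_self _)))
      have := hSlt b₀ hb₀
      rw [← Submodule.eq_of_le_of_finrank_le hlev (by omega : finrank k (S b₀) ≤ _)] at hSb
      exact hlev' (hSb ▸ Submodule.mem_sup_left (Submodule.mem_span_singleton_self _))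
    · exact hve (key a₀ ha₀ v hv c₀ hc₀ e he hac₀ hm e he hae)
  -- a product outside the kernel
  obtain ⟨a, ha, c', hc', hac'⟩ : ∃ a ∈ N, ∃ c' ∈ N ^ (i - 2), a₀ * (a * c') ∉ E := by
    by_contra hno
    push Not at hno
    have hle : N ^ (i - 1) ≤ E.comap (LinearMap.mulLeft k a₀) := by
      rw [show i - 1 = 1 + (i - 2) by omega, pow_add, pow_one]
      exact Submodule.mul_le.2 hno
    exact hac₀ (hle hc₀)
  have hc1 : a * c' ∈ N ^ (i - 1) := by
    have := mul_mem_pow (by rwa [pow_one] : a ∈ N ^ 1) hc'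
    rwa [show 1 + (i - 2) = i - 1 by omega] at this
  -- every element of the degree below is a multiple of it modulo the kernel
  have hmult : ∀ c ∈ N ^ (i - 1), ∃ s : k, ∀ v ∈ N, v * c - s • (v * (a * c')) ∈ E := by
    intro c hc
    obtain ⟨-, hl⟩ := hline a₀ ha₀ _ hc1 hac'
    have hm : a₀ * c ∈ S a₀ := Submodule.mem_sup_left ⟨c, hc, rfl⟩
    rw [hl] at hm
    obtain ⟨_, hs, e, he, hsum⟩ := Submodule.mem_sup.1 hm
    obtain ⟨s, rfl⟩ := Submodule.mem_span_singleton.1 hs
    refine ⟨s, fun v hv => ?_⟩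
    have := hker v hv (c - s • (a * c')) (sub_mem hc (Submodule.smul_mem _ _ hc1))
      (by rw [mul_sub, mul_smul_comm, ← hsum, add_sub_cancel_left]; exact he)
    rwa [mul_sub, mul_smul_comm] at this
  -- products of degree `i + 1` come from `v ↦ v a (a c')`
  let f : N →ₗ[k] R ⧸ E' := E'.mkQ ∘ₗ LinearMap.mulRight k (a * (a * c')) ∘ₗ N.subtype
  let g : N →ₗ[k] R ⧸ E := E.mkQ ∘ₗ LinearMap.mulRight k (a * c') ∘ₗ N.subtype
  have hfg : LinearMap.ker g ≤ LinearMap.ker f := by
    intro v hv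
    have hv' : (v : R) * (a * c') ∈ E := (Submodule.Quotient.mk_eq_zero _).1 hv
    refine (Submodule.Quotient.mk_eq_zero _).2 ?_
    have hvk : ∀ c ∈ N ^ (i - 1), (v : R) * c ∈ E := fun c hc => by
      obtain ⟨s, hs⟩ := hmult c hc
      simpa using add_mem (hs v.1 v.2) (E.smul_mem s hv')
    show (v : R) * (a * (a * c')) ∈ E'
    have hmem : a * (a * c') ∈ N ^ (i - 1) * N := by
      rw [← pow_succ, show i - 1 + 1 = 1 + (i - 1) by omega, pow_add, pow_one]
      exact Submodule.mul_mem_mul ha hc1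
    generalize a * (a * c') = w at hmem ⊢
    induction hmem using Submodule.mul_induction_on' with
    | mem_mul_mem c hc u hu => rw [← mul_assoc]; exact (h.nul_mul_one hiL (hvk c hc) hu).1
    | add c _ d _ ihc ihd => rw [mul_add]; exact add_mem ihc ihd
  have hgr : LinearMap.range g ≤ (N ^ i).map E.mkQ := by
    rintro _ ⟨v, rfl⟩
    refine ⟨v.1 * (a * c'), ?_, rfl⟩
    have := mul_mem_pow (by rw [pow_one]; exact v.2 : v.1 ∈ N ^ 1) hc1
    rwa [show 1 + (i - 1) = i by omega] at this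
  have hmapdim : finrank k ↥((N ^ i).map E.mkQ) + finrank k E = finrank k ↥(N ^ i) := by
    have h1 := LinearMap.finrank_range_add_finrank_ker (E.mkQ ∘ₗ (N ^ i).subtype)
    rw [LinearMap.range_comp, Submodule.range_subtype] at h1
    rw [← h1]
    congr 1
    rw [LinearMap.ker_comp, Submodule.ker_mkQ, (Submodule.comapSubtypeEquivOfLe hEle).finrank_eq]
  set T := N.map (LinearMap.mulRight k (a * (a * c'))) ⊔ E'
  have hle : N ^ (i + 1) ≤ T := by
    refine hgen _ le_sup_right fun v hv c hc w hw => ?_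
    obtain ⟨s, hs⟩ := hmult c hc
    have hcw : c' * w ∈ N ^ (i - 1) := by
      have := mul_mem_pow hc' (by rwa [pow_one] : w ∈ N ^ 1)
      rwa [show i - 2 + 1 = i - 1 by omega] at this
    obtain ⟨t, ht⟩ := hmult _ hcw
    have e1 : v * c * w - s • (v * (a * c') * w) ∈ E' := by
      have := (h.nul_mul_one hiL (hs v hv) hw).1
      rwa [sub_mul, smul_mul_assoc] at this
    have e2 : v * (a * c') * w - t • (v * (a * (a * c'))) ∈ E' := by
      have := (h.nul_mul_one hiL (ht a ha) hv).2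
      rwa [mul_sub, mul_smul_comm,
        show v * (a * (c' * w)) = v * (a * c') * w by simp only [mul_assoc]] at this
    rw [show v * c * w = (s * t) • (v * (a * (a * c'))) + ((v * c * w - s • (v * (a * c') * w)) +
      s • (v * (a * c') * w - t • (v * (a * (a * c'))))) by module]
    exact add_mem (Submodule.mem_sup_left (Submodule.smul_mem _ _ ⟨v, hv, rfl⟩))
      (Submodule.mem_sup_right (add_mem e1 (E'.smul_mem s e2)))
  refine (Submodule.finrank_mono hle).trans ?_
  let gT : T →ₗ[k] R ⧸ E' := E'.mkQ ∘ₗ T.subtype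
  have hgT : LinearMap.range gT ≤ LinearMap.range f := by
    rintro _ ⟨⟨t, ht⟩, rfl⟩
    obtain ⟨_, ⟨c, hc, rfl⟩, e, he, rfl⟩ := Submodule.mem_sup.1 ht
    refine ⟨⟨c, hc⟩, ?_⟩
    show E'.mkQ (c * _) = E'.mkQ (c * _ + e)
    rw [map_add, show E'.mkQ e = 0 from (Submodule.Quotient.mk_eq_zero _).2 he, add_zero]
  have h1 := LinearMap.finrank_range_add_finrank_ker f
  have h2 := LinearMap.finrank_range_add_finrank_ker g
  have h3 := Submodule.finrank_mono hfg
  have h4 := Submodule.finrank_mono hgr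
  have h5 := LinearMap.finrank_range_add_finrank_ker gT
  have h6 := Submodule.finrank_mono hgT
  have h7 : finrank k (LinearMap.ker gT) ≤ finrank k E' := by
    rw [← Submodule.finrank_map_subtype_eq]
    refine Submodule.finrank_mono ?_
    rintro _ ⟨⟨t, ht⟩, ht0, rfl⟩
    exact (Submodule.Quotient.mk_eq_zero _).1 ht0
  omega

theorem layer_last (h : LocalSym ε C N τ L) {i D : ℕ} (hD : D ≤ 2) (hi : 2 ≤ i) (hiL : i ≤ L - 1)
    (hd : finrank k ↥(N ^ i) ≤ finrank k (nul N τ L i) + D) :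
    finrank k N ≤ finrank k (nul N τ L 1) + D := by
  have key : ∀ j, i + j ≤ L - 1 →
      finrank k ↥(N ^ (i + j)) ≤ finrank k (nul N τ L (i + j)) + D := fun j => by
    induction j with
    | zero => exact fun _ => hd
    | succ j ih => exact fun hj => h.layer (i := i + j) hD (by omega) (by omega) (ih (by omega))
  have h1 := key (L - 1 - i) (by omega)
  rw [show i + (L - 1 - i) = L - 1 by omega] at h1
  have := h.pairing
  omega

end LocalSym

end Cfsg.Agent.Blocks.FiveChars
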