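import Cfsg.Agent.Lib.Blocks.LocalRankTwo
import Mathlib.LinearAlgebra.FreeModule.Finite.Matrix

/-!
# The twisted algebra of a graded product with a two-sided unit element

Let `m : V × V → W`, `l : V × W → Z`, `r : W × V → Z` be associative and `x ∈ V` such that all
multiplications by `x` are bijective.  Then `x c = θ(a) b` makes `V` an algebra on which `θ` is an
automorphism, and some multiplicative functional is fixed by a power `θ^n` with `n ≤ dim V`.
-/

namespace Cfsg.Agent.Blocks.FiveChars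

open Module (finrank)

variable {k V W Z : Type*} [Field k] [AddCommGroup V] [Module k V] [AddCommGroup W] [Module k W]
  [AddCommGroup Z] [Module k Z]

/-- A multiplicative functional for the product `x c = θ(a) b`. -/
def IsMult (m : V →ₗ[k] V →ₗ[k] W) (x : V) (θ : V ≃ₗ[k] V) (χ : V →ₗ[k] k) : Prop :=
  χ x = 1 ∧ ∀ a b c, m x c = m (θ a) b → χ c = χ a * χ b

/-- The automorphism and a periodic multiplicative functional. -/
theorem exists_twist [IsAlgClosed k] [FiniteDimensional k V] (m : V →ₗ[k] V →ₗ[k] W)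
    (l : V →ₗ[k] W →ₗ[k] Z) (r : W →ₗ[k] V →ₗ[k] Z)
    (hassoc : ∀ a b c, l a (m b c) = r (m a b) c) (x : V) (hx0 : x ≠ 0)
    (hL : Function.Bijective (m x)) (hR : Function.Bijective (m.flip x))
    (hL3 : Function.Injective (l x)) (hR3 : Function.Injective (r.flip x))
    (hd : finrank k V ≤ 3) :
    ∃ θ : V ≃ₗ[k] V, (∀ a, m (θ a) x = m x a) ∧ θ x = x ∧
      (∀ a b c, m x c = m (θ a) b → m x (θ c) = m (θ (θ a)) (θ b)) ∧
      ∃ χ : V →ₗ[k] k, IsMult m x θ χ ∧ IsMult m x θ (χ.comp θ.toLinearMap) ∧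
        IsMult m x θ (χ.comp (θ.toLinearMap.comp θ.toLinearMap)) ∧
        ∃ n, 1 ≤ n ∧ n ≤ finrank k V ∧ χ.comp ((θ.toLinearMap) ^ n) = χ := by
  classical
  let Le := LinearEquiv.ofBijective (m x) hL
  let Re := LinearEquiv.ofBijective (m.flip x) hR
  set θ : V ≃ₗ[k] V := Le.trans Re.symm with hθ
  have hθx : ∀ a, m (θ a) x = m x a := fun a => Re.apply_symm_apply (Le a)
  have hx : θ x = x := Re.injective (show m (θ x) x = m x x from hθx x)
  let lam : V →ₗ[k] Module.End k V :=
    { toFun := fun a => Le.symm.toLinearMap.comp (m (θ a))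
      map_add' := fun a b => by rw [map_add, map_add, LinearMap.comp_add]
      map_smul' := fun c a => by rw [map_smul, map_smul, LinearMap.comp_smul]; rfl }
  have hlam : ∀ a b, m x (lam a b) = m (θ a) b := fun a b => Le.apply_symm_apply _
  have hlx : lam x = 1 := LinearMap.ext fun b => hL.1 (by rw [hlam, hx]; rfl)
  have hrx : ∀ a, lam a x = a := fun a => hL.1 (by rw [hlam, hθx])
  have hθm : ∀ a b, θ (lam a b) = lam (θ a) (θ b) := by
    intro a b
    refine hL.1 (hR3 ?_)
    show r (m x (θ (lam a b))) x = r (m x (lam (θ a) (θ b))) x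
    rw [hlam, ← hassoc, hθx, hlam, hassoc x (θ a) b, ← hθx (θ a), ← hassoc, ← hassoc, hθx b]
  have hass : ∀ a b, lam a * lam b = lam (lam a b) := by
    intro a b
    refine LinearMap.ext fun c => hL.1 (hL3 ?_)
    show l x (m x (lam a (lam b c))) = l x (m x (lam (lam a b) c))
    rw [hlam, hlam, hassoc x (θ a), ← hθx (θ a), ← hassoc, hlam, hassoc x (θ (lam a b)) c, hθm,
      hlam, ← hassoc]
  let S : Subalgebra k (Module.End k V) := (LinearMap.range lam).toSubalgebra ⟨x, hlx⟩
    (by rintro _ _ ⟨a, rfl⟩ ⟨b, rfl⟩; exact ⟨_, (hass a b).symm⟩)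
  let e : V →ₗ[k] S := lam.codRestrict (Subalgebra.toSubmodule S) fun a => ⟨a, rfl⟩
  have he : Function.Bijective e := by
    refine ⟨fun a b h => ?_, fun s => ?_⟩
    · have h' : lam a = lam b := congrArg Subtype.val h
      rw [← hrx a, ← hrx b, h']
    · obtain ⟨a, ha⟩ := s.2
      exact ⟨a, Subtype.ext ha⟩
  have hdim : finrank k S = finrank k V := (LinearEquiv.ofBijective e he).finrank_eq.symm
  haveI : FiniteDimensional k S := Module.Finite.equiv (LinearEquiv.ofBijective e he)
  have hex : e x = 1 := Subtype.ext hlx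
  have hemul : ∀ a b, e (lam a b) = e a * e b := fun a b => Subtype.ext (hass a b).symm
  -- multiplicative functionals and characters
  have hmult : ∀ χ, IsMult m x θ χ → ∀ a b, χ (lam a b) = χ a * χ b :=
    fun χ hχ a b => hχ.2 a b _ (hlam a b)
  have hmk : ∀ χ : V →ₗ[k] k, χ x = 1 → (∀ a b, χ (lam a b) = χ a * χ b) → IsMult m x θ χ :=
    fun χ h1 h => ⟨h1, fun a b c hc => by
      rw [show c = lam a b from hL.1 (hc.trans (hlam a b).symm), h]⟩
  have hcomp : ∀ χ, IsMult m x θ χ → IsMult m x θ (χ.comp θ.toLinearMap) := by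
    intro χ hχ
    refine hmk _ (by simp [hx, hχ.1]) fun a b => ?_
    show χ (θ (lam a b)) = χ (θ a) * χ (θ b)
    rw [hθm, hmult χ hχ]
  have hsur : Function.Surjective e := he.2
  obtain ⟨φ⟩ : Nonempty (S →ₐ[k] k) := by
    haveI := LocalRankTwo.isArtinian k S
    haveI : Nontrivial S := by
      refine ⟨e x, 0, fun h => hx0 (he.1 ?_)⟩
      rw [h, map_zero]
    obtain ⟨N, d, hd', ⟨f⟩⟩ :=
      IsSemisimpleRing.exists_algEquiv_pi_matrix_of_isAlgClosed k (S ⧸ Ring.jacobson S)
    obtain ⟨i⟩ : Nonempty (Fin N) := by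
      by_contra hN
      haveI : IsEmpty (Fin N) := not_nonempty_iff.1 hN
      haveI : Nontrivial (S ⧸ Ring.jacobson S) :=
        Ideal.Quotient.nontrivial_iff.2 (fun h => by
          obtain ⟨j, hj⟩ := LocalRankTwo.isNilpotent_of_mem k (x := (1 : S))
            (by rw [h]; exact Submodule.mem_top)
          rw [one_pow] at hj
          exact one_ne_zero hj)
      exact zero_ne_one (f.injective (Subsingleton.elim _ _) : (0 : S ⧸ Ring.jacobson S) = 1)
    let π : S →ₐ[k] Matrix (Fin (d i)) (Fin (d i)) k :=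
      (Pi.evalAlgHom k (fun i => Matrix (Fin (d i)) (Fin (d i)) k) i).comp
        (f.toAlgHom.comp (Ideal.Quotient.mkₐ k (Ring.jacobson S)))
    have hπ : Function.Surjective π :=
      (Function.surjective_eval i).comp (f.surjective.comp Ideal.Quotient.mk_surjective)
    have h1 := LinearMap.finrank_le_finrank_of_surjective (f := π.toLinearMap) hπ
    rw [Module.finrank_matrix, Module.finrank_self, Fintype.card_fin, mul_one, hdim] at h1
    have hdi : d i = 1 := by
      rcases Nat.lt_or_ge (d i) 2 with h | h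
      · have := Nat.pos_of_ne_zero (hd' i).out
        omega
      · have := Nat.mul_le_mul h h
        omega
    haveI : Unique (Fin (d i)) := (finCongr hdi).unique
    exact ⟨(AlgHom.ofLinearMap (Matrix.entryLinearMap k k (default : Fin (d i)) default)
      (by simp) (fun A B => by
        simp only [Matrix.entryLinearMap_apply, Matrix.mul_apply]
        exact (Fintype.sum_eq_single (default : Fin (d i)) fun j hj =>
          absurd (Subsingleton.elim j default) hj))).comp π⟩
  set χ : V →ₗ[k] k := φ.toLinearMap.comp e with hχd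
  have hχ : IsMult m x θ χ := by
    refine hmk χ ?_ fun a b => ?_
    · show φ (e x) = 1
      rw [hex, map_one]
    · show φ (e (lam a b)) = φ (e a) * φ (e b)
      rw [hemul, map_mul]
  have hit : ∀ i : ℕ, IsMult m x θ (χ.comp (θ.toLinearMap ^ i)) := by
    intro i
    induction i with
    | zero => rwa [pow_zero, Module.End.one_eq_id, LinearMap.comp_id]
    | succ i ih => rw [pow_succ, Module.End.mul_eq_comp, ← LinearMap.comp_assoc]; exact hcomp _ ih
  refine ⟨θ, hθx, hx, fun a b c hc => ?_, χ, hχ, hcomp χ hχ, ?_, ?_⟩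
  · rw [show c = lam a b from hL.1 (hc.trans (hlam a b).symm), hθm, hlam]
  · have := hit 2
    rwa [pow_two, Module.End.mul_eq_comp] at this
  -- two iterates coincide
  let ev := (LinearEquiv.ofBijective e he).symm
  have hev : ∀ a, ev (e a) = a := fun a => (LinearEquiv.ofBijective e he).symm_apply_apply a
  have hchar : ∀ i : ℕ, ∃ ψ : S →ₐ[k] k, ∀ a, ψ (e a) = χ ((θ.toLinearMap ^ i) a) := by
    intro i
    refine ⟨AlgHom.ofLinearMap ((χ.comp (θ.toLinearMap ^ i)).comp ev.toLinearMap) ?_ ?_,
      fun a => ?_⟩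
    · show (χ.comp _) (ev 1) = 1
      rw [← hex, hev]
      exact (hit i).1
    · intro s t
      obtain ⟨a, rfl⟩ := hsur s
      obtain ⟨b, rfl⟩ := hsur t
      show (χ.comp _) (ev _) = (χ.comp _) (ev _) * (χ.comp _) (ev _)
      rw [← hemul, hev, hev, hev]
      exact hmult _ (hit i) a b
    · show (χ.comp _) (ev (e a)) = _
      rw [hev]; rfl
  choose ψ hψ using hchar
  have hcard := card_algHom_le_finrank k S k
  rw [hdim] at hcard
  haveI := Fintype.ofFinite (S →ₐ[k] k)
  rw [Nat.card_eq_fintype_card] at hcard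
  obtain ⟨i, j, hij, heq⟩ := Fintype.exists_ne_map_eq_of_card_lt
    (fun i : Fin (finrank k V + 1) => ψ i) (by rw [Fintype.card_fin]; omega)
  wlog hlt : (i : ℕ) < j generalizing i j
  · exact this j i hij.symm heq.symm
      (lt_of_le_of_ne (not_lt.1 hlt) (Fin.val_ne_of_ne hij.symm))
  refine ⟨j - i, by omega, by omega, LinearMap.ext fun a => ?_⟩
  obtain ⟨b, rfl⟩ : ∃ b, (θ.toLinearMap ^ (i : ℕ)) b = a := by
    rw [Module.End.coe_pow]
    exact θ.surjective.iterate i a
  show χ ((θ.toLinearMap ^ ((j : ℕ) - i)) ((θ.toLinearMap ^ (i : ℕ)) b)) = _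
  rw [← Module.End.mul_apply, ← pow_add, Nat.sub_add_cancel hlt.le, ← hψ, ← hψ, heq]

end Cfsg.Agent.Blocks.FiveChars
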