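import Cfsg.Agent.Lib.Blocks.FiveChars.Pencil
import Cfsg.Agent.Lib.Blocks.FiveChars.Setting
import Mathlib.LinearAlgebra.Quotient.Bilinear

/-!
# Generators of local symmetric algebras

* powers of a single generator modulo the filtration;
* the graded product in degrees one to three as linear maps on the quotients;
* two generators `x`, `y` with all products multiples of `[x, y]`: no degree three.
-/

namespace Cfsg.Agent.Blocks.FiveChars

open Module (finrank)

variable {k R : Type*} [Field k] [Ring R] [Algebra k R]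

/-- The quotient `A ⧸ A'`. -/
abbrev Lay (A A' : Submodule k R) := A ⧸ A'.comap A.subtype

/-- Multiplication between quotients. -/
noncomputable def qmul (A A' B B' D D' : Submodule k R) (hD : ∀ a ∈ A, ∀ b ∈ B, a * b ∈ D)
    (hl : ∀ a ∈ A', ∀ b ∈ B, a * b ∈ D') (hr : ∀ a ∈ A, ∀ b ∈ B', a * b ∈ D') :
    Lay A A' →ₗ[k] Lay B B' →ₗ[k] Lay D D' :=
  (LinearMap.mk₂ k (fun (a : A) (b : B) =>
      (Submodule.Quotient.mk (⟨a.1 * b.1, hD _ a.2 _ b.2⟩ : D) : Lay D D'))
    (fun a a' b => by rw [← Submodule.Quotient.mk_add]; congr 1; exact Subtype.ext (add_mul _ _ _))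
    (fun s a b => by
      rw [← Submodule.Quotient.mk_smul]; congr 1; exact Subtype.ext (smul_mul_assoc _ _ _))
    (fun a b b' => by rw [← Submodule.Quotient.mk_add]; congr 1; exact Subtype.ext (mul_add _ _ _))
    (fun s a b => by
      rw [← Submodule.Quotient.mk_smul]; congr 1; exact Subtype.ext (mul_smul_comm _ _ _))).liftQ₂
    (A'.comap A.subtype) (B'.comap B.subtype)
    (fun a ha => LinearMap.ext fun b => (Submodule.Quotient.mk_eq_zero _).2 (hl _ ha _ b.2))
    (fun b hb => LinearMap.ext fun a => (Submodule.Quotient.mk_eq_zero _).2 (hr _ a.2 _ hb))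

theorem qmul_mk (A A' B B' D D' : Submodule k R) (hD : ∀ a ∈ A, ∀ b ∈ B, a * b ∈ D)
    (hl : ∀ a ∈ A', ∀ b ∈ B, a * b ∈ D') (hr : ∀ a ∈ A, ∀ b ∈ B', a * b ∈ D') (a : A) (b : B) :
    qmul A A' B B' D D' hD hl hr (Submodule.Quotient.mk a) (Submodule.Quotient.mk b) =
      Submodule.Quotient.mk (⟨a.1 * b.1, hD _ a.2 _ b.2⟩ : D) := rfl

/-- A subspace spanned modulo `A'` spans the quotient. -/
theorem span_lay {A A' : Submodule k R} (s : Set R) (hs : s ⊆ A) (hA : A ≤ Submodule.span k s ⊔ A')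
    (T : Submodule k (Lay A A')) (hT : ∀ x (hx : x ∈ s), Submodule.Quotient.mk (⟨x, hs hx⟩ : A) ∈ T) :
    T = ⊤ := by
  refine top_unique fun q _ => ?_
  obtain ⟨⟨a, ha⟩, rfl⟩ := Submodule.Quotient.mk_surjective _ q
  obtain ⟨u, hu, e, he, rfl⟩ := Submodule.mem_sup.1 (hA ha)
  have hspan : Submodule.span k s ≤ A := Submodule.span_le.2 hs
  have heA : e ∈ A := by simpa using sub_mem ha (hspan hu)
  suffices key : ∀ u (hu : u ∈ Submodule.span k s),
      Submodule.Quotient.mk (⟨u, hspan hu⟩ : A) ∈ T by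
    rw [show (⟨u + e, ha⟩ : A) = ⟨u, hspan hu⟩ + ⟨e, heA⟩ from rfl, Submodule.Quotient.mk_add,
      show Submodule.Quotient.mk (⟨e, heA⟩ : A) = (0 : Lay A A') from
        (Submodule.Quotient.mk_eq_zero _).2 he, add_zero]
    exact key u hu
  intro u hu
  induction hu using Submodule.span_induction with
  | mem x hx => exact hT x hx
  | zero => exact (show Submodule.Quotient.mk (0 : A) ∈ T by simp)
  | add x y hx hy ihx ihy =>
    exact (show Submodule.Quotient.mk ((⟨x, hspan hx⟩ : A) + ⟨y, hspan hy⟩) ∈ T by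
      rw [Submodule.Quotient.mk_add]; exact add_mem ihx ihy)
  | smul c x hx ih =>
    exact (show Submodule.Quotient.mk (c • (⟨x, hspan hx⟩ : A)) ∈ T by
      rw [Submodule.Quotient.mk_smul]; exact T.smul_mem c ih)

variable {ε : R} {C N : Submodule k R} {τ : R →ₗ[k] k} {L : ℕ}

/-- Everything spanned by the powers of `v` commutes. -/
theorem commute_of_mem_span {v a b : R} (ha : a ∈ Submodule.span k (Set.range fun j : ℕ => v ^ j))
    (hb : b ∈ Submodule.span k (Set.range fun j : ℕ => v ^ j)) : Commute a b := by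
  induction ha using Submodule.span_induction with
  | mem x hx =>
    obtain ⟨i, rfl⟩ := hx
    induction hb using Submodule.span_induction with
    | mem y hy => obtain ⟨j, rfl⟩ := hy; exact Commute.pow_pow (Commute.refl v) i j
    | zero => exact Commute.zero_right _
    | add y z _ _ hy hz => exact hy.add_right hz
    | smul c y _ hy => exact hy.smul_right c
  | zero => exact Commute.zero_left _
  | add x y _ _ hx hy => exact hx.add_left hy
  | smul c x _ hx => exact hx.smul_left c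

namespace LocalSym

/-- One generator in degree `i` gives one in every later degree. -/
theorem pow_step (_h : LocalSym ε C N τ L) {v : R} (hv : v ∈ N) {i : ℕ} (hi : 1 ≤ i) (hi2 : i ≤ 2)
    (hbase : N ^ i ≤ Submodule.span k {v ^ i} ⊔ N ^ (i + 1))
    (hone : ∀ a ∈ N, v * a ∈ Submodule.span k {v ^ 2} ⊔ N ^ 3) {j : ℕ} (hj : i ≤ j) :
    N ^ j ≤ Submodule.span k {v ^ j} ⊔ N ^ (j + 1) := by
  induction j, hj using Nat.le_induction with
  | base => exact hbase
  | succ j hj ih =>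
    rw [pow_succ, Submodule.mul_le]
    intro x hx a ha
    obtain ⟨u, hu, e, he, rfl⟩ := Submodule.mem_sup.1 (ih hx)
    obtain ⟨c, rfl⟩ := Submodule.mem_span_singleton.1 hu
    rw [add_mul, smul_mul_assoc]
    refine add_mem (Submodule.smul_mem _ c ?_) (Submodule.mem_sup_right ?_)
    · obtain ⟨u', hu', e', he', hsum⟩ := Submodule.mem_sup.1 (hone a ha)
      obtain ⟨c', rfl⟩ := Submodule.mem_span_singleton.1 hu'
      obtain ⟨j', rfl⟩ : ∃ j', j = j' + 1 := ⟨j - 1, by omega⟩
      rw [show v ^ (j' + 1) * a = v ^ j' * (v * a) by rw [pow_succ, mul_assoc], ← hsum, mul_add,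
        mul_smul_comm, ← pow_add]
      exact add_mem (Submodule.mem_sup_left (Submodule.smul_mem _ _
        (Submodule.mem_span_singleton_self _)))
        (Submodule.mem_sup_right (by
          rw [show j' + 1 + 1 + 1 = j' + 3 from rfl]; exact mul_mem_pow (pow_mem hv j') he'))
    · rw [pow_succ]; exact Submodule.mul_mem_mul he ha

/-- The powers of `v` span `N ^ i`. -/
theorem pow_le_span (h : LocalSym ε C N τ L) {v : R} {i : ℕ}
    (hstep : ∀ j, i ≤ j → N ^ j ≤ Submodule.span k {v ^ j} ⊔ N ^ (j + 1)) :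
    ∀ j, i ≤ j → N ^ j ≤ Submodule.span k {z | ∃ l, j ≤ l ∧ z = v ^ l} := by
  have key : ∀ n j, L + 1 ≤ j + n → i ≤ j →
      N ^ j ≤ Submodule.span k {z | ∃ l, j ≤ l ∧ z = v ^ l} := fun n => by
    induction n with
    | zero => exact fun j hj _ => by rw [h.pow_eq_bot (by omega)]; exact bot_le
    | succ n ih =>
      intro j hj hij
      refine (hstep j hij).trans (sup_le ((Submodule.span_singleton_le_iff_mem _ _).2
        (Submodule.subset_span ⟨j, le_rfl, rfl⟩)) ((ih (j + 1) (by omega) (by omega)).trans ?_))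
      exact Submodule.span_mono fun z ⟨l, hl, e⟩ => ⟨l, by omega, e⟩
  exact fun j hj => key (L + 1) j (by omega) hj

/-- With one generator the algebra is commutative. -/
theorem comm_of_one_gen (h : LocalSym ε C N τ L) {v : R} (hv : v ∈ N)
    (hgen : N ≤ Submodule.span k {v} ⊔ N ^ 2) : ∀ a ∈ N, ∀ b ∈ N, a * b = b * a := by
  have hone : ∀ a ∈ N, v * a ∈ Submodule.span k {v ^ 2} ⊔ N ^ 3 := fun a ha => by
    obtain ⟨u, hu, e, he, rfl⟩ := Submodule.mem_sup.1 (hgen ha)
    obtain ⟨c, rfl⟩ := Submodule.mem_span_singleton.1 hu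
    rw [mul_add, mul_smul_comm, ← pow_two]
    exact add_mem (Submodule.mem_sup_left (Submodule.smul_mem _ _
      (Submodule.mem_span_singleton_self _)))
      (Submodule.mem_sup_right (mul_mem_pow (by rwa [pow_one] : v ∈ N ^ 1) he))
  have hspan := h.pow_le_span (v := v) (i := 1) fun j hj =>
    h.pow_step hv le_rfl (by norm_num) (by simpa using hgen) hone hj
  have hall : N ≤ Submodule.span k (Set.range fun j : ℕ => v ^ j) :=
    le_trans (le_of_eq (pow_one N).symm) ((hspan 1 le_rfl).trans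
      (Submodule.span_mono (by rintro _ ⟨l, -, rfl⟩; exact ⟨l, rfl⟩)))
  exact fun a ha b hb => commute_of_mem_span (hall ha) (hall hb)

/-- Two generators modulo `nul 1` all of whose products are multiples of their commutator. -/
theorem false_of_two_cubic (h : LocalSym ε C N τ L) (hL : 3 ≤ L) {x y : R} (hx : x ∈ N) (hy : y ∈ N)
    (hgen : N ≤ Submodule.span k {x, y} ⊔ nul N τ L 1)
    (hsq : N ^ 2 ≤ Submodule.span k {x * y - y * x} ⊔ nul N τ L 2) : False := by
  set z := x * y - y * x with hz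
  set E₂ := nul N τ L 2
  set E₃ := nul N τ L 3
  have hN2 : ∀ {a b}, a ∈ N → b ∈ N → a * b ∈ N ^ 2 := fun ha hb => by
    rw [pow_two]; exact Submodule.mul_mem_mul ha hb
  have hz2 : z ∉ E₂ := fun hm => h.false_of_pow_le_nul (i := 2) (by omega)
    (hsq.trans (sup_le ((Submodule.span_singleton_le_iff_mem _ _).2 hm) le_rfl))
  have hco : ∀ u ∈ N, ∀ v ∈ N, ∃ c : k, ∃ r ∈ E₂, u * v = c • z + r := fun u hu v hv => by
    obtain ⟨w, hw, r, hr, e⟩ := Submodule.mem_sup.1 (hsq (hN2 hu hv))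
    obtain ⟨c, rfl⟩ := Submodule.mem_span_singleton.1 hw
    exact ⟨c, r, hr, e.symm⟩
  obtain ⟨a, r1, hr1, hxx⟩ := hco x hx x hx
  obtain ⟨b, r2, hr2, hxy⟩ := hco x hx y hy
  obtain ⟨c, r3, hr3, hyx⟩ := hco y hy x hx
  obtain ⟨d, r4, hr4, hyy⟩ := hco y hy y hy
  have hbc : b = c + 1 := by
    by_contra hne
    refine hz2 ?_
    have h1 : (b - c - 1) • z = r3 - r2 := by
      have h := congrArg₂ (· - ·) hxy hyx
      simp only [← hz] at h
      rw [sub_smul, sub_smul, one_smul]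
      conv_lhs => arg 2; rw [h]
      abel
    have h2 := E₂.smul_mem (b - c - 1)⁻¹ (h1 ▸ sub_mem hr3 hr2)
    rwa [smul_smul, inv_mul_cancel₀ (fun h => hne (by linear_combination h)), one_smul] at h2
  let π : R →ₗ[k] R ⧸ E₃ := E₃.mkQ
  have hπ : ∀ r ∈ E₂, ∀ w ∈ N, π (r * w) = 0 ∧ π (w * r) = 0 := fun r hr w hw =>
    ⟨(Submodule.Quotient.mk_eq_zero _).2 (h.nul_mul_one (by omega) hr hw).1,
      (Submodule.Quotient.mk_eq_zero _).2 (h.nul_mul_one (by omega) hr hw).2⟩
  have hassoc : ∀ {u v w : R} {c₁ c₂ : k} {s t : R}, u ∈ N → w ∈ N → s ∈ E₂ → t ∈ E₂ →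
      u * v = c₁ • z + s → v * w = c₂ • z + t → c₁ • π (z * w) = c₂ • π (u * z) := by
    intro u v w c₁ c₂ s t hu hw hs ht h1 h2
    have e : (u * v) * w = u * (v * w) := mul_assoc u v w
    rw [h1, h2, add_mul, mul_add, smul_mul_assoc, mul_smul_comm] at e
    have := congrArg π e
    rwa [map_add, map_add, map_smul, map_smul, (hπ s hs w hw).1, (hπ t ht u hu).2, add_zero,
      add_zero] at this
  obtain ⟨hp, hq⟩ := LocalSymmetric.cube_zero hbc (hassoc hx hx hr1 hr1 hxx hxx) (hassoc hx hy hr1 hr2 hxx hxy)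
    (hassoc hx hx hr2 hr3 hxy hyx) (hassoc hx hy hr2 hr4 hxy hyy)
    (hassoc hy hx hr3 hr1 hyx hxx) (hassoc hy hy hr3 hr2 hyx hxy)
    (hassoc hy hx hr4 hr3 hyy hyx) (hassoc hy hy hr4 hr4 hyy hyy)
  refine h.false_of_pow_le_nul (i := 3) hL ?_
  rw [pow_succ' N 2, Submodule.mul_le]
  intro u hu v hv
  obtain ⟨u', hu', e, he, rfl⟩ := Submodule.mem_sup.1 (hgen hu)
  obtain ⟨α, β, rfl⟩ := Submodule.mem_span_pair.1 hu'
  have h1 : e * v ∈ E₃ := (h.nul_mul (j := 2) (by omega) he hv).1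
  obtain ⟨w, hw, s, hs, rfl⟩ := Submodule.mem_sup.1 (hsq hv)
  obtain ⟨γ, rfl⟩ := Submodule.mem_span_singleton.1 hw
  have h2 : (α • x + β • y) * s ∈ E₃ :=
    (h.nul_mul_one (by omega) hs (add_mem (N.smul_mem α hx) (N.smul_mem β hy))).2
  rw [← Submodule.Quotient.mk_eq_zero]
  show π _ = 0
  rw [add_mul, map_add, show π (e * (γ • z + s)) = 0 from (Submodule.Quotient.mk_eq_zero _).2 h1,
    add_zero, mul_add, map_add, show π ((α • x + β • y) * s) = 0 from
      (Submodule.Quotient.mk_eq_zero _).2 h2, add_zero, add_mul, map_add, smul_mul_assoc,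
    smul_mul_assoc, mul_smul_comm, mul_smul_comm, map_smul, map_smul, map_smul, map_smul, hp, hq,
    smul_zero, smul_zero, smul_zero, add_zero]

variable [FiniteDimensional k R]

/-- The dimension of a layer. -/
theorem finrank_lay {A A' : Submodule k R} (hle : A' ≤ A) :
    finrank k (Lay A A') + finrank k A' = finrank k A := by
  rw [← (Submodule.comapSubtypeEquivOfLe hle).finrank_eq]
  exact Submodule.finrank_quotient_add_finrank _

theorem nul_one_eq (h : LocalSym ε C N τ L) (hd : finrank k (nul N τ L 1) ≤ finrank k ↥(N ^ 2)) :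
    nul N τ L 1 = N ^ 2 :=
  (Submodule.eq_of_le_of_finrank_le (h.succ_le_nul le_rfl h.one_le) hd).symm

/-- Products in degree one, two and three. -/
theorem graded (h : LocalSym ε C N τ L) (hL : 3 ≤ L) :
    ∃ (m : Lay N (nul N τ L 1) →ₗ[k] Lay N (nul N τ L 1) →ₗ[k] Lay (N ^ 2) (nul N τ L 2))
      (l : Lay N (nul N τ L 1) →ₗ[k] Lay (N ^ 2) (nul N τ L 2) →ₗ[k] Lay (N ^ 3) (nul N τ L 3))
      (r : Lay (N ^ 2) (nul N τ L 2) →ₗ[k] Lay N (nul N τ L 1) →ₗ[k] Lay (N ^ 3) (nul N τ L 3)),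
      (∀ (a b : N) (hab : a.1 * b.1 ∈ N ^ 2), m (Submodule.Quotient.mk a) (Submodule.Quotient.mk b) =
        Submodule.Quotient.mk (⟨a.1 * b.1, hab⟩ : ↥(N ^ 2))) ∧
      (∀ (a : N) (b : ↥(N ^ 2)) (hab : a.1 * b.1 ∈ N ^ 3),
        l (Submodule.Quotient.mk a) (Submodule.Quotient.mk b) =
          Submodule.Quotient.mk (⟨a.1 * b.1, hab⟩ : ↥(N ^ 3))) ∧
      (∀ (a : ↥(N ^ 2)) (b : N) (hab : a.1 * b.1 ∈ N ^ 3),
        r (Submodule.Quotient.mk a) (Submodule.Quotient.mk b) =
          Submodule.Quotient.mk (⟨a.1 * b.1, hab⟩ : ↥(N ^ 3))) ∧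
      (∀ a b c, l a (m b c) = r (m a b) c) ∧ (∀ u, (∀ v, m u v = 0) → u = 0) ∧
      (∀ v, (∀ u, m u v = 0) → v = 0) := by
  have h1 : ∀ {a}, a ∈ N → a ∈ N ^ 1 := fun ha => by rwa [pow_one]
  set m := qmul N (nul N τ L 1) N (nul N τ L 1) (N ^ 2) (nul N τ L 2)
    (fun a ha b hb => mul_mem_pow (h1 ha) (h1 hb))
    (fun a ha b hb => (h.nul_mul_one (by omega) ha hb).1)
    (fun a ha b hb => (h.nul_mul_one (by omega) hb ha).2) with hm
  set l := qmul N (nul N τ L 1) (N ^ 2) (nul N τ L 2) (N ^ 3) (nul N τ L 3)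
    (fun a ha b hb => mul_mem_pow (h1 ha) hb)
    (fun a ha b hb => (h.nul_mul (j := 2) (by omega) ha hb).1)
    (fun a ha b hb => (h.nul_mul_one (by omega) hb ha).2)
  set r := qmul (N ^ 2) (nul N τ L 2) N (nul N τ L 1) (N ^ 3) (nul N τ L 3)
    (fun a ha b hb => mul_mem_pow ha (h1 hb))
    (fun a ha b hb => (h.nul_mul_one (by omega) ha hb).1)
    (fun a ha b hb => (h.nul_mul (j := 2) (by omega) hb ha).2)
  refine ⟨m, l, r, fun a b _ => rfl, fun a b _ => rfl, fun a b _ => rfl, ?_, ?_, ?_⟩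
  · intro a b c
    obtain ⟨a, rfl⟩ := Submodule.Quotient.mk_surjective _ a
    obtain ⟨b, rfl⟩ := Submodule.Quotient.mk_surjective _ b
    obtain ⟨c, rfl⟩ := Submodule.Quotient.mk_surjective _ c
    show Submodule.Quotient.mk _ = Submodule.Quotient.mk _
    congr 1
    exact Subtype.ext (mul_assoc _ _ _).symm
  · intro u hu
    obtain ⟨u, rfl⟩ := Submodule.Quotient.mk_surjective _ u
    refine (Submodule.Quotient.mk_eq_zero _).2 (mem_nul.2 ⟨h1 u.2, fun c hc => ?_⟩)
    rw [show L - 1 = 1 + (L - 2) by omega, pow_add, pow_one] at hc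
    induction hc using Submodule.mul_induction_on' with
    | mem_mul_mem a ha d hd =>
      rw [← mul_assoc]
      exact (mem_nul.1 ((Submodule.Quotient.mk_eq_zero _).1 (hu (Submodule.Quotient.mk ⟨a, ha⟩)))).2
        d hd
    | add a _ d _ iha ihd => rw [mul_add, map_add, iha, ihd, add_zero]
  · intro v hv
    obtain ⟨v, rfl⟩ := Submodule.Quotient.mk_surjective _ v
    refine (Submodule.Quotient.mk_eq_zero _).2 (mem_nul.2 ⟨h1 v.2, fun c hc => ?_⟩)
    rw [show L - 1 = (L - 2) + 1 by omega, pow_add, pow_one] at hc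
    induction hc using Submodule.mul_induction_on' with
    | mem_mul_mem d hd a ha =>
      rw [h.tr, mul_assoc, h.tr]
      exact (mem_nul.1 ((Submodule.Quotient.mk_eq_zero _).1 (hv (Submodule.Quotient.mk ⟨a, ha⟩)))).2
        d hd
    | add a _ d _ iha ihd => rw [mul_add, map_add, iha, ihd, add_zero]

end LocalSym

end Cfsg.Agent.Blocks.FiveChars
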